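import Cfsg.Agent.Lib.PrimeOrderElt.Construct
/-
Reduction of elements of prime order modulo scalars in SL_n(q).
* `reduce`               : a scalar power is a power, or `r ∣ q - 1` and it is no `r`-th power
* `no_nonpower_iff`      : when the second case cannot occur
* `exists_dims_nonpower` : invariant subspaces in the second case have all dimensions divisible by `r`
-/

set_option autoImplicit false
set_option linter.style.haveILetI false

namespace Cfsg.Agent.PrimeOrderElt

open Module Polynomial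

variable {F : Type*} [Field F] {r : ℕ} [Fact r.Prime]

section
variable {V : Type*} [AddCommGroup V] [Module F V] [FiniteDimensional F V]

theorem exists_dims_nonpower (hr : (r : F) ≠ 0) {x : Module.End F V} {z : F} (hz : ∀ b : F, b ^ r ≠ z)
    (hx : x ^ r = z • (1 : Module.End F V)) {W : Submodule F V} (hW : Inv x W) :
    ∀ k : ℕ, k * r ≤ finrank F W → ∃ U : Submodule F V, Inv x U ∧ U ≤ W ∧ finrank F U = k * r := by
  have hz0 : z ≠ 0 := fun h => hz 0 (by rw [h, zero_pow (Fact.out : r.Prime).ne_zero])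
  intro k
  induction k with
  | zero =>
    intro _
    exact ⟨⊥, (Submodule.map_bot x).le, bot_le, by rw [finrank_bot, Nat.zero_mul]⟩
  | succ k ih =>
    intro hk
    rw [Nat.add_mul, Nat.one_mul] at hk
    obtain ⟨U, hU, hUW, hUd⟩ := ih (by omega)
    obtain ⟨U', hU', hU'W, hinf, hsup⟩ := exists_invariant_complement hr hz0 hx hW hU hUW
    have hne : U' ≠ ⊥ := fun h => by
      rw [h, sup_bot_eq] at hsup
      have := (Fact.out : r.Prime).pos
      rw [hsup] at hUd
      omega
    obtain ⟨v, hv, hv0⟩ := Submodule.exists_mem_ne_zero_of_ne_bot hne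
    set S := Submodule.span F (Set.range fun j : Fin r => (x ^ (j : ℕ)) v) with hS
    have hpowmem : ∀ j, (x ^ j) v ∈ U' := by
      intro j
      induction j with
      | zero => simpa using hv
      | succ j ihj => rw [pow_succ', Module.End.mul_apply]; exact inv_apply hU' ihj
    have hSU' : S ≤ U' := Submodule.span_le.mpr (by rintro _ ⟨j, rfl⟩; exact hpowmem j)
    have hSinv : Inv x S := by
      refine Submodule.map_le_iff_le_comap.mpr (Submodule.span_le.mpr ?_)
      rintro _ ⟨j, rfl⟩
      show x ((x ^ (j : ℕ)) v) ∈ S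
      rw [← Module.End.mul_apply, ← pow_succ']
      rcases Nat.lt_or_ge ((j : ℕ) + 1) r with h | h
      · exact Submodule.subset_span ⟨⟨_, h⟩, rfl⟩
      · rw [show (j : ℕ) + 1 = r by omega, hx, LinearMap.smul_apply, Module.End.one_apply]
        exact S.smul_mem z (Submodule.subset_span ⟨⟨0, (Fact.out : r.Prime).pos⟩, by simp⟩)
    have hSne : S ≠ ⊥ := fun h => hv0 <| by
      have : v ∈ S := Submodule.subset_span ⟨⟨0, (Fact.out : r.Prime).pos⟩, by simp⟩
      rwa [h, Submodule.mem_bot] at this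
    have hSd : finrank F S = r := by
      refine Nat.le_antisymm ?_ (Nat.le_of_dvd ?_ (dvd_finrank_of_nonpower Fact.out hz hx hSinv))
      · exact (finrank_range_le_card _).trans_eq (Fintype.card_fin r)
      · have := Submodule.nontrivial_iff_ne_bot.mpr hSne
        exact finrank_pos
    refine ⟨U ⊔ S, inv_sup hU hSinv, sup_le hUW (hSU'.trans hU'W), ?_⟩
    have := Submodule.finrank_sup_add_finrank_inf_eq U S
    rw [le_bot_iff.mp ((inf_le_inf_left U hSU').trans hinf.le), finrank_bot, hUd, hSd] at this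
    rw [Nat.add_mul, Nat.one_mul]
    omega

end

variable [Fintype F] {n : ℕ}

theorem orderOf_card_eq_one_iff : orderOf (Fintype.card F : ZMod r) = 1 ↔ r ∣ Fintype.card F - 1 := by
  have := dvd_pow_sub_one_iff (r := r) (F := F) 1
  rw [pow_one, Nat.dvd_one] at this
  exact this.symm

theorem exists_root (h : ¬ r ∣ Fintype.card F - 1) (z : F) : ∃ b : F, b ^ r = z := by
  classical
  by_cases hz : z = 0
  · exact ⟨0, by rw [hz, zero_pow (Fact.out : r.Prime).ne_zero]⟩
  · obtain ⟨u, hu⟩ := (powCoprime (G := Fˣ) (n := r) (by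
      rw [Nat.card_eq_fintype_card, Fintype.card_units]
      exact ((Nat.Prime.coprime_iff_not_dvd Fact.out).mpr h).symm)).surjective (Units.mk0 z hz)
    exact ⟨u, by rw [← Units.val_pow_eq_pow_val]; exact congrArg Units.val hu⟩

theorem reduce (hn : 0 < n) (x : Matrix.SpecialLinearGroup (Fin n) F)
    (hx : ∃ c : F, ((x ^ r : Matrix.SpecialLinearGroup (Fin n) F) : Matrix (Fin n) (Fin n) F) =
      c • (1 : Matrix (Fin n) (Fin n) F)) :
    (∃ y : Module.End F (Fin n → F), y ^ r = 1 ∧ ∀ W : Submodule F (Fin n → F),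
        Inv (Matrix.toLin' (x : Matrix (Fin n) (Fin n) F) : Module.End F (Fin n → F)) W ↔ Inv y W) ∨
      (r ∣ Fintype.card F - 1 ∧ ∃ z : F, (∀ b : F, b ^ r ≠ z) ∧
        (Matrix.toLin' (x : Matrix (Fin n) (Fin n) F) : Module.End F (Fin n → F)) ^ r =
          z • (1 : Module.End F (Fin n → F))) := by
  obtain ⟨c, hc⟩ := hx
  have hc0 : c ≠ 0 := fun h => by
    have : Nonempty (Fin n) := ⟨⟨0, hn⟩⟩
    have hd := congrArg Matrix.det hc
    rw [Matrix.SpecialLinearGroup.det_coe, h, zero_smul, Matrix.det_zero] at hd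
    exact one_ne_zero hd
  rw [pow_eq_smul_iff] at hc
  by_cases hp : ∃ b : F, b ^ r = c
  · obtain ⟨b, rfl⟩ := hp
    have hb : b ≠ 0 := fun h => hc0 (by rw [h, zero_pow (Fact.out : r.Prime).ne_zero])
    exact Or.inl ⟨_, pow_eq_scalar_lift hb hc, fun W => (invariant_iff_smul _ (inv_ne_zero hb) W).symm⟩
  · push Not at hp
    refine Or.inr ⟨?_, c, hp, hc⟩
    by_contra h
    obtain ⟨b, hb⟩ := exists_root h c
    exact hp b hb

omit [Fact r.Prime] [Fintype F] in
theorem nonscalar_of_nonpower (hn : 0 < n) {x : Matrix.SpecialLinearGroup (Fin n) F} {z : F}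
    (hz : ∀ b : F, b ^ r ≠ z)
    (hx : (Matrix.toLin' (x : Matrix (Fin n) (Fin n) F) : Module.End F (Fin n → F)) ^ r =
      z • (1 : Module.End F (Fin n → F))) (c : F) :
    (x : Matrix (Fin n) (Fin n) F) ≠ c • (1 : Matrix (Fin n) (Fin n) F) := by
  intro h
  rw [← toLin'_eq_smul_one_iff] at h
  rw [h, _root_.smul_pow, one_pow] at hx
  have := congrFun (LinearMap.congr_fun hx (Pi.single ⟨0, hn⟩ 1)) ⟨0, hn⟩
  exact hz c (by simpa using this)

/-- The scalar of an element of prime order modulo scalars is always a power. -/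
theorem no_nonpower_iff (hn : 2 ≤ n) (hr1 : r ∣ Fintype.card F - 1) :
    (∀ (x : Matrix.SpecialLinearGroup (Fin n) F) (z : F), (∀ b : F, b ^ r ≠ z) →
      (Matrix.toLin' (x : Matrix (Fin n) (Fin n) F) : Module.End F (Fin n → F)) ^ r ≠
        z • (1 : Module.End F (Fin n → F))) ↔
    (padicValNat r n ≤ padicValNat r (Fintype.card F - 1) ∧
      (r = 2 → Even n → Fintype.card F % 4 = 1)) := by
  have hrp : r.Prime := Fact.out
  have hodd : r = 2 → Fintype.card F % 4 = 1 ∨ Fintype.card F % 4 = 3 := fun h => by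
    subst h
    obtain ⟨t, ht⟩ := hr1
    have := Fintype.one_lt_card (α := F)
    omega
  constructor
  · intro h
    by_contra hcon
    have hrn : r ∣ n := by
      by_contra hrn
      refine hcon ⟨by rw [padicValNat.eq_zero_of_not_dvd hrn]; omega, fun h2 he => ?_⟩
      exact absurd (h2 ▸ he.two_dvd) hrn
    obtain ⟨k, rfl⟩ := hrn
    have hk : 0 < k := Nat.pos_of_ne_zero fun h => by subst h; omega
    rw [padicValNat.mul hrp.ne_zero hk.ne', padicValNat_self] at hcon
    obtain ⟨z, hz, hzk⟩ := (exists_scalar_iff hk hr1).mpr (by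
      by_contra h'
      push Not at h'
      refine hcon ⟨by omega, fun h2 _ => ?_⟩
      exact (hodd h2).resolve_right (h'.2 h2))
    obtain ⟨x, hx, -⟩ := exists_monomial (n := r * k) (r := r) hk (Nat.mul_comm r k) z
      (fun h => hz 0 (by rw [h, zero_pow hrp.ne_zero])) hzk
    exact h x z hz hx
  · rintro ⟨hv, h4⟩ x z hz hx
    obtain ⟨hrn, hdet⟩ := det_nonpower hz hx
    rw [Module.finrank_fin_fun] at hrn hdet
    rw [LinearMap.det_toLin', Matrix.SpecialLinearGroup.det_coe] at hdet
    obtain ⟨k, rfl⟩ := hrn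
    have hk : 0 < k := Nat.pos_of_ne_zero fun h => by subst h; omega
    rw [Nat.mul_div_cancel_left _ hrp.pos] at hdet
    rw [padicValNat.mul hrp.ne_zero hk.ne', padicValNat_self] at hv
    rcases (exists_scalar_iff (F := F) hk hr1).mp ⟨z, hz, hdet.symm⟩ with h | ⟨h2, h3⟩
    · omega
    · have := h4 h2 (by subst h2; exact even_two_mul k)
      omega

omit [Fintype F] in
theorem natCast_ne_zero_of_ne {p : ℕ} [Fact p.Prime] [CharP F p] (h : r ≠ p) : (r : F) ≠ 0 := by
  rw [Ne, CharP.cast_eq_zero_iff F p r, Nat.prime_dvd_prime_iff_eq Fact.out Fact.out]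
  exact fun e => h e.symm

theorem not_dvd_pow_sub_one {p : ℕ} [Fact p.Prime] [CharP F p] {e : ℕ} (he : 0 < e) :
    ¬ p ∣ Fintype.card F ^ e - 1 := by
  intro h
  obtain ⟨d, _, hd⟩ := FiniteField.card F p
  have h1 : p ∣ Fintype.card F ^ e := by
    rw [hd, ← pow_mul]
    exact dvd_pow_self p (Nat.mul_ne_zero d.pos.ne' he.ne')
  have := Nat.dvd_sub h1 h
  rw [Nat.sub_sub_self (Nat.one_le_pow _ _ Fintype.card_pos), Nat.dvd_one] at this
  exact (Fact.out : p.Prime).ne_one this

end Cfsg.Agent.PrimeOrderElt
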