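import Cfsg.Agent.Lib.PrimeOrderElt.Semisimple
/-
Witness elements of prime order in SL_n(q).
* `pow_toLin'`             : powers of matrices and of their linear maps
* `exists_type`            : `y^r = 1` with fixed space of dimension `n - s i`, `i = ord_r q ≥ 2`
* `exists_monomial`        : `x^r = z` with `n = k r`, determinant condition `((-1)^(r-1) z)^k = 1`
* `det_nonpower`           : the determinant of any such `x` when `z` is no r-th power
* `exists_scalar`          : when such a `z` exists
-/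

set_option autoImplicit false
set_option linter.style.haveILetI false

namespace Cfsg.Agent.PrimeOrderElt

open Module Polynomial

variable {F : Type*} [Field F] {n : ℕ}

theorem pow_toLin' (M : Matrix (Fin n) (Fin n) F) (r : ℕ) :
    (Matrix.toLin' (M ^ r) : Module.End F (Fin n → F)) = (Matrix.toLin' M : Module.End F (Fin n → F)) ^ r :=
  map_pow (Matrix.toLinAlgEquiv' (R := F) (n := Fin n)) M r

theorem pow_eq_smul_iff (x : Matrix.SpecialLinearGroup (Fin n) F) (r : ℕ) (z : F) :
    ((x ^ r : Matrix.SpecialLinearGroup (Fin n) F) : Matrix (Fin n) (Fin n) F) = z • (1 : Matrix (Fin n) (Fin n) F) ↔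
      (Matrix.toLin' (x : Matrix (Fin n) (Fin n) F) : Module.End F (Fin n → F)) ^ r =
        z • (1 : Module.End F (Fin n → F)) := by
  rw [← pow_toLin', Matrix.SpecialLinearGroup.coe_pow,
    show z • (1 : Module.End F (Fin n → F)) = Matrix.toLin' (z • (1 : Matrix (Fin n) (Fin n) F)) by
      rw [map_smul, Matrix.toLin'_one]; rfl,
    Matrix.toLin'.injective.eq_iff]

theorem toLin'_eq_smul_one_iff (M : Matrix (Fin n) (Fin n) F) (c : F) :
    (Matrix.toLin' M : Module.End F (Fin n → F)) = c • 1 ↔ M = c • (1 : Matrix (Fin n) (Fin n) F) := by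
  rw [show c • (1 : Module.End F (Fin n → F)) = Matrix.toLin' (c • (1 : Matrix (Fin n) (Fin n) F)) by
      rw [map_smul, Matrix.toLin'_one]; rfl, Matrix.toLin'.injective.eq_iff]

variable [Fintype F] {r : ℕ} [Fact r.Prime]

/-- An element of order `r` with exactly `s` non-trivial irreducible constituents. -/
theorem exists_type {p : ℕ} [Fact p.Prime] [CharP F p] (s : ℕ) (hs0 : 0 < s)
    (h2 : 2 ≤ orderOf (Fintype.card F : ZMod r)) (hs : s * orderOf (Fintype.card F : ZMod r) ≤ n) :
    ∃ x : Matrix.SpecialLinearGroup (Fin n) F,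
      (Matrix.toLin' (x : Matrix (Fin n) (Fin n) F) : Module.End F (Fin n → F)) ^ r = 1 ∧
      finrank F (fix (Matrix.toLin' (x : Matrix (Fin n) (Fin n) F) : Module.End F (Fin n → F))) =
        n - s * orderOf (Fintype.card F : ZMod r) ∧
      ∀ c : F, (x : Matrix (Fin n) (Fin n) F) ≠ c • (1 : Matrix (Fin n) (Fin n) F) := by
  classical
  set i := orderOf (Fintype.card F : ZMod r) with hi
  have : NeZero i := ⟨by omega⟩
  let K := FiniteField.Extension F p i
  letI : Fintype K := Fintype.ofFinite K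
  have hKcard : Fintype.card K = Fintype.card F ^ i := by
    rw [← Nat.card_eq_fintype_card, ← Nat.card_eq_fintype_card]; exact FiniteField.natCard_extension F p i
  obtain ⟨u, hu⟩ := exists_prime_orderOf_dvd_card (G := Kˣ) r
    (by rw [Fintype.card_units, hKcard]; exact (dvd_pow_sub_one_iff i).mpr dvd_rfl)
  have hu1 : (u : K) ≠ 1 := by
    intro h
    rw [Units.val_eq_one] at h
    rw [h, orderOf_one] at hu
    exact (Fact.out : r.Prime).ne_one hu.symm
  have hur : (u : K) ^ r = 1 := by rw [← Units.val_pow_eq_pow_val, ← hu, pow_orderOf_eq_one, Units.val_one]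
  let T : Module.End F ((Fin s → K) × (Fin (n - s * i) → F)) :=
    (LinearMap.mulLeft F (fun _ : Fin s => (u : K))).prodMap LinearMap.id
  have hTr : T ^ r = 1 := by
    have hpow : ∀ m : ℕ, ∀ v, (T ^ m) v = ((fun j => (u : K) ^ m * v.1 j), v.2) := by
      intro m
      induction m with
      | zero => intro v; simp
      | succ m ih =>
        intro v
        rw [pow_succ, Module.End.mul_apply, ih]
        refine Prod.ext (funext fun j => ?_) rfl
        show (u : K) ^ m * ((u : K) * v.1 j) = _
        ring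
    refine LinearMap.ext fun v => ?_
    rw [hpow, hur]; simp
  have hfr : finrank F ((Fin s → K) × (Fin (n - s * i) → F)) = finrank F (Fin n → F) := by
    rw [Module.finrank_prod, Module.finrank_pi_fintype, Module.finrank_pi, Module.finrank_pi]
    simp only [K, FiniteField.finrank_extension, Finset.sum_const, Finset.card_univ, Fintype.card_fin, smul_eq_mul]
    omega
  let e := LinearEquiv.ofFinrankEq ((Fin s → K) × (Fin (n - s * i) → F)) (Fin n → F) hfr
  set g : Module.End F (Fin n → F) := e.conj T with hg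
  have hgr : g ^ r = 1 := by
    rw [hg, show e.conj T = e.conjAlgEquiv F T from rfl, ← map_pow, hTr, map_one]
  have hdet : LinearMap.det g = 1 := by
    have h1 : LinearMap.det g ^ r = 1 := by rw [← map_pow, hgr, map_one]
    by_contra hne
    have h0 : LinearMap.det g ≠ 0 := fun h => by
      rw [h, zero_pow (Fact.out : r.Prime).ne_zero] at h1; exact zero_ne_one h1
    have hord : orderOf (Units.mk0 _ h0) = r := by rw [← orderOf_units, Units.val_mk0]; exact orderOf_eq_prime h1 hne
    have h3 : r ∣ Fintype.card F ^ 1 - 1 := by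
      rw [pow_one, ← Fintype.card_units, ← hord]; exact orderOf_dvd_card
    rw [dvd_pow_sub_one_iff, Nat.dvd_one] at h3
    omega
  refine ⟨⟨LinearMap.toMatrix' g, by rw [LinearMap.det_toMatrix', hdet]⟩, ?_, ?_, ?_⟩
  · rw [Matrix.toLin'_toMatrix']; exact hgr
  · show finrank F (fix (Matrix.toLin' (LinearMap.toMatrix' g) : Module.End F (Fin n → F))) = _
    rw [Matrix.toLin'_toMatrix']
    have hfix : fix T = LinearMap.range (LinearMap.inr F (Fin s → K) (Fin (n - s * i) → F)) := by
      ext v
      rw [mem_fix, LinearMap.mem_range]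
      constructor
      · intro h
        refine ⟨v.2, Prod.ext (funext fun j => ?_) rfl⟩
        symm
        have h' : (u : K) * v.1 j = v.1 j := congrFun (congrArg Prod.fst h) j
        have h'' : ((u : K) - 1) * v.1 j = 0 := by rw [sub_mul, one_mul, h', sub_self]
        exact (mul_eq_zero.mp h'').resolve_left (sub_ne_zero.mpr hu1)
      · rintro ⟨w, rfl⟩
        refine Prod.ext (funext fun j => ?_) rfl
        show (u : K) * 0 = 0
        rw [mul_zero]
    have hmap : fix g = (fix T).map (e : _ →ₗ[F] (Fin n → F)) := by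
      ext w
      rw [Submodule.mem_map_equiv, mem_fix, mem_fix, hg, LinearEquiv.conj_apply_apply,
        LinearEquiv.eq_symm_apply]
    rw [hmap, LinearEquiv.finrank_map_eq e (fix T), hfix,
      LinearMap.finrank_range_of_inj LinearMap.inr_injective, Module.finrank_pi, Fintype.card_fin]
  · intro c hc
    have hs1 : i ≤ s * i := Nat.le_mul_of_pos_left i hs0
    rw [← toLin'_eq_smul_one_iff, Matrix.toLin'_toMatrix'] at hc
    have hne : Nonempty (Fin n) := ⟨⟨0, by omega⟩⟩
    have h1 : c ^ r = 1 := by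
      have := LinearMap.congr_fun hgr (Pi.single ⟨0, by omega⟩ 1)
      rw [hc, _root_.smul_pow, one_pow] at this
      simpa using congrFun this ⟨0, by omega⟩
    by_cases hc1 : c = 1
    · subst hc1
      have hgg : g = 1 := by rw [hc, one_smul]
      have hT1 : T = 1 := by
        have : e.conjAlgEquiv F T = 1 := hgg
        exact (e.conjAlgEquiv F).injective (this.trans (map_one _).symm)
      have := congrFun (congrArg Prod.fst (LinearMap.congr_fun hT1 (fun _ => 1, 0))) ⟨0, hs0⟩
      exact hu1 (by simpa [T] using this)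
    · have h0 : c ≠ 0 := fun h => by rw [h, zero_pow (Fact.out : r.Prime).ne_zero] at h1; exact zero_ne_one h1
      have hord : orderOf (Units.mk0 _ h0) = r := by rw [← orderOf_units, Units.val_mk0]; exact orderOf_eq_prime h1 hc1
      have h3 : r ∣ Fintype.card F ^ 1 - 1 := by
        rw [pow_one, ← Fintype.card_units, ← hord]; exact orderOf_dvd_card
      rw [dvd_pow_sub_one_iff, Nat.dvd_one] at h3
      omega

omit [Fintype F] in
open Fin.NatCast in
/-- The monomial matrix: `n = k r`, `x^r = z`. -/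
theorem exists_monomial {k : ℕ} (hk : 0 < k) (hn : n = k * r) (z : F) (hz : z ≠ 0)
    (hdet : ((-1) ^ (r - 1) * z) ^ k = 1) :
    ∃ x : Matrix.SpecialLinearGroup (Fin n) F,
      (Matrix.toLin' (x : Matrix (Fin n) (Fin n) F) : Module.End F (Fin n → F)) ^ r = z • (1 : Module.End F (Fin n → F)) ∧
      ∀ c : F, (x : Matrix (Fin n) (Fin n) F) ≠ c • (1 : Matrix (Fin n) (Fin n) F) := by
  classical
  obtain ⟨r', hr'⟩ : ∃ r', r = r' + 2 := ⟨r - 2, by have := (Fact.out : r.Prime).two_le; omega⟩
  subst hr'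
  let d : Fin (r' + 2) → F := Function.update 1 0 z
  let σ : Equiv.Perm (Fin (r' + 2)) := finRotate (r' + 2)
  let C : Matrix (Fin (r' + 2)) (Fin (r' + 2)) F := Matrix.diagonal d * σ.permMatrix F
  have hCdet : C.det = (-1) ^ (r' + 2 - 1) * z := by
    rw [Matrix.det_mul, Matrix.det_diagonal, Matrix.det_permutation,
      Finset.prod_update_of_mem (Finset.mem_univ _), sign_finRotate]
    simp [mul_comm]
  have happly : ∀ (v : Fin (r' + 2) → F) j, (C.mulVec v) j = d j * v (j + 1) := by
    intro v j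
    rw [← Matrix.mulVec_mulVec, Matrix.mulVec_diagonal, Matrix.permMatrix_mulVec]
    rw [Function.comp_apply, finRotate_apply]
  have hpow : ∀ (m : ℕ) (v : Fin (r' + 2) → F) j,
      ((C ^ m).mulVec v) j = (∏ l ∈ Finset.range m, d (j + (l : Fin (r' + 2)))) * v (j + (m : Fin (r' + 2))) := by
    intro m
    induction m with
    | zero => intro v j; simp
    | succ m ih =>
      intro v j
      rw [pow_succ, ← Matrix.mulVec_mulVec, ih, happly, Finset.prod_range_succ, Nat.cast_succ, add_assoc]
      ring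
  have hCr : C ^ (r' + 2) = z • (1 : Matrix (Fin (r' + 2)) (Fin (r' + 2)) F) := by
    refine Matrix.ext_iff_mulVec.mpr fun v => funext fun j => ?_
    rw [hpow, Fin.natCast_self, add_zero, Matrix.smul_mulVec, Matrix.one_mulVec]
    have : ∏ l ∈ Finset.range (r' + 2), d (j + (l : Fin (r' + 2))) = z := by
      rw [← Fin.prod_univ_eq_prod_range (fun l => d (j + (l : Fin (r' + 2))))]
      simp only [Fin.cast_val_eq_self]
      refine (Equiv.prod_comp (Equiv.addLeft j) d).trans ?_
      rw [Finset.prod_update_of_mem (Finset.mem_univ _)]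
      simp
    rw [this]; rfl
  let e : Fin (r' + 2) × Fin k ≃ Fin n := finProdFinEquiv.trans (finCongr (by rw [hn, Nat.mul_comm]))
  let M : Matrix (Fin n) (Fin n) F := Matrix.reindexAlgEquiv F F e (Matrix.blockDiagonal fun _ : Fin k => C)
  have hM : M.det = 1 := by
    rw [show M = Matrix.reindexAlgEquiv F F e (Matrix.blockDiagonal fun _ : Fin k => C) from rfl,
      Matrix.det_reindexAlgEquiv, Matrix.det_blockDiagonal]
    rw [Finset.prod_const, Finset.card_univ, Fintype.card_fin, hCdet, hdet]
  have hMr : M ^ (r' + 2) = z • (1 : Matrix (Fin n) (Fin n) F) := by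
    rw [show M = Matrix.reindexAlgEquiv F F e (Matrix.blockDiagonal fun _ : Fin k => C) from rfl,
      ← map_pow, ← Matrix.blockDiagonal_pow]
    rw [show ((fun _ : Fin k => C) ^ (r' + 2)) = z • (fun _ : Fin k => (1 : Matrix (Fin (r' + 2)) (Fin (r' + 2)) F)) by
      funext _; simp [hCr]]
    rw [Matrix.blockDiagonal_smul, map_smul]
    simp [show (fun _ : Fin k => (1 : Matrix (Fin (r' + 2)) (Fin (r' + 2)) F)) = 1 from rfl, Matrix.blockDiagonal_one]
  refine ⟨⟨M, hM⟩, ?_, ?_⟩
  · rw [← pow_toLin', hMr, map_smul, Matrix.toLin'_one]; rfl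
  · intro c hc
    have hc' : Matrix.reindexAlgEquiv F F e (Matrix.blockDiagonal fun _ : Fin k => C) = c • (1 : Matrix (Fin n) (Fin n) F) := hc
    rw [← map_one (Matrix.reindexAlgEquiv F F e), ← map_smul] at hc'
    have h0 := congr_fun (congr_fun ((Matrix.reindexAlgEquiv F F e).injective hc') (0, ⟨0, hk⟩)) (1, ⟨0, hk⟩)
    rw [Matrix.blockDiagonal_apply_eq] at h0
    have h1 : C 0 1 = 0 := by rw [h0]; simp
    have h2 := happly (Pi.single 1 1) 0
    rw [Matrix.mulVec_single_one, Matrix.col_apply, h1, zero_add, Pi.single_eq_same, mul_one] at h2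
    simp [d] at h2
    exact hz h2.symm

omit [Fintype F] in
open scoped IsMulCommutative in
/-- The determinant of `x` with `x^r = z`, `z` not an `r`-th power. -/
theorem det_nonpower {V : Type*} [AddCommGroup V] [Module F V] [FiniteDimensional F V]
    {x : Module.End F V} {z : F} (hz : ∀ b : F, b ^ r ≠ z) (hx : x ^ r = z • (1 : Module.End F V)) :
    r ∣ finrank F V ∧ LinearMap.det x = ((-1) ^ (r - 1) * z) ^ (finrank F V / r) := by
  have hirr : Irreducible (X ^ r - C z : F[X]) := X_pow_sub_C_irreducible_of_prime Fact.out hz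
  have : Fact (Irreducible (X ^ r - C z : F[X])) := ⟨hirr⟩
  have hdvd : r ∣ finrank F V := by
    have := dvd_finrank_of_nonpower Fact.out hz hx (W := ⊤) le_top
    rwa [finrank_top] at this
  refine ⟨hdvd, ?_⟩
  let K := AdjoinRoot (X ^ r - C z : F[X])
  let A := Algebra.adjoin F ({x} : Set (Module.End F V))
  let φ : K →ₐ[F] Module.End F V := A.val.comp (AdjoinRoot.liftAlgHom _ (Algebra.ofId F A)
    ⟨x, Algebra.self_mem_adjoin_singleton F x⟩ (by
      refine Subtype.ext ?_
      simp [hx, Algebra.algebraMap_eq_smul_one]))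
  letI : Module K V := Module.compHom V φ.toRingHom
  have : IsScalarTower F K V := ⟨fun c a v => by
    show φ (c • a) v = c • φ a v
    rw [map_smul]; rfl⟩
  have : Module.Finite K V := Module.Finite.of_restrictScalars_finite F K V
  have hmonic : (X ^ r - C z : F[X]).Monic := monic_X_pow_sub_C z (Fact.out : r.Prime).ne_zero
  let pb := AdjoinRoot.powerBasis hmonic.ne_zero
  have hdim : finrank F K = r := by rw [pb.finrank, AdjoinRoot.powerBasis_dim, natDegree_X_pow_sub_C]
  have hxK : x = LinearMap.restrictScalars F (AdjoinRoot.root (X ^ r - C z : F[X]) • (LinearMap.id : V →ₗ[K] V)) := by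
    refine LinearMap.ext fun v => ?_
    show x v = φ (AdjoinRoot.root _) v
    dsimp [φ]
    erw [AdjoinRoot.liftAlgHom_root]
  have hfr : finrank F V / r = finrank K V := by
    rw [← Module.finrank_mul_finrank F K V, hdim, Nat.mul_div_cancel_left _ (Fact.out : r.Prime).pos]
  rw [hxK, LinearMap.det_restrictScalars, LinearMap.det_smul, LinearMap.det_id, mul_one, map_pow, hfr]
  congr 1
  have := Algebra.PowerBasis.norm_gen_eq_coeff_zero_minpoly pb
  rw [AdjoinRoot.powerBasis_gen, AdjoinRoot.powerBasis_dim, natDegree_X_pow_sub_C,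
    AdjoinRoot.minpoly_root hmonic.ne_zero] at this
  rw [this, hmonic.leadingCoeff, inv_one, C_1, mul_one]
  simp only [coeff_sub, coeff_X_pow, coeff_C_zero, if_neg (Ne.symm (Fact.out : r.Prime).ne_zero), zero_sub]
  rw [show (-1 : F) ^ r = (-1) ^ (r - 1) * (-1) by
    rw [← pow_succ, Nat.sub_add_cancel (Fact.out : r.Prime).pos]]
  ring

/-- The condition for the existence of a non-power `z` with `((-1)^(r-1) z)^k = 1`. -/
theorem exists_scalar_iff {k : ℕ} (hk : 0 < k) (hr : r ∣ Fintype.card F - 1) :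
    (∃ z : F, (∀ b : F, b ^ r ≠ z) ∧ ((-1) ^ (r - 1) * z) ^ k = 1) ↔
      (padicValNat r (Fintype.card F - 1) ≤ padicValNat r k ∨ (r = 2 ∧ Fintype.card F % 4 = 3)) := by
  classical
  set q := Fintype.card F with hq
  have hrp : r.Prime := Fact.out
  have hN : q - 1 ≠ 0 := Nat.sub_ne_zero_of_lt Fintype.one_lt_card
  set v := padicValNat r (q - 1) with hv
  have hv1 : 1 ≤ v := one_le_padicValNat_of_dvd hN hr
  obtain ⟨g, hg⟩ := IsCyclic.exists_ofOrder_eq_natCard (α := Fˣ)
  rw [Nat.card_eq_fintype_card, Fintype.card_units] at hg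
  have hgen : ∀ u : Fˣ, ∃ j : ℕ, g ^ j = u := fun u => by
    have hmem : u ∈ Subgroup.zpowers g := by
      rw [(Subgroup.eq_top_of_card_eq (Subgroup.zpowers g) (by
        rw [Nat.card_zpowers, hg, Nat.card_eq_fintype_card, Fintype.card_units] : _) :)]
      trivial
    exact (mem_powers_iff_mem_zpowers.mpr hmem)
  obtain ⟨e, he⟩ : r ^ v ∣ q - 1 := pow_padicValNat_dvd
  have hre : ¬ r ∣ e := by
    intro h
    refine pow_succ_padicValNat_not_dvd (p := r) hN ?_
    rw [← hv, pow_succ, he]
    exact Nat.mul_dvd_mul_left _ h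
  have hpow : ∀ j : ℕ, (∃ b : F, b ^ r = ((g ^ j : Fˣ) : F)) ↔ r ∣ j := by
    intro j
    constructor
    · rintro ⟨b, hb⟩
      have hb0 : b ≠ 0 := fun h => by rw [h, zero_pow hrp.ne_zero] at hb; exact (g ^ j).ne_zero hb.symm
      obtain ⟨m, hm⟩ := hgen (Units.mk0 b hb0)
      have : g ^ (m * r) = g ^ j := Units.ext (by rw [pow_mul, hm, Units.val_pow_eq_pow_val, Units.val_mk0, hb])
      rw [pow_eq_pow_iff_modEq, hg] at this
      exact (Nat.ModEq.dvd_iff this hr).mp (dvd_mul_left _ _)
    · rintro ⟨m, rfl⟩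
      exact ⟨((g ^ m : Fˣ) : F), by rw [← Units.val_pow_eq_pow_val, ← pow_mul, mul_comm]⟩
  have hone : ∀ j : ℕ, ((g ^ j : Fˣ) : F) ^ k = 1 ↔ q - 1 ∣ j * k := by
    intro j
    rw [← Units.val_pow_eq_pow_val, Units.val_eq_one, ← pow_mul, ← orderOf_dvd_iff_pow_eq_one, hg]
  have hsq : ((-1 : F) ^ (r - 1)) = 1 ∨ r = 2 := by
    rcases hrp.eq_two_or_odd' with h | h
    · exact Or.inr h
    · exact Or.inl (Even.neg_one_pow (Nat.Odd.sub_odd h odd_one))
  -- `w = (-1)^(r-1) z` is a non-power unless `r = 2`, `q ≡ 3 (4)`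
  constructor
  · rintro ⟨z, hz, hzk⟩
    by_contra hcon
    push Not at hcon
    have hflip : ∀ b : F, b ^ r ≠ (-1) ^ (r - 1) * z := by
      intro b hb
      rcases hsq with h | h
      · rw [h, one_mul] at hb; exact hz b hb
      · subst h
        rw [pow_one] at hb
        have h4 : q % 4 ≠ 3 := hcon.2 rfl
        obtain ⟨c, hc⟩ := (FiniteField.isSquare_neg_one_iff (F := F)).mpr h4
        exact hz (c * b) (by rw [mul_pow, hb, pow_two c, ← hc]; ring)
    have hw0 : (-1 : F) ^ (r - 1) * z ≠ 0 := fun h => by rw [h, zero_pow hk.ne'] at hzk; exact zero_ne_one hzk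
    obtain ⟨j, hj⟩ := hgen (Units.mk0 _ hw0)
    have hjr : ¬ r ∣ j := fun h => by
      obtain ⟨b, hb⟩ := (hpow j).mpr h
      exact hflip b (by rw [hb, hj, Units.val_mk0])
    have h1 : q - 1 ∣ j * k := (hone j).mp (by rw [hj, Units.val_mk0]; exact hzk)
    have h2 : r ^ v ∣ k :=
      (Nat.Coprime.pow_left v ((Nat.Prime.coprime_iff_not_dvd hrp).mpr hjr)).dvd_of_dvd_mul_left
        ((Dvd.intro e he.symm).trans h1)
    have h3 : v ≤ padicValNat r k := (padicValNat_dvd_iff_le hk.ne').mp h2
    omega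
  · intro hor
    by_cases h43 : r = 2 ∧ q % 4 = 3
    · obtain ⟨rfl, h43⟩ := h43
      refine ⟨-1, fun b hb => ?_, by norm_num⟩
      exact (FiniteField.isSquare_neg_one_iff (F := F)).mp ⟨b, by rw [← hb, pow_two]⟩ h43
    have hvk : v ≤ padicValNat r k := hor.resolve_right h43
    refine ⟨(-1) ^ (r - 1) * ((g ^ e : Fˣ) : F), fun b hb => ?_, ?_⟩
    · refine hre ((hpow e).mp ?_)
      rcases hsq with h | h
      · exact ⟨b, by rw [hb, h, one_mul]⟩
      · subst h
        have h4 : q % 4 ≠ 3 := fun h => h43 ⟨rfl, h⟩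
        obtain ⟨c, hc⟩ := (FiniteField.isSquare_neg_one_iff (F := F)).mpr h4
        exact ⟨c * b, by rw [mul_pow, hb, pow_two c, ← hc]; ring⟩
    · rw [← mul_assoc, ← mul_pow, neg_one_mul, neg_neg, one_pow, one_mul, hone, he, Nat.mul_comm (r ^ v)]
      exact Nat.mul_dvd_mul_left _ ((padicValNat_dvd_iff_le hk.ne').mpr hvk)

end Cfsg.Agent.PrimeOrderElt
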