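import Cfsg.Agent.Lib.PrimeOrderElt.SymplecticFour
import Mathlib.GroupTheory.Perm.Cycle.Type
/-
Four-dimensional irreducible 2-groups whose quotient by the centre is elementary of order 16.
* `IsPauliLike.orbit_data` : for an element y of odd prime order r modulo scalars of the normaliser, the
  number f of fixed cosets gives r · dim(commutant) ≤ 16 + (r-1)f and tr y · tr y⁻¹ = f.
-/

set_option autoImplicit false
set_option linter.style.haveILetI false

namespace Cfsg.Agent.PrimeOrderElt

open Module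
open scoped MatrixGroups

variable {F : Type*} [Field F] {ι : Type} [Fintype ι] [DecidableEq ι]

/-- Squares are not needed: R/Z(R) of order 16, commutators ±1, scalars of order dividing 4. -/
structure IsPauliLike (R : Subgroup (GL ι F)) : Prop where
  card_ι : Fintype.card ι = 4
  card_quot : Nat.card (R ⧸ Subgroup.center R) = 16
  two_ne : (2 : F) ≠ 0
  scalar_pow : ∀ (g : GL ι F) (c : F), g ∈ R → (g : Matrix ι ι F) = c • 1 → c ^ 4 = 1
  comm : ∀ g ∈ R, ∀ h ∈ R, g * h = h * g ∨ (g : Matrix ι ι F) * (h : Matrix ι ι F) = -((h : Matrix ι ι F) * (g : Matrix ι ι F))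
  center : ∀ M : Matrix ι ι F,
    (∀ g ∈ R, M * (g : Matrix ι ι F) = (g : Matrix ι ι F) * M) → ∃ c : F, M = c • 1

/-- The commutant of a matrix. -/
def commutantOf (M : Matrix ι ι F) : Submodule F (Matrix ι ι F) where
  carrier := {X | X * M = M * X}
  add_mem' := fun {X Y} hX hY => by
    simp only [Set.mem_ofPred_eq] at *
    rw [Matrix.add_mul, Matrix.mul_add, hX, hY]
  zero_mem' := by simp
  smul_mem' := fun c X hX => by
    simp only [Set.mem_ofPred_eq] at *
    rw [Matrix.smul_mul, Matrix.mul_smul, hX]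

theorem mem_commutantOf {M X : Matrix ι ι F} : X ∈ commutantOf M ↔ X * M = M * X := Iff.rfl

theorem IsPauliLike.scalar_of_mem_center {R : Subgroup (GL ι F)} (hP : IsPauliLike R) {z : R}
    (hz : z ∈ Subgroup.center R) : ∃ c : F, ((z : GL ι F) : Matrix ι ι F) = c • 1 :=
  hP.center _ fun g hg =>
    congrArg (fun u : R => ((u : GL ι F) : Matrix ι ι F)) (Subgroup.mem_center_iff.mp hz ⟨g, hg⟩).symm

theorem IsPauliLike.exists_anticommute {R : Subgroup (GL ι F)} (hP : IsPauliLike R) {g : GL ι F} (hg : g ∈ R)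
    (hns : ∀ c : F, (g : Matrix ι ι F) ≠ c • 1) :
    ∃ h ∈ R, g * h ≠ h * g ∧
      (g : Matrix ι ι F) * (h : Matrix ι ι F) = -((h : Matrix ι ι F) * (g : Matrix ι ι F)) := by
  by_contra hno
  push Not at hno
  obtain ⟨c, hc⟩ := hP.center (g : Matrix ι ι F) fun h hh => by
    by_contra hne
    rcases hP.comm g hg h hh with e | e
    · exact hne (by rw [← Units.val_mul, e, Units.val_mul])
    · exact hno h hh (fun e' => hne (by rw [← Units.val_mul, e', Units.val_mul])) e
  exact hns c hc

theorem IsPauliLike.trace_eq_zero {R : Subgroup (GL ι F)} (hP : IsPauliLike R) {g : GL ι F} (hg : g ∈ R)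
    (hns : ∀ c : F, (g : Matrix ι ι F) ≠ c • 1) : (g : Matrix ι ι F).trace = 0 := by
  obtain ⟨h, -, -, e⟩ := hP.exists_anticommute hg hns
  have h1 : ((g : Matrix ι ι F) * (h : Matrix ι ι F) * ((h⁻¹ : GL ι F) : Matrix ι ι F)).trace =
      (g : Matrix ι ι F).trace := by
    rw [Matrix.mul_assoc, Units.mul_inv, Matrix.mul_one]
  rw [e, Matrix.neg_mul, Matrix.trace_neg, Matrix.trace_mul_comm, ← Matrix.mul_assoc, Units.inv_mul, Matrix.one_mul] at h1
  have h2 : (2 : F) * (g : Matrix ι ι F).trace = 0 := by linear_combination -h1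
  exact (mul_eq_zero.mp h2).resolve_left hP.two_ne

/-- The trace of `M ↦ A M B`. -/
theorem trace_mul_mul {A B : Matrix ι ι F} (T : Module.End F (Matrix ι ι F)) (hT : ∀ M, T M = A * M * B) :
    LinearMap.trace F _ T = A.trace * B.trace := by
  rw [LinearMap.trace_eq_matrix_trace F (Matrix.stdBasis F ι ι) T, Matrix.trace, Matrix.trace, Matrix.trace,
    Fintype.sum_prod_type, Finset.sum_mul_sum]
  refine Finset.sum_congr rfl fun i _ => Finset.sum_congr rfl fun j _ => ?_
  rw [Matrix.diag_apply, LinearMap.toMatrix_apply, Matrix.stdBasis_eq_single, hT]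
  have e : ∀ M : Matrix ι ι F, (Matrix.stdBasis F ι ι).repr M (i, j) = M i j := fun M => by
    simp [Matrix.stdBasis]
  rw [e]
  simp [Matrix.mul_apply, Matrix.single_apply, ite_and, Matrix.diag]

variable [Fintype F]

set_option maxHeartbeats 1000000 in
theorem IsPauliLike.orbit_data {R : Subgroup (GL ι F)} (hP : IsPauliLike R) {r : ℕ} [Fact r.Prime] (hr : r ≠ 2)
    {y : GL ι F} (hy : y ∈ Cfsg.Geo.subgroupNormalizer R)
    (hyr : ∃ c : F, ((y ^ r : GL ι F) : Matrix ι ι F) = c • 1)
    (hns : ∀ c : F, (y : Matrix ι ι F) ≠ c • 1) :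
    ∃ f : ℕ, f ∣ 16 ∧ f < 16 ∧ (f : ℕ) ≡ 16 [MOD r] ∧ (r = 7 → f ≠ 2) ∧
      (y : Matrix ι ι F).trace * ((y⁻¹ : GL ι F) : Matrix ι ι F).trace = (f : F) ∧
      (f = 1 → ∀ h ∈ R, y * h = h * y → ∃ c : F, (h : Matrix ι ι F) = c • 1) ∧
      r * finrank F (commutantOf (y : Matrix ι ι F)) ≤ 16 + (r - 1) * f := by
  classical
  have : Nonempty ι := Fintype.card_pos_iff.mp (by rw [hP.card_ι]; norm_num)
  obtain ⟨c₀, hc₀⟩ := hyr
  let φ : MulAut R :=
    { toFun := fun h => ⟨y * h * y⁻¹, (Subgroup.mem_normalizer_iff.mp hy h).mp h.2⟩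
      invFun := fun h => ⟨y⁻¹ * h * y, (Subgroup.mem_normalizer_iff.mp hy _).mpr (by
        show y * (y⁻¹ * h * y) * y⁻¹ ∈ R
        simp [mul_assoc])⟩
      left_inv := fun h => Subtype.ext (by simp [mul_assoc])
      right_inv := fun h => Subtype.ext (by simp [mul_assoc])
      map_mul' := fun u v => Subtype.ext (by simp [mul_assoc]) }
  have hφr : ∀ h : R, (φ^[r]) h = h := by
    have hk : ∀ (k : ℕ) (h : R), (((φ^[k]) h : R) : GL ι F) = y ^ k * h * (y ^ k)⁻¹ := by
      intro k
      induction k with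
      | zero => intro h; simp
      | succ k ih =>
        intro h
        rw [Function.iterate_succ_apply']
        show y * (((φ^[k]) h : R) : GL ι F) * y⁻¹ = _
        rw [ih, pow_succ']
        group
    intro h
    refine Subtype.ext ?_
    rw [hk, mul_inv_eq_iff_eq_mul]
    refine Units.ext ?_
    rw [Units.val_mul, Units.val_mul, hc₀, Matrix.smul_mul, Matrix.mul_smul, Matrix.one_mul, Matrix.mul_one]
  set Z := Subgroup.center R with hZ
  have hZmap : Z.map φ.toMonoidHom = Z :=
    Subgroup.characteristic_iff_map_eq.mp (inferInstanceAs Z.Characteristic) φ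
  let σ : (R ⧸ Z) ≃* (R ⧸ Z) := QuotientGroup.congr Z Z φ hZmap
  have hσmk : ∀ h : R, σ (h : R ⧸ Z) = ((φ h : R) : R ⧸ Z) := fun h => rfl
  have hσr : ∀ u : R ⧸ Z, (σ^[r]) u = u := by
    intro u
    obtain ⟨h, rfl⟩ := QuotientGroup.mk_surjective u
    have hk : ∀ k : ℕ, (σ^[k]) (h : R ⧸ Z) = (((φ^[k]) h : R) : R ⧸ Z) := by
      intro k
      induction k with
      | zero => rfl
      | succ k ih => rw [Function.iterate_succ_apply', Function.iterate_succ_apply', ih, hσmk]
    rw [hk, hφr]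
  have hQ : Nat.card (R ⧸ Z) = 16 := hP.card_quot
  letI : Fintype (R ⧸ Z) := Fintype.ofFinite _
  have hQ' : Fintype.card (R ⧸ Z) = 16 := by rw [← Nat.card_eq_fintype_card, hQ]
  let β : R ⧸ Z → GL ι F := fun u => (Quotient.out u : R)
  have hβR : ∀ u, β u ∈ R := fun u => (Quotient.out u : R).2
  have hβ : ∀ h : R, ∃ l : F, l ≠ 0 ∧
      ((h : GL ι F) : Matrix ι ι F) = l • (β (h : R ⧸ Z) : Matrix ι ι F) := by
    intro h
    obtain ⟨z, hz⟩ := QuotientGroup.mk_out_eq_mul Z h
    obtain ⟨e, he⟩ := hP.scalar_of_mem_center (z := z.1⁻¹) (Z.inv_mem z.2)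
    refine ⟨e, fun h0 => ?_, ?_⟩
    · rw [h0, zero_smul] at he
      exact (Matrix.isUnit_iff_isUnit_det _).mp ((z.1⁻¹ : R) : GL ι F).isUnit |>.ne_zero (by rw [he]; simp)
    · have h1 : (h : GL ι F) = β (h : R ⧸ Z) * ((z.1⁻¹ : R) : GL ι F) := by
        show (h : GL ι F) = ((Quotient.out (h : R ⧸ Z) : R) : GL ι F) * _
        rw [hz]
        simp
      rw [h1, Units.val_mul, he, Matrix.mul_smul, Matrix.mul_one]
  have hscal : ∀ (h : R) (e : F), ((h : GL ι F) : Matrix ι ι F) = e • 1 → h ∈ Z := fun h e he =>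
    Subgroup.mem_center_iff.mpr fun u => Subtype.ext (Units.ext (by
      show ((u : GL ι F) : Matrix ι ι F) * _ = ((h : GL ι F) : Matrix ι ι F) * (u : GL ι F).val
      rw [he, Matrix.mul_smul, Matrix.smul_mul, Matrix.one_mul, Matrix.mul_one]))
  -- orthogonality of the representatives
  have hli : LinearIndependent F (fun u => (β u : Matrix ι ι F)) := by
    refine Fintype.linearIndependent_iff.mpr fun x hx u => ?_
    have h := congrArg (fun M => ((((β u)⁻¹ : GL ι F) : Matrix ι ι F) * M).trace) hx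
    simp only [Matrix.mul_sum, Matrix.mul_smul, Matrix.trace_sum, Matrix.trace_smul, Matrix.mul_zero, Matrix.trace_zero,
      smul_eq_mul] at h
    rw [Finset.sum_eq_single u ?_ (by simp)] at h
    · rw [Units.inv_mul, Matrix.trace_one, hP.card_ι] at h
      refine (mul_eq_zero.mp h).resolve_right ?_
      rw [show ((4 : ℕ) : F) = 2 * 2 by norm_num]
      exact mul_ne_zero hP.two_ne hP.two_ne
    · intro v _ hv
      rw [← Units.val_mul, hP.trace_eq_zero (R.mul_mem (R.inv_mem (hβR u)) (hβR v)), mul_zero]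
      intro e he
      refine hv ?_
      have h1 : (⟨(β u)⁻¹ * β v, R.mul_mem (R.inv_mem (hβR u)) (hβR v)⟩ : R) ∈ Z := hscal _ e he
      have h2 : (Quotient.out u : R)⁻¹ * (Quotient.out v : R) ∈ Z := h1
      have h3 : ((Quotient.out u : R) : R ⧸ Z) = ((Quotient.out v : R) : R ⧸ Z) := QuotientGroup.eq.mpr h2
      rw [QuotientGroup.out_eq', QuotientGroup.out_eq'] at h3
      exact h3.symm
  have hspan : Submodule.span F (Set.range fun u => (β u : Matrix ι ι F)) = ⊤ :=
    hli.span_eq_top_of_card_eq_finrank (by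
      rw [hQ', Module.finrank_matrix, Module.finrank_self, hP.card_ι])
  let bas : Basis (R ⧸ Z) F (Matrix ι ι F) := Basis.mk hli hspan.ge
  have hbas : ∀ u, bas u = (β u : Matrix ι ι F) := fun u => Basis.mk_apply _ _ u
  -- the action of y
  set Y := (y : Matrix ι ι F) with hY
  set Y' := ((y⁻¹ : GL ι F) : Matrix ι ι F) with hY'
  have hact : ∀ u, ∃ l : F, l ≠ 0 ∧ Y * bas u * Y' = l • bas (σ u) := by
    intro u
    obtain ⟨l, hl, e⟩ := hβ (φ (Quotient.out u : R))
    refine ⟨l, hl, ?_⟩
    rw [hbas, hbas, show σ u = ((φ (Quotient.out u : R) : R) : R ⧸ Z) by rw [← hσmk, QuotientGroup.out_eq'],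
      ← e, hY, hY', ← Units.val_mul, ← Units.val_mul]
    rfl
  choose lam hlam0 hlam using hact
  have hco : ∀ M ∈ commutantOf Y, ∀ u, bas.repr M (σ u) = lam u * bas.repr M u := by
    intro M hM u
    have h1 : Y * M * Y' = M := by
      rw [← mem_commutantOf.mp hM, Matrix.mul_assoc, hY, hY', Units.mul_inv, Matrix.mul_one]
    have h2 : Y * M * Y' = ∑ v, (lam v * bas.repr M v) • bas (σ v) := by
      conv_lhs => rw [← bas.sum_repr M]
      rw [Matrix.mul_sum, Matrix.sum_mul]
      exact Finset.sum_congr rfl fun v _ => by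
        rw [Matrix.mul_smul, Matrix.smul_mul, hlam, smul_smul, mul_comm]
    have h3 := congrArg (fun N => bas.repr N (σ u)) (h1.symm.trans h2)
    simp only [map_sum, map_smul, Finsupp.coe_finsetSum, Finset.sum_apply, Finsupp.coe_smul, Pi.smul_apply,
      Basis.repr_self, smul_eq_mul] at h3
    rw [h3, Finset.sum_eq_single u (fun v _ hv => by
      rw [Finsupp.single_apply, if_neg (fun e => hv (σ.injective e)), mul_zero]) (by simp), Finsupp.single_eq_same, mul_one]
  -- orbits
  let s : Equiv.Perm (R ⧸ Z) := σ.toEquiv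
  have hs : ∀ u, s u = σ u := fun _ => rfl
  have hspow : ∀ (k : ℕ) u, (s ^ k) u = (σ^[k]) u := fun k u => by rw [← Equiv.Perm.iterate_eq_pow]; rfl
  letI : Setoid (R ⧸ Z) := Equiv.Perm.SameCycle.setoid s
  let O := Quotient (Equiv.Perm.SameCycle.setoid s)
  let res : commutantOf Y →ₗ[F] (O → F) :=
    { toFun := fun M o => bas.repr M.1 o.out
      map_add' := fun M N => funext fun o => by simp
      map_smul' := fun c M => funext fun o => by simp }
  have hres : Function.Injective res := by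
    rw [← LinearMap.ker_eq_bot, LinearMap.ker_eq_bot']
    intro M hM
    refine Subtype.ext (bas.repr.injective (Finsupp.ext fun u => ?_))
    have h0 : bas.repr M.1 (⟦u⟧ : O).out = 0 := congrFun hM ⟦u⟧
    have hcyc : s.SameCycle (⟦u⟧ : O).out u := Quotient.exact (Quotient.out_eq (⟦u⟧ : O))
    obtain ⟨k, -, -, hk⟩ := hcyc.exists_pow_eq''
    have hiter : ∀ k : ℕ, bas.repr M.1 ((σ^[k]) (⟦u⟧ : O).out) = 0 := by
      intro k
      induction k with
      | zero => exact h0
      | succ k ih => rw [Function.iterate_succ_apply', hco M.1 M.2, ih, mul_zero]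
    rw [← hk, hspow, hiter]
    simp
  have hdim : finrank F (commutantOf Y) ≤ Fintype.card O := by
    have := LinearMap.finrank_le_finrank_of_injective hres
    rwa [Module.finrank_pi] at this
  let Fix := {u : R ⧸ Z // σ u = u}
  set f := Fintype.card Fix with hf
  have horb : r * Fintype.card O ≤ 16 + (r - 1) * f := by
    let g : O → Finset (R ⧸ Z) := fun o => Finset.univ.filter fun u => (⟦u⟧ : O) = o
    have hsum : ∑ o : O, (g o).card = 16 := by
      rw [← hQ', ← Finset.card_univ]
      exact (Finset.card_eq_sum_card_fiberwise (t := Finset.univ) (fun _ _ => Finset.mem_univ _)).symm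
    have hge : ∀ o : O, r ≤ (g o).card + (r - 1) * (if σ o.out = o.out then 1 else 0) := by
      intro o
      split_ifs with hfix
      · have h1 : 1 ≤ (g o).card := Finset.card_pos.mpr ⟨o.out, Finset.mem_filter.mpr ⟨Finset.mem_univ _, Quotient.out_eq o⟩⟩
        omega
      · rw [Nat.mul_zero, Nat.add_zero]
        have hper : Function.minimalPeriod σ o.out = r :=
          Function.minimalPeriod_eq_prime (hσr _) hfix
        have hinj : Set.InjOn (fun k => (σ^[k]) o.out) (Set.Iio r) := hper ▸ Function.iterate_injOn_Iio_minimalPeriod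
        calc r = ((Finset.range r).image fun k => (σ^[k]) o.out).card := by
              rw [Finset.card_image_of_injOn (by rwa [Finset.coe_range]), Finset.card_range]
          _ ≤ _ := Finset.card_le_card fun u hu => by
              obtain ⟨k, -, rfl⟩ := Finset.mem_image.mp hu
              refine Finset.mem_filter.mpr ⟨Finset.mem_univ _, ?_⟩
              conv_rhs => rw [← Quotient.out_eq o]
              refine Quotient.sound ?_
              show s.SameCycle _ o.out
              rw [← hspow]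
              exact Equiv.Perm.sameCycle_pow_left.mpr (Equiv.Perm.SameCycle.refl s _)
    have hfixcard : ∑ o : O, (if σ o.out = o.out then 1 else 0) ≤ f := by
      rw [Finset.sum_boole, Nat.cast_id, hf, ← Fintype.card_subtype]
      exact Fintype.card_le_of_injective (fun o => (⟨o.1.out, o.2⟩ : Fix)) fun o o' e =>
        Subtype.ext (Quotient.out_injective (congrArg Subtype.val e))
    calc r * Fintype.card O = ∑ _o : O, r := by rw [Finset.sum_const, Finset.card_univ, smul_eq_mul, mul_comm]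
      _ ≤ ∑ o : O, ((g o).card + (r - 1) * (if σ o.out = o.out then 1 else 0)) := Finset.sum_le_sum fun o _ => hge o
      _ ≤ _ := by rw [Finset.sum_add_distrib, hsum, ← Finset.mul_sum]; exact Nat.add_le_add_left (Nat.mul_le_mul_left _ hfixcard) _
  -- the fixed subgroup
  let K := MonoidHom.eqLocus σ.toMonoidHom (MonoidHom.id (R ⧸ Z))
  have hK : Nat.card K = f := by
    rw [hf, ← Nat.card_eq_fintype_card]
    exact Nat.card_congr (Equiv.subtypeEquivRight fun u => Iff.rfl)
  have hf16 : f ∣ 16 := by rw [← hK, ← hQ]; exact Subgroup.card_subgroup_dvd_card K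
  have hsr : s ^ r ^ 1 = 1 := Equiv.ext fun u => by rw [pow_one, hspow, hσr]; rfl
  have hmod : f ≡ 16 [MOD r] := by
    have h := Equiv.Perm.card_compl_support_modEq (p := r) hsr
    rw [hQ'] at h
    have e : s.supportᶜ.card = f := by
      rw [hf, ← Fintype.card_coe]
      exact Fintype.card_congr (Equiv.subtypeEquivRight fun u => by
        rw [Finset.mem_compl, Equiv.Perm.notMem_support, hs])
    rwa [e] at h
  have hfixed : ∀ h0 : R, σ (h0 : R ⧸ Z) = (h0 : R ⧸ Z) →
      Y * ((h0 : GL ι F) : Matrix ι ι F) = ((h0 : GL ι F) : Matrix ι ι F) * Y := by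
    rintro ⟨h, hh⟩ hfx
    have h1 : ((φ ⟨h, hh⟩ : R) : R ⧸ Z) = ((⟨h, hh⟩ : R) : R ⧸ Z) := by rw [← hσmk, hfx]
    show Y * (h : Matrix ι ι F) = (h : Matrix ι ι F) * Y
    obtain ⟨e, he⟩ := hP.scalar_of_mem_center (QuotientGroup.eq.mp h1.symm)
    have he4 : e ^ 4 = 1 := hP.scalar_pow _ e (SetLike.coe_mem _) he
    have hstep : Y * (h : Matrix ι ι F) = e • ((h : Matrix ι ι F) * Y) := by
      have e1 : y * h = h * ((h⁻¹ * (y * h * y⁻¹))) * y := by group
      have e2 := congrArg Units.val e1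
      rw [Units.val_mul, Units.val_mul, Units.val_mul] at e2
      rw [hY, e2, show ((h⁻¹ * (y * h * y⁻¹) : GL ι F) : Matrix ι ι F) = e • 1 from he,
        Matrix.mul_smul, Matrix.mul_one, Matrix.smul_mul]
    have hk : ∀ k : ℕ, Y ^ k * (h : Matrix ι ι F) = e ^ k • ((h : Matrix ι ι F) * Y ^ k) := by
      intro k
      induction k with
      | zero => simp
      | succ k ih =>
        rw [pow_succ', Matrix.mul_assoc, ih, Matrix.mul_smul, ← Matrix.mul_assoc, hstep, Matrix.smul_mul, smul_smul,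
          Matrix.mul_assoc, pow_succ e]
    have her : e ^ r = 1 := by
      have h2 := hk r
      rw [hY, ← Units.val_pow_eq_pow_val, hc₀, Matrix.smul_mul, Matrix.mul_smul, Matrix.one_mul, Matrix.mul_one,
        smul_smul] at h2
      have hc0 : c₀ ≠ 0 := fun h0 => by
        rw [h0, zero_smul] at hc₀
        exact ((Matrix.isUnit_iff_isUnit_det _).mp (y ^ r).isUnit).ne_zero (by rw [hc₀]; simp)
      have hh0 : (h : Matrix ι ι F) ≠ 0 := fun h0 =>
        ((Matrix.isUnit_iff_isUnit_det _).mp h.isUnit).ne_zero (by rw [h0]; simp)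
      have h3 : c₀ = e ^ r * c₀ := smul_left_injective F hh0 h2
      exact mul_right_cancel₀ hc0 (h3.symm.trans (one_mul c₀).symm)
    have he1 : e = 1 := by
      have hg : Nat.gcd 4 r = 1 := by
        rw [show (4 : ℕ) = 2 * 2 from rfl]
        exact Nat.Coprime.mul_left ((Nat.coprime_primes Nat.prime_two Fact.out).mpr hr.symm)
          ((Nat.coprime_primes Nat.prime_two Fact.out).mpr hr.symm)
      have := pow_gcd_eq_one.mpr ⟨he4, her⟩
      rwa [hg, pow_one] at this
    rw [hstep, he1, one_smul]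
  have htrace : Y.trace * Y'.trace = (f : F) := by
    let T : Module.End F (Matrix ι ι F) :=
      { toFun := fun M => Y * M * Y'
        map_add' := fun M N => by rw [Matrix.mul_add, Matrix.add_mul]
        map_smul' := fun c M => by rw [RingHom.id_apply, Matrix.mul_smul, Matrix.smul_mul] }
    have h1 : LinearMap.trace F _ T = Y.trace * Y'.trace := trace_mul_mul T (fun _ => rfl)
    have hlam1 : ∀ u, σ u = u → lam u = 1 := by
      intro u hu
      have e1 := hlam u
      have hfx := hfixed (Quotient.out u) (by rw [QuotientGroup.out_eq', hu])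
      rw [hu, hbas, Matrix.mul_assoc] at e1
      have e2 : (β u : Matrix ι ι F) = lam u • (β u : Matrix ι ι F) := by
        rw [← e1, ← Matrix.mul_assoc, hfx, Matrix.mul_assoc, hY, hY', Units.mul_inv, Matrix.mul_one]
      have h0 : (β u : Matrix ι ι F) ≠ 0 := by rw [← hbas]; exact bas.ne_zero u
      exact (smul_left_injective F h0 ((one_smul F _).trans e2)).symm
    rw [← h1, LinearMap.trace_eq_matrix_trace F bas T]
    simp only [Matrix.trace, Matrix.diag_apply, LinearMap.toMatrix_apply]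
    have h2 : ∀ u, bas.repr (T (bas u)) u = if σ u = u then (1 : F) else 0 := by
      intro u
      show bas.repr (Y * bas u * Y') u = _
      rw [hlam, map_smul, Basis.repr_self, Finsupp.smul_apply, smul_eq_mul, Finsupp.single_apply]
      split_ifs with hu
      · rw [hlam1 u hu, one_mul]
      · rw [mul_zero]
    rw [Finset.sum_congr rfl fun u _ => h2 u, Finset.sum_boole, hf, Fintype.card_subtype]
  have hfone : f = 1 → ∀ h ∈ R, y * h = h * y → ∃ c : F, (h : Matrix ι ι F) = c • 1 := by
    intro h1 h hh hc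
    have hfx : σ ((⟨h, hh⟩ : R) : R ⧸ Z) = ((⟨h, hh⟩ : R) : R ⧸ Z) := by
      rw [hσmk]
      congr 1
      exact Subtype.ext (show y * h * y⁻¹ = h by rw [hc, mul_inv_cancel_right])
    have hsub : Subsingleton Fix := Fintype.card_le_one_iff_subsingleton.mp (le_of_eq (hf ▸ h1))
    have e := congrArg Subtype.val (hsub.elim (⟨_, hfx⟩ : Fix) ⟨1, map_one σ⟩)
    exact hP.scalar_of_mem_center ((QuotientGroup.eq_one_iff _).mp e)
  have hlt : f < 16 := by
    refine lt_of_le_of_ne (Nat.le_of_dvd (by norm_num) hf16) fun hf' => ?_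
    have hall : ∀ u, σ u = u := by
      have : Fintype.card Fix = Fintype.card (R ⧸ Z) := by rw [← hf, hf', hQ']
      have hb : Function.Bijective (Subtype.val : Fix → R ⧸ Z) :=
        (Fintype.bijective_iff_injective_and_card _).mpr ⟨Subtype.val_injective, this⟩
      intro u
      obtain ⟨v, rfl⟩ := hb.2 u
      exact v.2
    have hfixR : ∀ h ∈ R, Y * (h : Matrix ι ι F) = (h : Matrix ι ι F) * Y := fun h hh =>
      hfixed ⟨h, hh⟩ (hall _)
    obtain ⟨e, he⟩ := hP.center Y hfixR
    exact hns e he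
  refine ⟨f, hf16, hlt, hmod, fun hr7 hf2 => ?_, htrace, hfone, le_trans (Nat.mul_le_mul_left r hdim) horb⟩
  subst hr7
  -- a single fixed non-trivial coset is impossible
  obtain ⟨h₀, hh₀, hh₀fix⟩ : ∃ h : R, h ∉ Z ∧ σ (h : R ⧸ Z) = (h : R ⧸ Z) := by
    by_contra hno
    push Not at hno
    have hle : f ≤ 1 := by
      rw [hf]
      refine Fintype.card_le_one_iff_subsingleton.mpr ⟨fun u v => ?_⟩
      have h1 : ∀ u : Fix, u.1 = 1 := by
        intro u
        obtain ⟨h, hh⟩ := QuotientGroup.mk_surjective u.1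
        by_contra h0
        have := hno h (fun hZh => h0 (hh ▸ (QuotientGroup.eq_one_iff h).mpr hZh))
        exact this (by rw [hh]; exact u.2)
      exact Subtype.ext ((h1 u).trans (h1 v).symm)
    omega
  obtain ⟨g₁, hg₁, -, hg₁a⟩ := hP.exists_anticommute h₀.2 (fun e he => hh₀ (hscal h₀ e he))
  set H₀ := ((h₀ : GL ι F) : Matrix ι ι F) with hH₀
  let C8 : R ⧸ Z → Prop := fun u => (β u : Matrix ι ι F) * H₀ = H₀ * (β u : Matrix ι ι F)
  have hC8 : ∀ h : R, C8 (h : R ⧸ Z) ↔ ((h : GL ι F) : Matrix ι ι F) * H₀ = H₀ * ((h : GL ι F) : Matrix ι ι F) := by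
    intro h
    obtain ⟨l, hl, e⟩ := hβ h
    rw [e, Matrix.smul_mul, Matrix.mul_smul, (smul_right_injective (Matrix ι ι F) hl).eq_iff]
  have h2ne : ∀ M : Matrix ι ι F, M = -M → M = 0 := fun M e => by
    have h' : (2 : F) • M = 0 := by rw [two_smul]; nth_rewrite 2 [e]; exact add_neg_cancel M
    exact (smul_eq_zero.mp h').resolve_left hP.two_ne
  have hflip : ∀ h : R, C8 ((h * ⟨g₁, hg₁⟩ : R) : R ⧸ Z) ↔ ¬ C8 (h : R ⧸ Z) := by
    intro h
    rw [hC8, hC8]
    show ((h : GL ι F) * g₁ : GL ι F).val * H₀ = H₀ * ((h : GL ι F) * g₁ : GL ι F).val ↔ _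
    have hu0 : ∀ u : GL ι F, (u : Matrix ι ι F) ≠ 0 := fun u h0 =>
      ((Matrix.isUnit_iff_isUnit_det _).mp u.isUnit).ne_zero (by rw [h0]; simp)
    have hga : (g₁ : Matrix ι ι F) * H₀ = -(H₀ * (g₁ : Matrix ι ι F)) := by rw [hg₁a, neg_neg]
    rw [Units.val_mul, Matrix.mul_assoc, hga, Matrix.mul_neg, ← Matrix.mul_assoc, ← Matrix.mul_assoc]
    rcases hP.comm h.1 h.2 h₀.1 h₀.2 with e | e
    · have e' : (h.1 : Matrix ι ι F) * H₀ = H₀ * (h.1 : Matrix ι ι F) := by
        rw [hH₀, ← Units.val_mul, e, Units.val_mul]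
      refine iff_of_false (fun e2 => ?_) (fun e2 => e2 e')
      rw [e'] at e2
      have := h2ne _ e2.symm
      rw [hH₀, ← Units.val_mul, ← Units.val_mul] at this
      exact hu0 _ this
    · refine iff_of_true (by rw [e, Matrix.neg_mul, neg_neg]) fun e2 => ?_
      rw [e] at e2
      have := h2ne _ e2.symm
      rw [← Units.val_mul] at this
      exact hu0 _ this
  let C : Type _ := {u : R ⧸ Z // C8 u}
  have hC : Fintype.card C = 8 := by
    have hflip' : ∀ u : R ⧸ Z, C8 (u * ((⟨g₁, hg₁⟩ : R) : R ⧸ Z)) ↔ ¬ C8 u := by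
      intro u
      obtain ⟨h, rfl⟩ := QuotientGroup.mk_surjective u
      exact hflip h
    have h1 : Fintype.card C = Fintype.card {u : R ⧸ Z // ¬ C8 u} :=
      (Fintype.card_congr ((Equiv.mulRight ((⟨g₁, hg₁⟩ : R) : R ⧸ Z)).subtypeEquiv (p := fun u => ¬ C8 u) (q := C8)
        fun u => (hflip' u).symm)).symm
    have h2 := Fintype.card_subtype_compl C8
    have h3 : Fintype.card {u : R ⧸ Z // C8 u} ≤ 16 := hQ' ▸ Fintype.card_subtype_le _
    rw [hQ', ← h1] at h2
    change Fintype.card C ≤ 16 at h3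
    change Fintype.card C = 16 - Fintype.card C at h2
    omega
  obtain ⟨e₀, he₀⟩ := hP.scalar_of_mem_center (QuotientGroup.eq.mp (show ((h₀ : R) : R ⧸ Z) = ((φ h₀ : R) : R ⧸ Z) by
    rw [← hσmk, hh₀fix]))
  have hinv : ∀ u, C8 (σ u) ↔ C8 u := by
    intro u
    obtain ⟨h, rfl⟩ := QuotientGroup.mk_surjective u
    rw [hσmk, hC8, hC8]
    have e1 : ((φ h₀ : R) : GL ι F).val = e₀ • H₀ := by
      have : ((φ h₀ : R) : GL ι F) = h₀.1 * ((h₀⁻¹ * φ h₀ : R) : GL ι F) := by simp
      rw [this, Units.val_mul, he₀, Matrix.mul_smul, Matrix.mul_one]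
    have he0 : e₀ ≠ 0 := fun h0 => by
      rw [h0, zero_smul] at he₀
      exact ((Matrix.isUnit_iff_isUnit_det _).mp ((h₀⁻¹ * φ h₀ : R) : GL ι F).isUnit).ne_zero (by rw [he₀]; simp)
    have e2 : ((φ h : R) : GL ι F).val * ((φ h₀ : R) : GL ι F).val =
        ((φ h₀ : R) : GL ι F).val * ((φ h : R) : GL ι F).val ↔ h.1.val * H₀ = H₀ * h.1.val := by
      rw [hH₀, ← Units.val_mul, ← Units.val_mul, ← Units.val_mul, ← Units.val_mul, Units.val_inj, Units.val_inj,
        ← Subgroup.coe_mul, ← Subgroup.coe_mul, Subtype.coe_inj, ← map_mul, ← map_mul, φ.injective.eq_iff,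
        ← Subgroup.coe_mul, ← Subgroup.coe_mul, Subtype.coe_inj]
    rw [← e2, e1, Matrix.mul_smul, Matrix.smul_mul, (smul_right_injective (Matrix ι ι F) he0).eq_iff]
  let sC : Equiv.Perm C := s.subtypePerm hinv
  have hsC : sC ^ 7 ^ 1 = 1 := by
    refine Equiv.ext fun u => Subtype.ext ?_
    rw [Equiv.Perm.subtypePerm_pow]
    show (s ^ 7 ^ 1) u.1 = u.1
    rw [hsr]
    rfl
  have hmod8 := Equiv.Perm.card_compl_support_modEq (p := 7) hsC
  rw [hC] at hmod8
  have hfixC : sC.supportᶜ.card = 2 := by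
    rw [← hf2, hf, ← Fintype.card_coe]
    have h1 : ∀ v : Fix, C8 v.1 := by
      intro v
      have h01 : ((h₀ : R) : R ⧸ Z) ≠ 1 := fun e => hh₀ ((QuotientGroup.eq_one_iff h₀).mp e)
      have hv : v.1 = 1 ∨ v.1 = ((h₀ : R) : R ⧸ Z) := by
        by_contra hcon
        push Not at hcon
        have h3 : ({⟨1, map_one σ⟩, ⟨_, hh₀fix⟩, v} : Finset Fix).card = 3 := by
          rw [Finset.card_eq_three]
          exact ⟨_, _, _, fun e => h01 (congrArg Subtype.val e).symm, fun e => hcon.1 (congrArg Subtype.val e).symm,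
            fun e => hcon.2 (congrArg Subtype.val e).symm, rfl⟩
        have := Finset.card_le_univ ({⟨1, map_one σ⟩, ⟨_, hh₀fix⟩, v} : Finset Fix)
        rw [h3, ← hf, hf2] at this
        omega
      rcases hv with e | e <;> rw [e]
      · rw [← QuotientGroup.mk_one, hC8]
        simp
      · rw [hC8]
    refine Fintype.card_congr
      { toFun := fun u => ⟨u.1.1, ?_⟩
        invFun := fun v => ⟨⟨v.1, h1 v⟩, ?_⟩
        left_inv := fun _ => rfl
        right_inv := fun _ => rfl }
    · have := u.2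
      rw [Finset.mem_compl, Equiv.Perm.notMem_support] at this
      exact congrArg Subtype.val this
    · rw [Finset.mem_compl, Equiv.Perm.notMem_support]
      exact Subtype.ext v.2
  rw [hfixC] at hmod8
  exact absurd hmod8 (by decide)

end Cfsg.Agent.PrimeOrderElt
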