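import Cfsg.Prelude.Def_GeometricClasses
import Cfsg.Agent.Lib.PrimeOrderElt.PauliOrbit
import Cfsg.Agent.Lib.PrimeOrderElt.Construct
import Cfsg.Agent.Lib.Symplectic.ExpFour
import Cfsg.Agent.Lib.Linear.Symplectic
/-!
# `2^{1+4}` of minus type in `Sp_4(q)`, `q` odd (owner: helper43)

* `MinusFour`            : the properties used; `minusFour_of` derives them from the printed hypotheses
* `MinusFour.exists_frame`     : `a, c, i, j` with `a² = 1`, `c² = i² = j² = -1`, in two anticommuting pairs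
* `MinusFour.exists_fixed`     : an element of order three modulo scalars of the normaliser fixes a noncentral element
* `MinusFour.exists_five`      : an element of order five in the normaliser, if 5 does not divide `q - 1`
-/

set_option autoImplicit false

namespace Cfsg.Agent.PrimeOrderElt

open Module Matrix
open scoped MatrixGroups commutatorElement

variable {F : Type*} [Field F]

/-- Membership of `Sp` through the Gram matrix. -/
theorem mem_spGL_iff_gram {g : GL (Fin 2 ⊕ Fin 2) F} :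
    g ∈ Cfsg.spGL 2 F ↔ g.1ᵀ * Matrix.J (Fin 2) F * g.1 = Matrix.J (Fin 2) F :=
  (Linear.mem_symplecticGroup_iff (A := g.1)).symm.trans SymplecticGroup.mem_iff'

/-- The properties of an irreducible `2^{1+4}` of minus type that are used. -/
structure MinusFour (R : Subgroup (GL (Fin 2 ⊕ Fin 2) F)) : Prop where
  pauli : IsPauliLike R
  le : R ≤ Cfsg.spGL 2 F
  card : Nat.card R = 32
  neg_mem : (-1 : GL (Fin 2 ⊕ Fin 2) F) ∈ R
  sq : ∀ g ∈ R, g * g = 1 ∨ g * g = -1
  comm : ∀ g ∈ R, ∀ h ∈ R, g * h = h * g ∨ g * h = -(h * g)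
  central : ∀ g ∈ R, (∀ h ∈ R, g * h = h * g) → g = 1 ∨ g = -1
  minus : Cfsg.Geo.IsOfMinusType 2 R

theorem unit_ne_neg {ι : Type} [Fintype ι] [DecidableEq ι] [Nonempty ι] (h2 : (2 : F) ≠ 0) (g : GL ι F) :
    g ≠ -g := by
  intro h
  have h' := congrArg Units.val h
  rw [Units.val_neg] at h'
  have h2' : (2 : F) • (g : Matrix ι ι F) = 0 := by
    rw [two_smul]; nth_rewrite 2 [h']; exact add_neg_cancel _
  have h0 := (smul_eq_zero.mp h2').resolve_left h2
  exact g.isUnit.ne_zero h0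

theorem minusFour_of [Finite F] (h2 : (2 : F) ≠ 0) {R : Subgroup (GL (Fin 2 ⊕ Fin 2) F)}
    (hRs : Cfsg.Geo.IsSymplecticTypeGroup 2 R) (hRi : Cfsg.Geo.ActsAbsolutelyIrreducibly (Cfsg.Geo.matrixSet R))
    (hRf : R ≤ Cfsg.spGL 2 F) (hR5 : Nat.card R = 2 ^ 5) (hRZ : Nat.card (Subgroup.center R) = 2)
    (hRm : Cfsg.Geo.IsOfMinusType 2 R) : MinusFour R := by
  classical
  have hcen : ∀ M : Matrix (Fin 2 ⊕ Fin 2) (Fin 2 ⊕ Fin 2) F,
      (∀ g ∈ R, M * g.1 = g.1 * M) → ∃ c : F, M = c • 1 :=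
    fun M hM => hRi.2 M (by rintro _ ⟨g, hg, rfl⟩; exact hM g hg)
  have he : Monoid.exponent R = 4 := hRs.exponent_eq
  have h4 : ∀ t : R, t ^ 4 = 1 := fun t => by rw [← he]; exact Monoid.pow_exponent_eq_one t
  have hpow : ∀ (g : GL (Fin 2 ⊕ Fin 2) F) (c : F), g ∈ R → g.1 = c • 1 → c ^ 4 = 1 := by
    intro g c hg hc
    have h := congrArg (fun u : R => (u : GL (Fin 2 ⊕ Fin 2) F).1) (h4 ⟨g, hg⟩)
    simp only [SubmonoidClass.coe_pow, Units.val_pow_eq_pow_val, hc, _root_.smul_pow, one_pow, OneMemClass.coe_one,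
      Units.val_one] at h
    simpa using congr_fun (congr_fun h (Sum.inl 0)) (Sum.inl 0)
  obtain ⟨z, hz, hz1⟩ : ∃ z ∈ Subgroup.center R, z ≠ 1 := by
    by_contra hno
    push Not at hno
    have h1 : Subgroup.center R = ⊥ := (Subgroup.eq_bot_iff_forall _).mpr hno
    rw [h1, Subgroup.card_bot] at hRZ
    omega
  have hz2 : z ^ 2 = 1 := by
    have h := congrArg Subtype.val (pow_card_eq_one' (x := (⟨z, hz⟩ : Subgroup.center R)))
    rw [hRZ] at h
    exact h
  obtain ⟨e, he'⟩ := hcen (z : GL (Fin 2 ⊕ Fin 2) F).1 fun g hg =>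
    congrArg (fun u : R => (u : GL (Fin 2 ⊕ Fin 2) F).1) (Subgroup.mem_center_iff.mp hz ⟨g, hg⟩).symm
  have hzneg : (z : GL (Fin 2 ⊕ Fin 2) F) = -1 := by
    have h := congrArg (fun u : R => (u : GL (Fin 2 ⊕ Fin 2) F).1) hz2
    simp only [SubmonoidClass.coe_pow, Units.val_pow_eq_pow_val, he', _root_.smul_pow, one_pow, OneMemClass.coe_one,
      Units.val_one] at h
    have he2 : e ^ 2 = 1 := by simpa using congr_fun (congr_fun h (Sum.inl 0)) (Sum.inl 0)
    rcases sq_eq_one_iff.mp he2 with rfl | rfl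
    · exact absurd (Subtype.ext (Units.ext (by rw [he', one_smul]; rfl))) hz1
    · exact Units.ext (by rw [he', neg_one_smul, Units.val_neg, Units.val_one])
  obtain ⟨hsq, hcm⟩ := Symplectic.exists_relations (T := R)
    ⟨hRs.pGroup, hRs.cyclic_of_characteristic⟩ h4 hz hz2 hz1
  have hcomm : ∀ g ∈ R, ∀ h ∈ R, g * h = h * g ∨ g * h = -(h * g) := by
    intro g hg h hh
    have e1 : g * h = ⁅g, h⁆ * (h * g) := by rw [commutatorElement_def]; group
    rcases hcm ⟨g, hg⟩ ⟨h, hh⟩ with h' | h'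
    · left
      rw [e1, show ⁅g, h⁆ = 1 from congrArg Subtype.val h', one_mul]
    · right
      rw [e1, show ⁅g, h⁆ = -1 from (congrArg Subtype.val h').trans hzneg, neg_mul, one_mul]
  refine ⟨⟨rfl, ?_, h2, hpow, fun g hg h hh => (hcomm g hg h hh).imp id (fun e => ?_), hcen⟩, hRf,
    by rw [hR5]; norm_num, hzneg ▸ z.2, fun g hg => ?_, hcomm, fun g hg hall => ?_, hRm⟩
  · have h := Subgroup.card_eq_card_quotient_mul_card_subgroup (Subgroup.center R)
    rw [hRZ, hR5] at h
    omega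
  · rw [← Units.val_mul, e, Units.val_neg, Units.val_mul]
  · exact (hsq ⟨g, hg⟩).imp (congrArg Subtype.val) fun e => (congrArg Subtype.val e).trans hzneg
  · have hgc : (⟨g, hg⟩ : R) ∈ Subgroup.center R :=
      Subgroup.mem_center_iff.mpr fun u => Subtype.ext (hall u u.2).symm
    have h1 : (⟨⟨g, hg⟩, hgc⟩ : Subgroup.center R) = 1 ∨ (⟨⟨g, hg⟩, hgc⟩ : Subgroup.center R) = ⟨z, hz⟩ := by
      obtain ⟨a, b, -, hab⟩ := Nat.card_eq_two_iff.mp hRZ
      have hall' : ∀ w : Subgroup.center R, w = a ∨ w = b := fun w => by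
        have : w ∈ ({a, b} : Set (Subgroup.center R)) := by rw [hab]; trivial
        simpa using this
      have hne : (⟨z, hz⟩ : Subgroup.center R) ≠ 1 := fun e => hz1 (congrArg Subtype.val e)
      rcases hall' ⟨⟨g, hg⟩, hgc⟩ with e | e <;> rcases hall' 1 with e1 | e1 <;> rcases hall' ⟨z, hz⟩ with e2 | e2 <;>
        first
          | exact Or.inl (e.trans e1.symm)
          | exact Or.inr (e.trans e2.symm)
          | exact absurd (e2.trans e1.symm) hne
    rcases h1 with e | e
    · exact Or.inl (congrArg (fun w : Subgroup.center R => (w.1 : GL (Fin 2 ⊕ Fin 2) F)) e)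
    · exact Or.inr ((congrArg (fun w : Subgroup.center R => (w.1 : GL (Fin 2 ⊕ Fin 2) F)) e).trans hzneg)

namespace MinusFour

variable {R : Subgroup (GL (Fin 2 ⊕ Fin 2) F)}

theorem two_ne (h : MinusFour R) : (2 : F) ≠ 0 := h.pauli.two_ne

theorem ne_neg (hR : MinusFour R) (g : GL (Fin 2 ⊕ Fin 2) F) : g ≠ -g := unit_ne_neg hR.two_ne g

/-- An element anticommuting with something is not `±1`. -/
theorem not_central (hR : MinusFour R) {g h : GL (Fin 2 ⊕ Fin 2) F} (e : g * h = -(h * g)) : g ≠ 1 ∧ g ≠ -1 := by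
  refine ⟨fun h1 => hR.ne_neg h ?_, fun h1 => hR.ne_neg h ?_⟩
  · simpa [h1] using e
  · simpa [h1, eq_comm] using e

theorem exists_anti (hR : MinusFour R) {g : GL (Fin 2 ⊕ Fin 2) F} (hg : g ∈ R) (h1 : g ≠ 1) (h2 : g ≠ -1) :
    ∃ h ∈ R, g * h = -(h * g) := by
  by_contra hno
  push Not at hno
  rcases hR.central g hg (fun h hh => (hR.comm g hg h hh).resolve_right (hno h hh)) with e | e
  · exact h1 e
  · exact h2 e

/-- Correction by an anticommuting pair. -/
theorem exists_decomp (hR : MinusFour R) {u v : GL (Fin 2 ⊕ Fin 2) F} (hu : u ∈ R) (hv : v ∈ R)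
    (huv : u * v = -(v * u)) {x : GL (Fin 2 ⊕ Fin 2) F} (hx : x ∈ R) :
    ∃ (m n : Bool) (s : GL (Fin 2 ⊕ Fin 2) F), s ∈ R ∧ x = ((bif m then u else 1) * (bif n then v else 1)) * s ∧
      s * u = u * s ∧ s * v = v * s := by
  have hvu : v * u = -(u * v) := by rw [huv, neg_neg]
  have step : ∀ {p q x : GL (Fin 2 ⊕ Fin 2) F}, p ∈ R → q ∈ R → x ∈ R → p * q = -(q * p) →
      ∃ (m : Bool) (s : GL (Fin 2 ⊕ Fin 2) F), s ∈ R ∧ x = (bif m then p else 1) * s ∧ s * q = q * s ∧
        (x * p = p * x → s * p = p * s) := by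
    intro p q x hp hq hx hpq
    rcases hR.comm x hx q hq with e | e
    · exact ⟨false, x, hx, (one_mul x).symm, e, id⟩
    · refine ⟨true, p⁻¹ * x, R.mul_mem (R.inv_mem hp) hx, (mul_inv_cancel_left p x).symm, ?_, fun h => ?_⟩
      · have hpq' : q * p⁻¹ = -(p⁻¹ * q) := by
          calc q * p⁻¹ = p⁻¹ * (p * q) * p⁻¹ := by rw [inv_mul_cancel_left]
            _ = _ := by rw [hpq, mul_neg, neg_mul, ← mul_assoc p⁻¹ q p, mul_inv_cancel_right]
        rw [mul_assoc, e, mul_neg, ← mul_assoc q p⁻¹ x, hpq', neg_mul, mul_assoc]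
      · rw [mul_assoc, h, inv_mul_cancel_left, mul_inv_cancel_left]
  obtain ⟨m, x1, hx1, hxx1, hx1v, -⟩ := step hu hv hx huv
  obtain ⟨n, s, hs, hxs, hsu, hsv⟩ := step hv hu hx1 hvu
  exact ⟨m, n, s, hs, by rw [hxx1, hxs, mul_assoc], hsu, hsv hx1v⟩

/-- The centraliser of an anticommuting pair is not abelian. -/
theorem exists_commuting [Finite F] (hR : MinusFour R) {u v : GL (Fin 2 ⊕ Fin 2) F} (hu : u ∈ R) (hv : v ∈ R)
    (huv : u * v = -(v * u)) :
    ∃ i ∈ R, ∃ j ∈ R, i * u = u * i ∧ i * v = v * i ∧ j * u = u * j ∧ j * v = v * j ∧ i * j = -(j * i) := by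
  by_contra hno
  push Not at hno
  have hS : ∀ s ∈ R, s * u = u * s → s * v = v * s → s = 1 ∨ s = -1 := by
    intro s hs h1 h2
    refine hR.central s hs fun y hy => ?_
    obtain ⟨m, n, t, ht, rfl, h3, h4⟩ := hR.exists_decomp hu hv huv hy
    have e : s * t = t * s := (hR.comm s hs t ht).resolve_right (hno s hs t ht h1 h2 h3 h4)
    have h5 : Commute s (bif m then u else 1) := by cases m; exacts [Commute.one_right s, h1]
    have h6 : Commute s (bif n then v else 1) := by cases n; exacts [Commute.one_right s, h2]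
    exact (h5.mul_right h6).mul_right e
  let ψ : Bool × Bool × Bool → R := fun t =>
    (bif t.1 then ⟨u, hu⟩ else 1) * (bif t.2.1 then ⟨v, hv⟩ else 1) * (bif t.2.2 then ⟨-1, hR.neg_mem⟩ else 1)
  have hψ : Function.Surjective ψ := by
    intro g
    obtain ⟨m, n, s, hs, hg, h1, h2⟩ := hR.exists_decomp hu hv huv g.2
    rcases hS s hs h1 h2 with e | e
    · refine ⟨(m, n, false), Subtype.ext ?_⟩
      rw [hg, e]
      cases m <;> cases n <;> simp [ψ]
    · refine ⟨(m, n, true), Subtype.ext ?_⟩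
      rw [hg, e]
      cases m <;> cases n <;> simp [ψ]
  have := Nat.card_le_card_of_surjective ψ hψ
  simp [hR.card] at this

/-- No two commuting independent involutions outside the centre. -/
theorem not_klein [Finite F] (hR : MinusFour R) {a b : GL (Fin 2 ⊕ Fin 2) F} (ha : a ∈ R) (hb : b ∈ R)
    (haa : a * a = 1) (hbb : b * b = 1) (hab : a * b = b * a) (ha1 : a ≠ 1) (ha2 : a ≠ -1) (hb1 : b ≠ 1)
    (hb2 : b ≠ -1) (hab1 : a * b ≠ 1) (hab2 : a * b ≠ -1) : False := by
  classical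
  let A' : R := ⟨a, ha⟩
  let B' : R := ⟨b, hb⟩
  let Z' : R := ⟨-1, hR.neg_mem⟩
  have hZc : ∀ w : R, Z' * w = w * Z' := fun w => Subtype.ext (by
    show (-1 : GL (Fin 2 ⊕ Fin 2) F) * w.1 = w.1 * -1
    rw [neg_one_mul, mul_neg_one])
  have hcomm : ∀ x ∈ ({A', B', Z'} : Set R), ∀ y ∈ ({A', B', Z'} : Set R), x * y = y * x := by
    rintro x (rfl | rfl | rfl) y (rfl | rfl | rfl)
    all_goals first
      | rfl
      | exact hZc _
      | exact (hZc _).symm
      | exact Subtype.ext hab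
      | exact Subtype.ext hab.symm
  let A := Subgroup.closure ({A', B', Z'} : Set R)
  have hAc : IsMulCommutative A := Subgroup.isMulCommutative_closure hcomm
  have hsq : ∀ x ∈ A, x * x = 1 := by
    intro x hx
    induction hx using Subgroup.closure_induction with
    | mem x hx =>
      rcases hx with rfl | rfl | rfl
      · exact Subtype.ext haa
      · exact Subtype.ext hbb
      · exact Subtype.ext (show (-1 : GL (Fin 2 ⊕ Fin 2) F) * -1 = 1 by rw [neg_mul_neg, one_mul])
    | one => exact one_mul 1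
    | mul x y hx hy ihx ihy =>
      have e : x * y = y * x := congrArg Subtype.val (hAc.is_comm.comm (⟨x, hx⟩ : A) ⟨y, hy⟩)
      calc x * y * (x * y) = x * y * (y * x) := by rw [← e]
        _ = x * (y * y) * x := by simp only [mul_assoc]
        _ = 1 := by rw [ihy, mul_one, ihx]
    | inv x _ ihx => rw [← _root_.mul_inv_rev, ihx, inv_one]
  have mA : ∀ x ∈ ({A', B', Z'} : Set R), x ∈ A := fun x hx => Subgroup.subset_closure hx
  let q : Bool × Bool → GL (Fin 2 ⊕ Fin 2) F := fun t => (bif t.1 then a else 1) * (bif t.2 then b else 1)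
  have hq : ∀ s t, q s * q t = q (xor s.1 t.1, xor s.2 t.2) := by
    have ha' : ∀ w, a * (a * w) = w := fun w => by rw [← mul_assoc, haa, one_mul]
    have hab' : ∀ w, b * (a * w) = a * (b * w) := fun w => by rw [← mul_assoc, ← hab, mul_assoc]
    rintro ⟨m, n⟩ ⟨m', n'⟩
    cases m <;> cases n <;> cases m' <;> cases n' <;>
      simp [q, mul_assoc, haa, hbb, ha', hab', ← hab]
  have hq1 : ∀ t, q t = 1 ∨ q t = -1 → t = (false, false) := by
    rintro ⟨m, n⟩ h
    cases m <;> cases n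
    · rfl
    · simp [q, hb1, hb2] at h
    · simp [q, ha1, ha2] at h
    · simp [q, hab1, hab2] at h
  let φ : Bool × Bool × Bool → A := fun t =>
    ⟨(bif t.1 then Z' else 1) * ((bif t.2.1 then A' else 1) * (bif t.2.2 then B' else 1)),
      A.mul_mem (by cases t.1; exacts [A.one_mem, mA _ (by simp)])
        (A.mul_mem (by cases t.2.1; exacts [A.one_mem, mA _ (by simp)]) (by cases t.2.2; exacts [A.one_mem, mA _ (by simp)]))⟩
  have hval : ∀ t, ((φ t).1 : GL (Fin 2 ⊕ Fin 2) F) = (bif t.1 then -1 else 1) * q t.2 := by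
    rintro ⟨e, m, n⟩
    cases e <;> cases m <;> cases n <;> simp [φ, q, Z', A', B']
  have hinj : Function.Injective φ := by
    rintro ⟨e, s⟩ ⟨e', t⟩ h
    have h' := congrArg (fun x : A => (x.1 : GL (Fin 2 ⊕ Fin 2) F)) h
    simp only [hval] at h'
    have hst : s = t := by
      have h1 := hq1 _ (show q (xor s.1 t.1, xor s.2 t.2) = 1 ∨ q (xor s.1 t.1, xor s.2 t.2) = -1 by
        rw [← hq]
        have ht : q t * q t = 1 := by rw [hq]; simp [q]
        cases e <;> cases e' <;> simp only [cond_true, cond_false, one_mul, neg_one_mul, neg_inj] at h'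
        · left; rw [h', ht]
        · right; rw [h', neg_mul, ht]
        · right; rw [show q s = -q t by rw [← h', neg_neg], neg_mul, ht]
        · left; rw [h', ht])
      obtain ⟨s1, s2⟩ := s
      obtain ⟨t1, t2⟩ := t
      simp only [Prod.mk.injEq] at h1 ⊢
      revert h1
      cases s1 <;> cases s2 <;> cases t1 <;> cases t2 <;> simp
    subst hst
    cases e <;> cases e' <;> simp only [cond_true, cond_false, one_mul, neg_one_mul] at h'
    · rfl
    · exact absurd h' (hR.ne_neg _)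
    · exact absurd h'.symm (hR.ne_neg _)
    · rfl
  have hle := Nat.card_le_card_of_injective φ hinj
  have hlt := hR.minus A hAc hsq
  simp at hle
  omega

theorem exists_invol [Finite F] (hR : MinusFour R) : ∃ a ∈ R, a * a = 1 ∧ a ≠ 1 ∧ a ≠ -1 := by
  obtain ⟨g, hg, hg1, hg2⟩ : ∃ g ∈ R, g ≠ 1 ∧ g ≠ -1 := by
    by_contra hno
    push Not at hno
    let ψ : Bool → R := fun t => bif t then ⟨-1, hR.neg_mem⟩ else 1
    have hψ : Function.Surjective ψ := by
      intro g
      by_cases h : g.1 = 1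
      · exact ⟨false, Subtype.ext h.symm⟩
      · exact ⟨true, Subtype.ext (hno g.1 g.2 h).symm⟩
    have := Nat.card_le_card_of_surjective ψ hψ
    simp [hR.card] at this
  obtain ⟨k, hk, hgk⟩ := hR.exists_anti hg hg1 hg2
  obtain ⟨i, hi, j, -, hig, hik, -, -, hij⟩ := hR.exists_commuting hg hk hgk
  obtain ⟨hi1, hi2⟩ := hR.not_central hij
  rcases hR.sq g hg with hgg | hgg
  · exact ⟨g, hg, hgg, hg1, hg2⟩
  rcases hR.sq i hi with hii | hii
  · exact ⟨i, hi, hii, hi1, hi2⟩
  have hgi : g * i * k = -(k * (g * i)) := by rw [mul_assoc, hik, ← mul_assoc, hgk, neg_mul, mul_assoc]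
  refine ⟨g * i, R.mul_mem hg hi, ?_, hR.not_central hgi⟩
  calc g * i * (g * i) = g * (i * g) * i := by simp only [mul_assoc]
    _ = (g * g) * (i * i) := by rw [hig]; simp only [mul_assoc]
    _ = 1 := by rw [hgg, hii, neg_mul_neg, one_mul]

theorem exists_frame [Finite F] (hR : MinusFour R) :
    ∃ a ∈ R, ∃ c ∈ R, ∃ i ∈ R, ∃ j ∈ R, a * a = 1 ∧ c * c = -1 ∧ i * i = -1 ∧ j * j = -1 ∧
      a * c = -(c * a) ∧ i * j = -(j * i) ∧ i * a = a * i ∧ i * c = c * i ∧ j * a = a * j ∧ j * c = c * j := by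
  obtain ⟨a, ha, haa, ha1, ha2⟩ := hR.exists_invol
  obtain ⟨k, hk, hak⟩ := hR.exists_anti ha ha1 ha2
  obtain ⟨c, hc, hac, hcc⟩ : ∃ c ∈ R, a * c = -(c * a) ∧ c * c = -1 := by
    rcases hR.sq k hk with h | h
    · refine ⟨a * k, R.mul_mem ha hk, ?_, ?_⟩
      · rw [← mul_assoc, haa, one_mul, hak, neg_mul, neg_neg, mul_assoc, haa, mul_one]
      · calc a * k * (a * k) = a * (k * a) * k := by simp only [mul_assoc]
          _ = a * (-(a * k)) * k := by rw [hak, neg_neg]
          _ = -1 := by rw [mul_neg, ← mul_assoc a a, haa, one_mul, neg_mul, h]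
    · exact ⟨k, hk, hak, h⟩
  obtain ⟨i, hi, j, hj, hia, hic, hja, hjc, hij⟩ := hR.exists_commuting ha hc hac
  have hsq : ∀ {p q : GL (Fin 2 ⊕ Fin 2) F}, p ∈ R → p * a = a * p → p * c = c * p → p * q = -(q * p) →
      p * p = -1 := by
    intro p q hp hpa hpc hpq
    obtain ⟨hp1, hp2⟩ := hR.not_central hpq
    rcases hR.sq p hp with h | h
    · exfalso
      have hap : a * p * c = -(c * (a * p)) := by rw [mul_assoc, hpc, ← mul_assoc, hac, neg_mul, mul_assoc]
      obtain ⟨h1, h2⟩ := hR.not_central hap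
      exact hR.not_klein ha hp haa h hpa.symm ha1 ha2 hp1 hp2 h1 h2
    · exact h
  exact ⟨a, ha, c, hc, i, hi, j, hj, haa, hcc, hsq hi hia hic hij,
    hsq hj hja hjc (by rw [hij, neg_neg]), hac, hij, hia, hic, hja, hjc⟩

/-- An element of order three modulo scalars fixes a noncentral element. -/
theorem exists_fixed [Finite F] (hR : MinusFour R) {y : GL (Fin 2 ⊕ Fin 2) F}
    (hy : y ∈ Cfsg.Geo.subgroupNormalizer R) (hy3 : ∀ h, y ^ 3 * h = h * y ^ 3) :
    ∃ h ∈ R, y * h = h * y ∧ h ≠ 1 ∧ h ≠ -1 := by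
  obtain ⟨v, hv, hvv, hv1, hv2⟩ := hR.exists_invol
  set φ : MulAut (GL (Fin 2 ⊕ Fin 2) F) := MulAut.conj y with hφ
  have hφR : ∀ h ∈ R, φ h ∈ R := fun h hh => (Subgroup.mem_normalizer_iff.mp hy h).mp hh
  have hφc : ∀ h, φ h = h → y * h = h * y := fun h e => by
    rw [hφ, MulAut.conj_apply, mul_inv_eq_iff_eq_mul] at e; exact e
  have hφ3 : ∀ h, φ (φ (φ h)) = h := fun h => by
    simp only [hφ, MulAut.conj_apply]
    rw [show y * (y * (y * h * y⁻¹) * y⁻¹) * y⁻¹ = y ^ 3 * h * (y ^ 3)⁻¹ by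
      simp only [pow_succ, pow_zero, one_mul, _root_.mul_inv_rev, mul_assoc], hy3, mul_inv_cancel_right]
  have hφn : ∀ h, φ (-h) = -φ h := fun h => by
    simp only [hφ, MulAut.conj_apply, mul_neg, neg_mul]
  have hfix : ∀ h, φ h = h ∨ φ h = -h → φ h = h := fun h e => e.resolve_right fun e' => hR.ne_neg h (by
    calc h = φ (φ (φ h)) := (hφ3 h).symm
      _ = -h := by simp only [e', hφn, neg_neg])
  set v1 := φ v with hv1def
  set v2 := φ v1 with hv2def
  have hm1 : v1 ∈ R := hφR v hv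
  have hm2 : v2 ∈ R := hφR v1 hm1
  by_cases hpm : v1 = v ∨ v1 = -v
  · exact ⟨v, hv, hφc v (hfix v hpm), hv1, hv2⟩
  push Not at hpm
  set w := v * v1 * v2 with hw
  have hwR : w ∈ R := R.mul_mem (R.mul_mem hv hm1) hm2
  by_cases hwc : w = 1 ∨ w = -1
  · exfalso
    have hv11 : v1 * v1 = 1 := by rw [hv1def, ← map_mul, hvv, map_one]
    have hv22 : v2 * v2 = 1 := by rw [hv2def, ← map_mul, hv11, map_one]
    have hvi : v⁻¹ = v := inv_eq_of_mul_eq_one_right hvv
    have hv1i : v1⁻¹ = v1 := inv_eq_of_mul_eq_one_right hv11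
    have h2 : v2 = v1 * v ∨ v2 = -(v1 * v) := by
      have e : v2 = (v1⁻¹ * v⁻¹) * w := by rw [hw]; group
      rw [hvi, hv1i] at e
      rcases hwc with h | h <;> rw [h] at e
      · left; rw [e, mul_one]
      · right; rw [e, mul_neg_one]
    have h3 : v1 * v * (v1 * v) = 1 := by
      rcases h2 with h | h <;> rw [h] at hv22
      · exact hv22
      · rwa [neg_mul_neg] at hv22
    have hcomm : v * v1 = v1 * v := by
      have := congrArg (fun x => v1 * x * v) h3
      simp only [← mul_assoc, hv11, one_mul, mul_one] at this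
      simpa only [mul_assoc, hvv, mul_one] using this
    refine hR.not_klein hv hm1 hvv hv11 hcomm hv1 hv2 (fun h => hv1 ?_) (fun h => hv2 ?_) (fun h => hpm.1 ?_)
      (fun h => hpm.2 ?_)
    · exact φ.injective (h.trans (map_one φ).symm)
    · exact φ.injective (h.trans (by rw [hφn, map_one]))
    · rw [← inv_eq_of_mul_eq_one_right h, hvi]
    · calc v1 = v⁻¹ * (v * v1) := (inv_mul_cancel_left v v1).symm
        _ = -v := by rw [h, hvi, mul_neg_one]
  · push Not at hwc
    have he : φ w = v1 * v2 * v := by rw [hw, map_mul, map_mul, ← hv1def, ← hv2def, hv2def, hv1def, hφ3]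
    refine ⟨w, hwR, hφc w (hfix w ?_), hwc.1, hwc.2⟩
    rcases hR.comm (v1 * v2) (R.mul_mem hm1 hm2) v hv with e | e
    · left; rw [he, e, hw, mul_assoc]
    · right; rw [he, e, hw, mul_assoc]

/-- A frame generates. -/
theorem scalar_of_commute_frame [Finite F] (hR : MinusFour R) {a c i j : GL (Fin 2 ⊕ Fin 2) F}
    (ha : a ∈ R) (hc : c ∈ R) (hi : i ∈ R) (hj : j ∈ R) (hac : a * c = -(c * a)) (hij : i * j = -(j * i))
    (hia : i * a = a * i) (hic : i * c = c * i) (hja : j * a = a * j) (hjc : j * c = c * j)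
    {M : Matrix (Fin 2 ⊕ Fin 2) (Fin 2 ⊕ Fin 2) F} (hMa : M * a.1 = a.1 * M) (hMc : M * c.1 = c.1 * M)
    (hMi : M * i.1 = i.1 * M) (hMj : M * j.1 = j.1 * M) : ∃ e : F, M = e • 1 := by
  classical
  have hca : c * a = -(a * c) := by rw [hac, neg_neg]
  have hji : j * i = -(i * j) := by rw [hij, neg_neg]
  -- the sign of g against a product
  let sg : Bool → GL (Fin 2 ⊕ Fin 2) F := fun b => bif b then -1 else 1
  have hsg : ∀ (b : Bool) w, sg b * w = w * sg b := fun b w => by cases b <;> simp [sg]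
  have hpair : ∀ (g p q : GL (Fin 2 ⊕ Fin 2) F) (s t : Bool), g * p = sg s * (p * g) → g * q = sg t * (q * g) →
      g * (p * q) = sg (xor s t) * (p * q * g) := by
    intro g p q s t h1 h2
    rw [← mul_assoc, h1, mul_assoc, mul_assoc p g q, h2, ← mul_assoc p, ← hsg t p, mul_assoc (sg t),
      ← mul_assoc (sg s), ← mul_assoc]
    cases s <;> cases t <;> simp [sg, mul_assoc]
  have hbif : ∀ (g p : GL (Fin 2 ⊕ Fin 2) F) (m s : Bool), g * p = sg s * (p * g) →
      g * (bif m then p else 1) = sg (m && s) * ((bif m then p else 1) * g) := by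
    intro g p m s h
    cases m
    · simp [sg]
    · simpa using h
  have same : ∀ {g p : GL (Fin 2 ⊕ Fin 2) F}, g * p = p * g → g * p = sg false * (p * g) := fun h => by
    simp [sg, h]
  have opp : ∀ {g p : GL (Fin 2 ⊕ Fin 2) F}, g * p = -(p * g) → g * p = sg true * (p * g) := fun h => by
    simp [sg, h]
  let q : Bool × Bool × Bool × Bool → GL (Fin 2 ⊕ Fin 2) F := fun t =>
    ((bif t.1 then a else 1) * (bif t.2.1 then c else 1)) * ((bif t.2.2.1 then i else 1) * (bif t.2.2.2 then j else 1))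
  have qa : ∀ t, a * q t = sg t.2.1 * (q t * a) := fun t => by
    have := hpair a _ _ _ _ (hpair a _ _ _ _ (hbif a a t.1 false (same rfl)) (hbif a c t.2.1 true (opp hac)))
      (hpair a _ _ _ _ (hbif a i t.2.2.1 false (same hia.symm)) (hbif a j t.2.2.2 false (same hja.symm)))
    simpa [q] using this
  have qc : ∀ t, c * q t = sg t.1 * (q t * c) := fun t => by
    have := hpair c _ _ _ _ (hpair c _ _ _ _ (hbif c a t.1 true (opp hca)) (hbif c c t.2.1 false (same rfl)))
      (hpair c _ _ _ _ (hbif c i t.2.2.1 false (same hic.symm)) (hbif c j t.2.2.2 false (same hjc.symm)))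
    simpa [q] using this
  have qi : ∀ t, i * q t = sg t.2.2.2 * (q t * i) := fun t => by
    have := hpair i _ _ _ _ (hpair i _ _ _ _ (hbif i a t.1 false (same hia)) (hbif i c t.2.1 false (same hic)))
      (hpair i _ _ _ _ (hbif i i t.2.2.1 false (same rfl)) (hbif i j t.2.2.2 true (opp hij)))
    simpa [q] using this
  have qj : ∀ t, j * q t = sg t.2.2.1 * (q t * j) := fun t => by
    have := hpair j _ _ _ _ (hpair j _ _ _ _ (hbif j a t.1 false (same hja)) (hbif j c t.2.1 false (same hjc)))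
      (hpair j _ _ _ _ (hbif j i t.2.2.1 true (opp hji)) (hbif j j t.2.2.2 false (same rfl)))
    simpa [q] using this
  have hqR : ∀ t, q t ∈ R := by
    rintro ⟨m, n, k, l⟩
    refine R.mul_mem (R.mul_mem ?_ ?_) (R.mul_mem ?_ ?_)
    · cases m; exacts [R.one_mem, ha]
    · cases n; exacts [R.one_mem, hc]
    · cases k; exacts [R.one_mem, hi]
    · cases l; exacts [R.one_mem, hj]
  have hsgR : ∀ b, sg b ∈ R := fun b => by cases b; exacts [R.one_mem, hR.neg_mem]
  let φ : Bool × (Bool × Bool × Bool × Bool) → R := fun t => ⟨sg t.1 * q t.2, R.mul_mem (hsgR _) (hqR _)⟩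
  have hinj : Function.Injective φ := by
    rintro ⟨e, s⟩ ⟨e', t⟩ h
    have h' : sg e * q s = sg e' * q t := congrArg Subtype.val h
    have key : ∀ (g : GL (Fin 2 ⊕ Fin 2) F) (u u' : Bool), g * q s = sg u * (q s * g) → g * q t = sg u' * (q t * g) →
        u = u' := by
      intro g u u' h1 h2
      have h1' : g * (sg e * q s) = sg u * (sg e * q s * g) := by
        rw [← mul_assoc, ← hsg e g, mul_assoc, h1]
        cases e <;> simp [sg]
      have h2' : g * (sg e' * q t) = sg u' * (sg e' * q t * g) := by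
        rw [← mul_assoc, ← hsg e' g, mul_assoc, h2]
        cases e' <;> simp [sg]
      rw [h'] at h1'
      have h3 := mul_right_cancel (h1'.symm.trans h2')
      cases u <;> cases u'
      · rfl
      · exact absurd (by simpa [sg] using h3) (hR.ne_neg 1)
      · exact absurd (by simpa [sg] using h3.symm) (hR.ne_neg 1)
      · rfl
    have hst : s = t := by
      obtain ⟨s1, s2, s3, s4⟩ := s
      obtain ⟨t1, t2, t3, t4⟩ := t
      obtain rfl : s2 = t2 := key a _ _ (qa _) (qa _)
      obtain rfl : s1 = t1 := key c _ _ (qc _) (qc _)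
      obtain rfl : s4 = t4 := key i _ _ (qi _) (qi _)
      obtain rfl : s3 = t3 := key j _ _ (qj _) (qj _)
      rfl
    subst hst
    have h4 := mul_right_cancel h'
    cases e <;> cases e'
    · rfl
    · exact absurd (by simpa [sg] using h4) (hR.ne_neg 1)
    · exact absurd (by simpa [sg] using h4.symm) (hR.ne_neg 1)
    · rfl
  have hbij : Function.Bijective φ := by
    have := Fintype.ofFinite R
    refine (Fintype.bijective_iff_injective_and_card φ).mpr ⟨hinj, ?_⟩
    rw [← Nat.card_eq_fintype_card (α := R), hR.card]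
    simp
  refine hR.pauli.center M fun g hg => ?_
  obtain ⟨⟨e, t⟩, ht⟩ := hbij.2 ⟨g, hg⟩
  have hg' : sg e * q t = g := congrArg Subtype.val ht
  have hone : ∀ (m : Bool) (u : GL (Fin 2 ⊕ Fin 2) F), M * u.1 = u.1 * M →
      Commute M ((bif m then u else 1 : GL (Fin 2 ⊕ Fin 2) F)).1 := fun m u h => by
    cases m; exacts [Commute.one_right M, h]
  have hs : Commute M (sg e).1 := by
    cases e
    · exact Commute.one_right M
    · show M * ((-1 : GL (Fin 2 ⊕ Fin 2) F)).1 = _ * M
      simp [sg]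
  rw [← hg']
  simp only [q, Units.val_mul]
  exact hs.mul_right (((hone _ a hMa).mul_right (hone _ c hMc)).mul_right ((hone _ i hMi).mul_right (hone _ j hMj)))

section Five

/-- `1 + h` as a unit, for `h² = -1`. -/
noncomputable def addOne (h2 : (2 : F) ≠ 0) (h : GL (Fin 2 ⊕ Fin 2) F) (hh : h * h = -1) :
    GL (Fin 2 ⊕ Fin 2) F where
  val := 1 + h.1
  inv := (2⁻¹ : F) • (1 - h.1)
  val_inv := by
    have e : h.1 * h.1 = -1 := by rw [← Units.val_mul, hh, Units.val_neg, Units.val_one]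
    rw [Matrix.mul_smul, show (1 + h.1) * (1 - h.1) = 1 - h.1 * h.1 by noncomm_ring, e, sub_neg_eq_add,
      ← two_smul F (1 : Matrix (Fin 2 ⊕ Fin 2) (Fin 2 ⊕ Fin 2) F), smul_smul, inv_mul_cancel₀ h2, one_smul]
  inv_val := by
    have e : h.1 * h.1 = -1 := by rw [← Units.val_mul, hh, Units.val_neg, Units.val_one]
    rw [Matrix.smul_mul, show (1 - h.1) * (1 + h.1) = 1 - h.1 * h.1 by noncomm_ring, e, sub_neg_eq_add,
      ← two_smul F (1 : Matrix (Fin 2 ⊕ Fin 2) (Fin 2 ⊕ Fin 2) F), smul_smul, inv_mul_cancel₀ h2, one_smul]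

variable {h2 : (2 : F) ≠ 0} {h : GL (Fin 2 ⊕ Fin 2) F} {hh : h * h = -1}

theorem addOne_same {x : GL (Fin 2 ⊕ Fin 2) F} (e : h * x = x * h) :
    addOne h2 h hh * x = x * addOne h2 h hh := Units.ext (by
  show (1 + h.1) * x.1 = x.1 * (1 + h.1)
  rw [add_mul, mul_add, one_mul, mul_one, ← Units.val_mul h x, e, Units.val_mul])

theorem addOne_opp {x : GL (Fin 2 ⊕ Fin 2) F} (e : h * x = -(x * h)) :
    addOne h2 h hh * x = h * x * addOne h2 h hh := Units.ext (by
  have e' : h.1 * x.1 = -(x.1 * h.1) := by rw [← Units.val_mul, e, Units.val_neg, Units.val_mul]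
  have e2 : h.1 * h.1 = -1 := by rw [← Units.val_mul, hh, Units.val_neg, Units.val_one]
  show (1 + h.1) * x.1 = h.1 * x.1 * (1 + h.1)
  rw [add_mul, one_mul, mul_add, mul_one, e', neg_mul, mul_assoc, e2, mul_neg, mul_one, neg_neg, add_comm])

theorem addOne_mem_normalizer [Finite F] (hR : MinusFour R) (hhR : h ∈ R) :
    addOne h2 h hh ∈ Cfsg.Geo.subgroupNormalizer R := by
  have hconj : ∀ x ∈ R, addOne h2 h hh * x * (addOne h2 h hh)⁻¹ ∈ R := by
    intro x hx
    rcases hR.comm h hhR x hx with e | e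
    · rw [addOne_same e, mul_inv_cancel_right]; exact hx
    · rw [addOne_opp e, mul_inv_cancel_right]; exact R.mul_mem hhR hx
  have hmap : R.map (MulAut.conj (addOne h2 h hh)).toMonoidHom ≤ R := by
    rintro _ ⟨x, hx, rfl⟩
    exact hconj x hx
  have heq : R.map (MulAut.conj (addOne h2 h hh)).toMonoidHom = R :=
    Subgroup.eq_of_le_of_card_ge hmap
      (Nat.card_congr (R.equivMapOfInjective _ (MulAut.conj (addOne h2 h hh)).injective).toEquiv).le
  refine Subgroup.mem_normalizer_iff.mpr fun x => ⟨hconj x, fun hx => ?_⟩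
  obtain ⟨y, hy, e⟩ := heq.ge hx
  have : y = x := (MulAut.conj (addOne h2 h hh)).injective e
  exact this ▸ hy

theorem addOne_similitude (hs : h ∈ Cfsg.spGL 2 F) :
    (addOne h2 h hh).1ᵀ * Matrix.J (Fin 2) F * (addOne h2 h hh).1 = (2 : F) • Matrix.J (Fin 2) F := by
  have e1 := mem_spGL_iff_gram.mp hs
  have e2 : h.1 * h.1 = -1 := by rw [← Units.val_mul, hh, Units.val_neg, Units.val_one]
  have e3 : h.1ᵀ * Matrix.J (Fin 2) F = -(Matrix.J (Fin 2) F * h.1) := by
    calc h.1ᵀ * Matrix.J (Fin 2) F = h.1ᵀ * Matrix.J (Fin 2) F * -(h.1 * h.1) := by rw [e2, neg_neg, mul_one]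
      _ = _ := by rw [mul_neg, ← mul_assoc, e1]
  show (1 + h.1)ᵀ * _ * (1 + h.1) = _
  rw [transpose_add, transpose_one, add_mul, one_mul, e3, mul_add, mul_one, add_mul, neg_mul, mul_assoc _ h.1 h.1, e2,
    mul_neg, mul_one, neg_neg, two_smul]
  abel

end Five

set_option maxHeartbeats 2000000 in
/-- An element of order five of the normaliser lying in `Sp`. -/
theorem exists_five [Fintype F] (hR : MinusFour R) (hnd : ¬ 5 ∣ Fintype.card F - 1) :
    ∃ y ∈ Cfsg.spGL 2 F, y ∈ Cfsg.Geo.subgroupNormalizer R ∧ y ^ 5 = 1 ∧ y ≠ 1 := by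
  classical
  have : Fact (Nat.Prime 5) := ⟨by norm_num⟩
  have h2 := hR.two_ne
  obtain ⟨a, ha, c, hc, i, hi, j, hj, haa, hcc, hii, hjj, hac, hij, hia, hic, hja, hjc⟩ := hR.exists_frame
  -- a chain of four elements of square -1
  obtain ⟨h3, h3def⟩ : ∃ x, x = i * a := ⟨_, rfl⟩
  have h33 : h3 * h3 = -1 := by
    calc h3 * h3 = i * (a * i) * a := by simp only [h3def, mul_assoc]
      _ = (i * i) * (a * a) := by rw [← hia]; simp only [mul_assoc]
      _ = -1 := by rw [hii, haa, mul_one]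
  have h3m : h3 ∈ R := h3def ▸ R.mul_mem hi ha
  have e12 : i * j = -(j * i) := hij
  have e13 : i * h3 = h3 * i := by rw [h3def, hia, ← mul_assoc, hia, mul_assoc]
  have e14 : i * c = c * i := hic
  have e23 : j * h3 = -(h3 * j) := by
    rw [h3def, ← mul_assoc, show j * i = -(i * j) by rw [hij, neg_neg], neg_mul, mul_assoc, hja, ← mul_assoc]
  have e24 : j * c = c * j := hjc
  have e34 : h3 * c = -(c * h3) := by
    rw [h3def, mul_assoc, hac, mul_neg, ← mul_assoc, hic, mul_assoc]
  have anti' : ∀ {p q : GL (Fin 2 ⊕ Fin 2) F}, p * q = -(q * p) → q * p = -(p * q) := fun e => by rw [e, neg_neg]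
  set s1 := addOne h2 i hii
  set s2 := addOne h2 j hjj
  set s3 := addOne h2 h3 h33
  set s4 := addOne h2 c hcc
  set g := s1 * s2 * s3 * s4 with hg
  have braid : ∀ {p q : GL (Fin 2 ⊕ Fin 2) F} (hp : p * p = -1) (hq : q * q = -1), p * q = -(q * p) →
      addOne h2 p hp * addOne h2 q hq * p = q * (addOne h2 p hp * addOne h2 q hq) := by
    intro p q hp hq e
    rw [mul_assoc, addOne_opp (anti' e), ← mul_assoc, ← mul_assoc q]
    congr 1
    have e1 : p * (q * p) = q := by
      rw [anti' e, mul_neg, ← mul_assoc, hp, neg_mul, one_mul, neg_neg]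
    rw [addOne_opp (x := q * p) (by rw [e1, mul_assoc, hp, mul_neg, mul_one, neg_neg]), e1]
  have same2 : ∀ {x}, j * x = x * j → s2 * x = x * s2 := fun e => addOne_same e
  have same3 : ∀ {x}, h3 * x = x * h3 → s3 * x = x * s3 := fun e => addOne_same e
  have same4 : ∀ {x}, c * x = x * c → s4 * x = x * s4 := fun e => addOne_same e
  have same1 : ∀ {x}, i * x = x * i → s1 * x = x * s1 := fun e => addOne_same e
  have opp1 : ∀ {x}, i * x = -(x * i) → s1 * x = i * x * s1 := fun e => addOne_opp e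
  have opp2 : ∀ {x}, j * x = -(x * j) → s2 * x = j * x * s2 := fun e => addOne_opp e
  have opp3 : ∀ {x}, h3 * x = -(x * h3) → s3 * x = h3 * x * s3 := fun e => addOne_opp e
  have b12 : s1 * s2 * i = j * (s1 * s2) := braid hii hjj e12
  have b23 : s2 * s3 * j = h3 * (s2 * s3) := braid hjj h33 e23
  have b34 : s3 * s4 * h3 = c * (s3 * s4) := braid h33 hcc e34
  have g1 : g * i = j * g := by
    calc g * i = s1 * s2 * s3 * (s4 * i) := by simp only [hg, mul_assoc]
      _ = s1 * s2 * (s3 * i) * s4 := by rw [same4 e14.symm]; simp only [mul_assoc]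
      _ = (s1 * s2 * i) * (s3 * s4) := by rw [same3 e13.symm]; simp only [mul_assoc]
      _ = j * g := by rw [b12]; simp only [hg, mul_assoc]
  have g2 : g * j = h3 * g := by
    calc g * j = s1 * s2 * s3 * (s4 * j) := by simp only [hg, mul_assoc]
      _ = s1 * (s2 * s3 * j) * s4 := by rw [same4 e24.symm]; simp only [mul_assoc]
      _ = (s1 * h3) * (s2 * s3 * s4) := by rw [b23]; simp only [mul_assoc]
      _ = h3 * g := by rw [same1 e13]; simp only [hg, mul_assoc]
  have g3 : g * h3 = c * g := by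
    calc g * h3 = s1 * s2 * (s3 * s4 * h3) := by simp only [hg, mul_assoc]
      _ = s1 * (s2 * c) * (s3 * s4) := by rw [b34]; simp only [mul_assoc]
      _ = (s1 * c) * s2 * (s3 * s4) := by rw [same2 e24]; simp only [mul_assoc]
      _ = c * g := by rw [same1 e14]; simp only [hg, mul_assoc]
  obtain ⟨h5, h5def⟩ : ∃ x, x = i * j * h3 * c := ⟨_, rfl⟩
  have g4 : g * c = h5 * g := by
    have a3 : j * (h3 * c) = -(h3 * c * j) := by rw [← mul_assoc, e23, neg_mul, mul_assoc, e24, ← mul_assoc]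
    have a2 : i * (j * h3 * c) = -(j * h3 * c * i) := by
      rw [← mul_assoc, ← mul_assoc, e12, neg_mul, neg_mul, mul_assoc j i h3, e13, ← mul_assoc, mul_assoc _ i c, e14,
        ← mul_assoc]
    calc g * c = s1 * s2 * s3 * (s4 * c) := by simp only [hg, mul_assoc]
      _ = s1 * s2 * (s3 * c) * s4 := by rw [same4 rfl]; simp only [mul_assoc]
      _ = s1 * (s2 * (h3 * c)) * (s3 * s4) := by rw [opp3 e34]; simp only [mul_assoc]
      _ = (s1 * (j * h3 * c)) * (s2 * s3 * s4) := by rw [opp2 a3]; simp only [mul_assoc]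
      _ = h5 * g := by rw [opp1 a2]; simp only [hg, h5def, mul_assoc]
  have g5 : g * h5 = i * g := by
    have e : j * h3 * c * h5 = i := by
      have hw : j * h3 * c * (j * h3 * c) = -1 := by
        have hj3 : j * h3 * c * j = -(j * j * (h3 * c)) := by
          rw [mul_assoc _ c j, ← e24, ← mul_assoc, mul_assoc j h3 j, anti' e23, mul_neg, neg_mul]
          simp only [mul_assoc]
        calc j * h3 * c * (j * h3 * c) = (j * h3 * c * j) * (h3 * c) := by simp only [mul_assoc]
          _ = h3 * c * (h3 * c) := by rw [hj3, hjj, neg_one_mul, neg_neg]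
          _ = h3 * (c * h3) * c := by simp only [mul_assoc]
          _ = -(h3 * h3 * (c * c)) := by rw [anti' e34, mul_neg, neg_mul]; simp only [mul_assoc]
          _ = -1 := by rw [h33, hcc, neg_mul_neg, one_mul]
      calc j * h3 * c * h5 = j * h3 * (c * i) * (j * h3 * c) := by simp only [h5def, mul_assoc]
        _ = j * (h3 * i) * c * (j * h3 * c) := by rw [← e14]; simp only [mul_assoc]
        _ = (j * i) * (h3 * c * (j * h3 * c)) := by rw [← e13]; simp only [mul_assoc]
        _ = -(i * (j * h3 * c * (j * h3 * c))) := by rw [anti' e12, neg_mul]; simp only [mul_assoc]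
        _ = i := by rw [hw, mul_neg, mul_one, neg_neg]
    calc g * h5 = g * i * (j * (h3 * c)) := by simp only [h5def, mul_assoc]
      _ = j * (g * j) * (h3 * c) := by rw [g1]; simp only [mul_assoc]
      _ = j * h3 * (g * h3) * c := by rw [g2]; simp only [mul_assoc]
      _ = j * h3 * c * (g * c) := by rw [g3]; simp only [mul_assoc]
      _ = i * g := by rw [g4, ← mul_assoc, e]
  have c1 : g ^ 5 * i = i * g ^ 5 := by
    simp only [pow_succ, pow_zero, one_mul]
    calc g * g * g * g * g * i = g * g * g * g * (g * i) := by simp only [mul_assoc]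
      _ = g * g * g * (g * j) * g := by rw [g1]; simp only [mul_assoc]
      _ = g * g * (g * h3) * (g * g) := by rw [g2]; simp only [mul_assoc]
      _ = g * (g * c) * (g * g * g) := by rw [g3]; simp only [mul_assoc]
      _ = g * h5 * (g * g * g * g) := by rw [g4]; simp only [mul_assoc]
      _ = i * (g * g * g * g * g) := by rw [g5]; simp only [mul_assoc]
  have shift : ∀ {p q : GL (Fin 2 ⊕ Fin 2) F}, g * p = q * g → g ^ 5 * p = p * g ^ 5 → g ^ 5 * q = q * g ^ 5 := by
    intro p q e1 e2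
    have hq : q = g * p * g⁻¹ := by rw [e1, mul_inv_cancel_right]
    have hg5 : g ^ 5 * g = g * g ^ 5 := by rw [← pow_succ, ← pow_succ']
    calc g ^ 5 * q = g * (g ^ 5 * p) * g⁻¹ := by rw [hq]; simp only [← mul_assoc]; rw [hg5]
      _ = g * p * g ^ 5 * g⁻¹ := by rw [e2]; simp only [mul_assoc]
      _ = q * g ^ 5 := by
        rw [hq, mul_assoc (g * p), mul_assoc (g * p)]
        congr 1
        rw [show g⁻¹ * g ^ 5 = g ^ 5 * g⁻¹ from ((Commute.refl g).pow_right 5).inv_left.eq]
  have c2 := shift g1 c1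
  have c3 := shift g2 c2
  have c4 := shift g3 c3
  have ca : g ^ 5 * a = a * g ^ 5 := by
    have hia' : a = -(i * h3) := by rw [h3def, ← mul_assoc, hii, neg_mul, one_mul, neg_neg]
    rw [hia', mul_neg, neg_mul, ← mul_assoc, c1, mul_assoc, c3, mul_assoc]
  obtain ⟨l, hl⟩ := hR.scalar_of_commute_frame ha hc hi hj hac hij hia hic hja hjc
    (M := (g ^ 5).1) (by rw [← Units.val_mul, ca, Units.val_mul]) (by rw [← Units.val_mul, c4, Units.val_mul])
    (by rw [← Units.val_mul, c1, Units.val_mul]) (by rw [← Units.val_mul, c2, Units.val_mul])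
  obtain ⟨θ, hθ⟩ := exists_root (r := 5) hnd l
  have hl0 : l ≠ 0 := fun h0 => (g ^ 5).isUnit.ne_zero (by rw [hl, h0, zero_smul])
  have hθ0 : θ ≠ 0 := fun h0 => hl0 (by rw [← hθ, h0, zero_pow (by norm_num)])
  let S : GL (Fin 2 ⊕ Fin 2) F := Aschbacher.sc _ (Units.mk0 θ⁻¹ (inv_ne_zero hθ0))
  have hS : S.1 = θ⁻¹ • 1 := Aschbacher.sc_val _
  have hScen : ∀ x, S * x = x * S := fun x => Units.ext (by
    rw [Units.val_mul, Units.val_mul, hS, Matrix.smul_mul, Matrix.mul_smul, one_mul, mul_one])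
  set y := S * g with hy
  have hy5 : y ^ 5 = 1 := Units.ext (by
    rw [hy, Commute.mul_pow (hScen g), Units.val_mul, Units.val_pow_eq_pow_val S, hS, _root_.smul_pow, one_pow, hl,
      Matrix.smul_mul, one_mul, smul_smul, inv_pow, hθ, inv_mul_cancel₀ hl0, one_smul, Units.val_one])
  have hyN : y ∈ Cfsg.Geo.subgroupNormalizer R := by
    refine Subgroup.mul_mem _ (Subgroup.mem_normalizer_iff.mpr fun x => ?_)
      (Subgroup.mul_mem _ (Subgroup.mul_mem _ (Subgroup.mul_mem _ (addOne_mem_normalizer hR hi)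
        (addOne_mem_normalizer hR hj)) (addOne_mem_normalizer hR h3m)) (addOne_mem_normalizer hR hc))
    rw [hScen, mul_inv_cancel_right]
  refine ⟨y, ?_, hyN, hy5, fun h1 => ?_⟩
  · set Jm := Matrix.J (Fin 2) F
    have sim : ∀ (u v : GL (Fin 2 ⊕ Fin 2) F) (e e' : F), u.1ᵀ * Jm * u.1 = e • Jm → v.1ᵀ * Jm * v.1 = e' • Jm →
        (u * v).1ᵀ * Jm * (u * v).1 = (e * e') • Jm := by
      intro u v e e' hu hv
      calc (u * v).1ᵀ * Jm * (u * v).1 = v.1ᵀ * (u.1ᵀ * Jm * u.1) * v.1 := by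
            rw [Units.val_mul, transpose_mul]; simp only [mul_assoc]
        _ = _ := by rw [hu, Matrix.mul_smul, Matrix.smul_mul, hv, smul_smul]
    have hSJ : S.1ᵀ * Jm * S.1 = (θ⁻¹ * θ⁻¹) • Jm := by
      rw [hS, transpose_smul, transpose_one, Matrix.smul_mul, one_mul, Matrix.smul_mul, Matrix.mul_smul, mul_one,
        smul_smul]
    have hyJ := sim S g _ _ hSJ (sim (s1 * s2 * s3) s4 _ _ (sim (s1 * s2) s3 _ _ (sim s1 s2 _ _
      (addOne_similitude (hR.le hi)) (addOne_similitude (hR.le hj))) (addOne_similitude (hR.le h3m)))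
      (addOne_similitude (hR.le hc)))
    rw [← hy] at hyJ
    set e : F := θ⁻¹ * θ⁻¹ * (2 * 2 * 2 * 2)
    have hk : ∀ k : ℕ, (y ^ k).1ᵀ * Jm * (y ^ k).1 = e ^ k • Jm := by
      intro k
      induction k with
      | zero => simp
      | succ k ih => rw [pow_succ, pow_succ e]; exact sim _ _ _ _ ih hyJ
    have he5 := hk 5
    rw [hy5, Units.val_one, transpose_one, one_mul, mul_one] at he5
    have hJne : Jm ≠ 0 := fun h0 => by
      have := congr_fun (congr_fun h0 (Sum.inl 0)) (Sum.inr 0)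
      simp [Jm, Matrix.J] at this
    have he : e ^ 5 = 1 := (smul_left_injective F hJne ((one_smul F Jm).trans he5)).symm
    have he1 : e = 1 := by
      by_contra hne
      refine hnd ?_
      have he0 : e ≠ 0 := fun h0 => by rw [h0, zero_pow (by norm_num)] at he; exact zero_ne_one he
      rw [← Fintype.card_units, ← orderOf_eq_prime (x := Units.mk0 e he0) (p := 5) (Units.ext (by simpa using he))
        (fun h => hne (by simpa using congrArg Units.val h))]
      exact orderOf_dvd_card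
    rw [mem_spGL_iff_gram, hyJ, he1, one_smul]
  · have e : y * i = j * y := by rw [hy, mul_assoc, g1, ← mul_assoc, hScen, mul_assoc]
    rw [h1, one_mul, mul_one] at e
    exact hR.ne_neg (i * i) (by rw [e] at hij ⊢; exact hij)

end MinusFour

end Cfsg.Agent.PrimeOrderElt
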