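import Cfsg.Agent.EqLemmas
/-
Linear maps of prime order prime to the characteristic, over a finite field.
* `exists_invariant_complement` : semisimplicity inside an invariant subspace
* `exists_dims`     : the dimensions of invariant subspaces (fixed part, plus multiples of `orderOf (q : ZMod r)`)
* `invariant_iff_smul`, `pow_eq_scalar_lift` : scalars do not matter
* `dvd_finrank_of_nonpower` : if `x^r = z` is not an r-th power, invariant dimensions are multiples of `r`
-/

set_option autoImplicit false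
set_option linter.style.haveILetI false

namespace Cfsg.Agent.PrimeOrderElt

open Polynomial Module

variable {F V : Type*} [Field F] [AddCommGroup V] [Module F V]

/-- `W` is invariant under `y`. -/
abbrev Inv (y : Module.End F V) (W : Submodule F V) : Prop := W.map y ≤ W

/-- The fixed space. -/
abbrev fix (y : Module.End F V) : Submodule F V := LinearMap.ker (y - 1)

theorem mem_fix {y : Module.End F V} {v : V} : v ∈ fix y ↔ y v = v := by
  simp [fix, sub_eq_zero]

theorem inv_apply {y : Module.End F V} {W : Submodule F V} (h : Inv y W) {v : V} (hv : v ∈ W) : y v ∈ W :=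
  h ⟨v, hv, rfl⟩

theorem inv_fix (y : Module.End F V) : Inv y (fix y) := by
  rintro _ ⟨v, hv, rfl⟩
  rw [mem_fix.mp hv]; exact hv

theorem inv_inf {y : Module.End F V} {W U : Submodule F V} (hW : Inv y W) (hU : Inv y U) : Inv y (W ⊓ U) :=
  le_inf ((Submodule.map_mono inf_le_left).trans hW) ((Submodule.map_mono inf_le_right).trans hU)

theorem inv_sup {y : Module.End F V} {W U : Submodule F V} (hW : Inv y W) (hU : Inv y U) : Inv y (W ⊔ U) :=
  (Submodule.map_sup W U y).le.trans (sup_le_sup hW hU)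

theorem invariant_iff_smul (y : Module.End F V) {c : F} (hc : c ≠ 0) (W : Submodule F V) :
    Inv (c • y) W ↔ Inv y W := by
  rw [Inv, Inv, Submodule.map_smul y W c hc]

/-- A scalar `r`-th power can be divided out. -/
theorem pow_eq_scalar_lift {x : Module.End F V} {r : ℕ} {ζ : F} (hζ : ζ ≠ 0)
    (hx : x ^ r = (ζ ^ r) • (1 : Module.End F V)) : (ζ⁻¹ • x) ^ r = 1 := by
  rw [_root_.smul_pow, hx, smul_smul, ← mul_pow, inv_mul_cancel₀ hζ, one_pow, one_smul]

variable [FiniteDimensional F V]

theorem exists_invariant_complement {y : Module.End F V} {r : ℕ} {z : F} (hr : (r : F) ≠ 0) (hz : z ≠ 0)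
    (hy : y ^ r = z • (1 : Module.End F V)) {W U : Submodule F V} (hW : Inv y W) (hU : Inv y U) (hUW : U ≤ W) :
    ∃ U' : Submodule F V, Inv y U' ∧ U' ≤ W ∧ U ⊓ U' = ⊥ ∧ U ⊔ U' = W := by
  have hss : y.IsSemisimple :=
    Module.End.isSemisimple_of_squarefree_aeval_eq_zero
      (separable_X_pow_sub_C z hr hz).squarefree (by simp [hy, Algebra.algebraMap_eq_smul_one])
  obtain ⟨Q, hQ, hc⟩ := Module.End.isSemisimple_iff.mp hss U ((Module.End.mem_invtSubmodule_iff_map_le y).mpr hU)
  refine ⟨W ⊓ Q, inv_inf hW ((Module.End.mem_invtSubmodule_iff_map_le y).mp hQ),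
    inf_le_left, ?_, ?_⟩
  · rw [← inf_assoc, inf_eq_left.mpr hUW, hc.inf_eq_bot]
  · rw [inf_comm, sup_inf_assoc_of_le Q hUW |>.symm, hc.sup_eq_top, top_inf_eq]

theorem exists_minimal_invariant (y : Module.End F V) {W : Submodule F V} (hW : Inv y W) (hne : W ≠ ⊥) :
    ∃ S : Submodule F V, S ≤ W ∧ Inv y S ∧ S ≠ ⊥ ∧
      ∀ U : Submodule F V, Inv y U → U ≤ S → U = ⊥ ∨ U = S := by
  obtain ⟨S, ⟨hSW, hS, hS0⟩, hmin⟩ := (wellFounded_lt (α := Submodule F V)).has_min
    {S | S ≤ W ∧ Inv y S ∧ S ≠ ⊥} ⟨W, le_rfl, hW, hne⟩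
  refine ⟨S, hSW, hS, hS0, fun U hU hUS => ?_⟩
  by_cases h0 : U = ⊥
  · exact Or.inl h0
  · exact Or.inr (eq_of_le_of_not_lt hUS (hmin U ⟨hUS.trans hSW, hU, h0⟩))

section Finite

variable [Fintype F] {r : ℕ} [Fact r.Prime]

theorem natCast_ne_zero (hr : (r : F) ≠ 0) : (Fintype.card F : ZMod r) ≠ 0 := by
  intro h
  rw [ZMod.natCast_eq_zero_iff] at h
  obtain ⟨p, hp⟩ := CharP.exists F
  obtain ⟨e, hpp, he⟩ := FiniteField.card F p
  rw [he] at h
  exact hr (by
    rw [(Nat.prime_dvd_prime_iff_eq Fact.out hpp).mp ((Fact.out : r.Prime).dvd_of_dvd_pow h),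
      CharP.cast_eq_zero])

theorem orderOf_card_pos (hr : (r : F) ≠ 0) : 0 < orderOf (Fintype.card F : ZMod r) :=
  orderOf_pos_iff.mpr (isOfFinOrder_iff_pow_eq_one.mpr
    ⟨r - 1, Nat.sub_pos_of_lt (Fact.out : r.Prime).one_lt, ZMod.pow_card_sub_one_eq_one (natCast_ne_zero hr)⟩)

theorem dvd_pow_sub_one_iff (k : ℕ) :
    r ∣ Fintype.card F ^ k - 1 ↔ orderOf (Fintype.card F : ZMod r) ∣ k := by
  rw [orderOf_dvd_iff_pow_eq_one, ← ZMod.natCast_eq_zero_iff,
    Nat.cast_sub (Nat.one_le_pow _ _ Fintype.card_pos), sub_eq_zero]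
  simp

open scoped IsMulCommutative in
/-- A non-trivial simple invariant subspace has dimension the order of `q` modulo `r`. -/
theorem finrank_simple {y : Module.End F V} (hr : (r : F) ≠ 0) (hy : y ^ r = 1) {S : Submodule F V}
    (hS : Inv y S) (hS0 : S ≠ ⊥) (hmin : ∀ U : Submodule F V, Inv y U → U ≤ S → U = ⊥ ∨ U = S)
    (hfix : ¬ S ≤ fix y) : finrank F S = orderOf (Fintype.card F : ZMod r) := by
  classical
  set i := orderOf (Fintype.card F : ZMod r) with hi
  have hipos : 0 < i := orderOf_card_pos hr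
  have hmaps : ∀ v ∈ S, y v ∈ S := fun v hv => inv_apply hS hv
  set g : Module.End F S := y.restrict hmaps with hg
  have hgr : g ^ r = 1 := by
    rw [hg, Module.End.pow_restrict]
    refine LinearMap.ext fun v => Subtype.ext ?_
    simp [hy]
  have : Nontrivial S := Submodule.nontrivial_iff_ne_bot.mpr hS0
  let A := Algebra.adjoin F ({g} : Set (Module.End F S))
  have : Finite S := Module.finite_of_finite F
  have : Finite (Module.End F S) := Finite.of_injective (fun f => (f : S → S)) DFunLike.coe_injective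
  have hc : ∀ a ∈ A, ∀ b ∈ A, Commute a b := fun a ha b hb => setLike_mul_comm ha hb
  have hgA : g ∈ A := Algebra.self_mem_adjoin_singleton F g
  have hinj : ∀ a ∈ A, a ≠ 0 → ∀ v, a v = 0 → v = 0 := by
    intro a ha ha0 v hv
    have hker : Inv y ((LinearMap.ker a).map S.subtype) := by
      rintro _ ⟨_, ⟨w, hw, rfl⟩, rfl⟩
      refine ⟨g w, ?_, rfl⟩
      show a (g w) = 0
      rw [← Module.End.mul_apply, (hc a ha g hgA).eq, Module.End.mul_apply, LinearMap.mem_ker.mp hw, map_zero]
    rcases hmin _ hker (Submodule.map_subtype_le _ _) with h | h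
    · have : S.subtype v ∈ (⊥ : Submodule F V) := h ▸ ⟨v, hv, rfl⟩
      exact Subtype.ext ((Submodule.mem_bot F).mp this)
    · refine absurd (LinearMap.ext fun w => ?_) ha0
      obtain ⟨w', hw', e⟩ := h.ge w.2
      rw [← S.injective_subtype e]; simpa using hw'
  have : NoZeroDivisors A := ⟨fun {a b} hab => by
    by_contra h
    push Not at h
    refine h.2 (Subtype.ext (LinearMap.ext fun v => ?_))
    exact hinj a a.2 (fun e => h.1 (Subtype.ext e)) _ (LinearMap.congr_fun (congrArg Subtype.val hab) v)⟩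
  have : IsDomain A := NoZeroDivisors.to_isDomain A
  letI : Field A := (Finite.isField_of_domain A).toField
  obtain ⟨p, hp⟩ := CharP.exists F
  obtain ⟨e, hpp, he⟩ := FiniteField.card F p
  have : Fact p.Prime := ⟨hpp⟩
  have : CharP (Module.End F S) p :=
    charP_of_injective_algebraMap (FaithfulSMul.algebraMap_injective F (Module.End F S)) p
  have : ExpChar (Module.End F S) p := ExpChar.prime hpp
  have hfixed : ∀ a ∈ A, a ^ (Fintype.card F ^ i) = a := by
    intro a ha
    induction ha using Algebra.adjoin_induction with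
    | mem b hb =>
      rw [Set.mem_singleton_iff.mp hb]
      obtain ⟨t, ht⟩ := (dvd_pow_sub_one_iff (r := r) (F := F) i).mpr dvd_rfl
      rw [show Fintype.card F ^ i = r * t + 1 by
        have := Nat.one_le_pow i _ (Fintype.card_pos (α := F)); omega, pow_succ, pow_mul, hgr, one_pow, one_mul]
    | algebraMap c => rw [← map_pow, FiniteField.pow_card_pow]
    | add a b ha hb h1 h2 =>
      have hQp : Fintype.card F ^ i = p ^ ((e : ℕ) * i) := by rw [he, pow_mul]
      rw [hQp, add_pow_expChar_pow_of_commute _ _ (hc a ha b hb), ← hQp, h1, h2]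
    | mul a b ha hb h1 h2 => rw [(hc a ha b hb).mul_pow, h1, h2]
  letI : Fintype A := Fintype.ofFinite A
  have hcard : Fintype.card A = Fintype.card F ^ finrank F A := Module.card_eq_pow_finrank
  have hle : finrank F A ≤ i := by
    have hq1 : 1 < Fintype.card F ^ i := Nat.one_lt_pow hipos.ne' Fintype.one_lt_card
    have h := Polynomial.card_le_degree_of_subset_roots (R := A)
      (p := X ^ (Fintype.card F ^ i) - X) (Z := Finset.univ) (by
        intro a _
        refine (Polynomial.mem_roots (FiniteField.X_pow_card_sub_X_ne_zero _ hq1)).mpr ?_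
        have : a ^ (Fintype.card F ^ i) = a := Subtype.ext (by rw [SubmonoidClass.coe_pow]; exact hfixed a a.2)
        simp [IsRoot, this])
    rw [FiniteField.X_pow_card_sub_X_natDegree_eq _ hq1, Finset.card_univ, hcard] at h
    exact (Nat.pow_le_pow_iff_right Fintype.one_lt_card).mp h
  have hdvd : i ∣ finrank F A := by
    rw [hi, ← dvd_pow_sub_one_iff]
    have hg1 : (⟨g, hgA⟩ : A) ≠ 1 := by
      intro h
      refine hfix fun v hv => mem_fix.mpr ?_
      have := LinearMap.congr_fun (congrArg Subtype.val h) ⟨v, hv⟩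
      exact congrArg Subtype.val this
    have hgr' : (⟨g, hgA⟩ : A) ^ r = 1 := Subtype.ext (by simpa using hgr)
    have hg0 : (⟨g, hgA⟩ : A) ≠ 0 := fun h => by
      rw [h, zero_pow (Fact.out : r.Prime).ne_zero] at hgr'; exact zero_ne_one hgr'
    have hord : orderOf (Units.mk0 _ hg0) = r := by
      rw [← orderOf_units, Units.val_mk0]; exact orderOf_eq_prime hgr' hg1
    rw [← hcard, ← Fintype.card_units, ← hord]
    exact orderOf_dvd_card
  have hd : finrank F A = i := Nat.le_antisymm hle (Nat.le_of_dvd finrank_pos hdvd)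
  obtain ⟨v, hv⟩ := exists_ne (0 : S)
  let ev : A →ₗ[F] S := (LinearMap.applyₗ v).comp A.val.toLinearMap
  have hev : Function.Injective ev := by
    rw [← LinearMap.ker_eq_bot, LinearMap.ker_eq_bot']
    intro a ha
    by_contra h0
    exact hv (hinj a a.2 (fun e => h0 (Subtype.ext e)) v ha)
  have hrange : Inv y ((LinearMap.range ev).map S.subtype) := by
    rintro _ ⟨_, ⟨_, ⟨a, rfl⟩, rfl⟩, rfl⟩
    exact ⟨ev (⟨g, hgA⟩ * a), ⟨_, rfl⟩, rfl⟩
  rcases hmin _ hrange (Submodule.map_subtype_le _ _) with h | h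
  · have h1 : S.subtype (ev 1) ∈ (⊥ : Submodule F V) := h ▸ ⟨_, ⟨1, rfl⟩, rfl⟩
    exact absurd (Subtype.ext ((Submodule.mem_bot F).mp h1) : ev 1 = 0) hv
  · rw [← hd]
    conv_lhs => rw [← h]
    rw [Submodule.finrank_map_subtype_eq, LinearMap.finrank_range_of_inj hev]

/-- The dimensions of invariant subspaces inside an invariant subspace. -/
theorem exists_dims {y : Module.End F V} (hr : (r : F) ≠ 0) (hy : y ^ r = 1) {W : Submodule F V} (hW : Inv y W) :
    ∃ s : ℕ, finrank F W = finrank F ↥(W ⊓ fix y) + s * orderOf (Fintype.card F : ZMod r) ∧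
      ∀ c k : ℕ, c ≤ finrank F ↥(W ⊓ fix y) → k ≤ s →
        ∃ U : Submodule F V, Inv y U ∧ U ≤ W ∧
          finrank F U = c + k * orderOf (Fintype.card F : ZMod r) ∧ finrank F ↥(U ⊓ fix y) = c := by
  set i := orderOf (Fintype.card F : ZMod r) with hi
  have hy' : y ^ r = (1 : F) • (1 : Module.End F V) := by rw [one_smul, hy]
  induction W using WellFoundedLT.induction with
  | _ W ih =>
    by_cases hWf : W ≤ fix y
    · refine ⟨0, by rw [inf_eq_left.mpr hWf]; omega, fun c k hc hk => ?_⟩
      rw [inf_eq_left.mpr hWf] at hc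
      obtain ⟨U, hU, hcU⟩ : ∃ U : Submodule F V, U ≤ W ∧ finrank F U = c := by
        let b := Module.finBasis F W
        refine ⟨(Submodule.span F (Set.range (fun j : Fin c => b (Fin.castLE hc j)))).map W.subtype,
          Submodule.map_subtype_le _ _, ?_⟩
        rw [Submodule.finrank_map_subtype_eq]
        exact (finrank_span_eq_card (b.linearIndependent.comp _ (Fin.castLE_injective hc))).trans
          (Fintype.card_fin c)
      refine ⟨U, ?_, hU, ?_, ?_⟩
      · rintro _ ⟨v, hv, rfl⟩
        rw [mem_fix.mp (hWf (hU hv))]; exact hv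
      · obtain rfl : k = 0 := Nat.le_zero.mp hk
        omega
      · rw [inf_eq_left.mpr (hU.trans hWf), hcU]
    · have hCi : Inv y (W ⊓ fix y) := inv_inf hW (inv_fix y)
      obtain ⟨W'', hW'', hW''W, hd1, hs1⟩ := exists_invariant_complement hr one_ne_zero hy' hW hCi inf_le_left
      have hne : W'' ≠ ⊥ := fun e => hWf (by rw [e, sup_bot_eq] at hs1; exact inf_eq_left.mp hs1)
      obtain ⟨S, hSW'', hS, hS0, hmin⟩ := exists_minimal_invariant y hW'' hne
      have hSf : ¬ S ≤ fix y := fun h => hS0 <| le_bot_iff.mp <|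
        hd1 ▸ le_inf (le_inf (hSW''.trans hW''W) h) hSW''
      have hSdim := finrank_simple hr hy hS hS0 hmin hSf
      obtain ⟨Q'', hQ'', hQ''W, hd2, hs2⟩ := exists_invariant_complement hr one_ne_zero hy' hW'' hS hSW''
      set Q := (W ⊓ fix y) ⊔ Q'' with hQdef
      have hQ : Inv y Q := inv_sup hCi hQ''
      have hQS : Q ⊔ S = W := by rw [hQdef, sup_assoc, sup_comm Q'' S, hs2, hs1]
      have hQS' : Q ⊓ S = ⊥ := by
        rw [eq_bot_iff]
        intro v hv
        obtain ⟨a, ha, b, hb, rfl⟩ := Submodule.mem_sup.mp hv.1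
        have haW : a ∈ W'' := by
          have := W''.sub_mem (hSW'' hv.2) (hQ''W hb)
          simpa using this
        have : a = 0 := (Submodule.mem_bot F).mp (hd1 ▸ ⟨ha, haW⟩)
        subst this
        rw [zero_add] at hv ⊢
        exact hd2 ▸ ⟨hv.2, hb⟩
      have hQW : Q ≤ W := hQS ▸ le_sup_left
      have hlt : Q < W := lt_of_le_of_ne hQW fun e => hS0 (by
        rw [← hQS'] ; exact (inf_eq_right.mpr (e ▸ hSW''.trans hW''W)).symm)
      have hQf : Q ⊓ fix y = W ⊓ fix y :=
        le_antisymm (inf_le_inf_right _ hQW) (le_inf (le_sup_left (b := Q'')) inf_le_right)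
      obtain ⟨s, hs, hsub⟩ := ih Q hlt hQ
      rw [hQf] at hs hsub
      have hdim : finrank F W = finrank F Q + i := by
        have := Submodule.finrank_sup_add_finrank_inf_eq Q S
        rw [hQS, hQS', finrank_bot, hSdim] at this
        omega
      refine ⟨s + 1, by rw [Nat.add_mul, Nat.one_mul]; omega, fun c k hc hk => ?_⟩
      rcases Nat.lt_or_ge k (s + 1) with hk' | hk'
      · obtain ⟨U, h1, h2, h3, h4⟩ := hsub c k hc (by omega)
        exact ⟨U, h1, h2.trans hQW, h3, h4⟩
      · obtain rfl : k = s + 1 := by omega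
        obtain ⟨U, h1, h2, h3, h4⟩ := hsub c s hc le_rfl
        refine ⟨U ⊔ S, inv_sup h1 hS, sup_le (h2.trans hQW) (hSW''.trans hW''W), ?_, ?_⟩
        · have := Submodule.finrank_sup_add_finrank_inf_eq U S
          rw [(le_bot_iff.mp ((inf_le_inf_right S h2).trans hQS'.le) : U ⊓ S = ⊥), finrank_bot, hSdim, h3] at this
          rw [Nat.add_mul, Nat.one_mul]; omega
        · have h5 : (U ⊔ S) ⊓ fix y = U ⊓ fix y := by
            refine le_antisymm (le_inf ?_ inf_le_right) (inf_le_inf_right _ le_sup_left)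
            calc (U ⊔ S) ⊓ fix y ≤ (U ⊔ S) ⊓ Q := by
                  refine le_inf inf_le_left ?_
                  exact (inf_le_inf_right _ (sup_le (h2.trans hQW) (hSW''.trans hW''W))).trans
                    (hQf.ge.trans inf_le_left)
              _ = U := by rw [sup_inf_assoc_of_le S h2, inf_comm, hQS', sup_bot_eq]
          rw [h5, h4]

end Finite

/-- If `x^r = z` and `z` is no `r`-th power, the dimension of every invariant subspace is a multiple of `r`. -/
theorem dvd_finrank_of_nonpower {x : Module.End F V} {r : ℕ} (hr : r.Prime) {z : F}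
    (hz : ∀ b : F, b ^ r ≠ z) (hx : x ^ r = z • (1 : Module.End F V)) {W : Submodule F V} (hW : Inv x W) :
    r ∣ finrank F W := by
  by_contra hd
  have hco : Nat.Coprime (finrank F W) r := ((Nat.Prime.coprime_iff_not_dvd hr).mpr hd).symm
  have hz0 : z ≠ 0 := fun h => hz 0 (by rw [h, zero_pow hr.ne_zero])
  set g : Module.End F W := x.restrict (fun v hv => inv_apply hW hv) with hg
  have hgr : g ^ r = z • (1 : Module.End F W) := by
    rw [hg, Module.End.pow_restrict]
    exact LinearMap.ext fun v => Subtype.ext (by simp [hx])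
  have hdet : LinearMap.det g ^ r = z ^ finrank F W := by
    rw [← map_pow, hgr, LinearMap.det_smul, map_one, mul_one]
  obtain ⟨a, b, hab⟩ : ∃ a b : ℤ, (finrank F W : ℤ) * a + (r : ℤ) * b = 1 :=
    ⟨_, _, by rw [← Nat.gcd_eq_gcd_ab, hco.gcd_eq_one]; simp⟩
  refine hz (LinearMap.det g ^ a * z ^ b) ?_
  rw [mul_pow, ← zpow_natCast, ← zpow_natCast (z ^ b), ← zpow_mul, ← zpow_mul, mul_comm a (r : ℤ), zpow_mul,
    zpow_natCast, hdet, ← zpow_natCast z (finrank F W), ← zpow_mul, ← zpow_add₀ hz0, mul_comm b (r : ℤ), hab,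
    zpow_one]

end Cfsg.Agent.PrimeOrderElt
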