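import Cfsg.Agent.Lib.PrimeOrderElt.Semisimple
/-
Jordan types of nilpotent endomorphisms.
* `rk μ j`            : the rank of the `j`-th power in type `μ`
* `eq_of_rk`          : the ranks determine the type
* `exists_jordan`     : existence, with the invariant complementary subspaces given by sub-multisets
* `exists_model`      : every type occurs
-/

set_option autoImplicit false
set_option linter.style.haveILetI false

namespace Cfsg.Agent.PrimeOrderElt

open Module

/-- Rank of the `j`-th power of a nilpotent map of Jordan type `μ`. -/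
def rk (μ : Multiset ℕ) (j : ℕ) : ℕ := (μ.map fun b => b - j).sum

theorem rk_cons (a : ℕ) (μ : Multiset ℕ) (j : ℕ) : rk (a ::ₘ μ) j = (a - j) + rk μ j := by simp [rk]

theorem rk_add (α β : Multiset ℕ) (j : ℕ) : rk (α + β) j = rk α j + rk β j := by simp [rk]

theorem rk_zero (μ : Multiset ℕ) : rk μ 0 = μ.sum := by simp [rk]

theorem rk_count (μ : Multiset ℕ) (b : ℕ) :
    rk μ b + rk μ (b + 2) = 2 * rk μ (b + 1) + μ.count (b + 1) := by
  induction μ using Multiset.induction with
  | empty => simp [rk]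
  | cons a μ ih =>
    rw [rk_cons, rk_cons, rk_cons, Multiset.count_cons]
    split_ifs with h <;> omega

theorem eq_of_rk {α β : Multiset ℕ} (hα : ∀ a ∈ α, 0 < a) (hβ : ∀ a ∈ β, 0 < a)
    (h : ∀ j, rk α j = rk β j) : α = β := by
  refine Multiset.ext.mpr fun a => ?_
  rcases a with _ | a
  · rw [Multiset.count_eq_zero.mpr fun h0 => absurd (hα 0 h0) (lt_irrefl 0),
      Multiset.count_eq_zero.mpr fun h0 => absurd (hβ 0 h0) (lt_irrefl 0)]
  · have h1 := rk_count α a
    have h2 := rk_count β a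
    rw [h, h, h] at h1
    omega

theorem exists_le_of_rk_pos {μ : Multiset ℕ} {j : ℕ} (h : 0 < rk μ j) : ∃ a ∈ μ, j < a := by
  by_contra hcon
  push Not at hcon
  refine h.ne' (Multiset.sum_eq_zero fun x hx => ?_)
  obtain ⟨a, ha, rfl⟩ := Multiset.mem_map.mp hx
  exact Nat.sub_eq_zero_of_le (hcon a ha)

variable {F V : Type*} [Field F] [AddCommGroup V] [Module F V] [FiniteDimensional F V]

theorem finrank_sup_of_inf_eq_bot {A B : Submodule F V} (h : A ⊓ B = ⊥) :
    finrank F ↥(A ⊔ B) = finrank F A + finrank F B := by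
  rw [← Submodule.finrank_sup_add_finrank_inf_eq, h, finrank_bot, Nat.add_zero]

omit [FiniteDimensional F V] in
theorem map_pow_le {N : Module.End F V} {W : Submodule F V} (h : Inv N W) (j : ℕ) : W.map (N ^ j) ≤ W := by
  induction j with
  | zero => exact (Submodule.map_id W).le
  | succ j ih =>
    rw [pow_succ', Module.End.mul_eq_comp, Submodule.map_comp]
    exact (Submodule.map_mono ih).trans h

theorem finrank_map_pow_sup {N : Module.End F V} {S T : Submodule F V} (hS : Inv N S) (hT : Inv N T)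
    (h : S ⊓ T = ⊥) (j : ℕ) :
    finrank F ↥((S ⊔ T).map (N ^ j)) = finrank F ↥(S.map (N ^ j)) + finrank F ↥(T.map (N ^ j)) := by
  rw [Submodule.map_sup]
  exact finrank_sup_of_inf_eq_bot (le_bot_iff.mp ((inf_le_inf (map_pow_le hS j) (map_pow_le hT j)).trans h.le))

omit [FiniteDimensional F V] in
/-- A cyclic block of largest height splits off. -/
theorem exists_split {N : Module.End F V} {p : ℕ} {W : Submodule F V} (hW : Inv N W) (hne : W ≠ ⊥)
    (hN : ∀ v ∈ W, (N ^ p) v = 0) :
    ∃ (b : ℕ) (S T : Submodule F V), 0 < b ∧ b ≤ p ∧ Inv N S ∧ Inv N T ∧ S ⊓ T = ⊥ ∧ S ⊔ T = W ∧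
      finrank F S = b ∧ ∀ j, finrank F ↥(S.map (N ^ j)) = b - j := by
  classical
  have hex : ∃ b, ∀ v ∈ W, (N ^ b) v = 0 := ⟨p, hN⟩
  set b := Nat.find hex with hb
  have hbN : ∀ v ∈ W, (N ^ b) v = 0 := Nat.find_spec hex
  have hbp : b ≤ p := Nat.find_min' hex hN
  have hb0 : 0 < b := by
    rcases Nat.eq_zero_or_pos b with h0 | h0
    · exact absurd (le_bot_iff.mp fun v hv => by simpa [h0] using hbN v hv) hne
    · exact h0
  obtain ⟨v, hvW, hv⟩ : ∃ v ∈ W, (N ^ (b - 1)) v ≠ 0 := by
    by_contra h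
    push Not at h
    exact Nat.find_min hex (m := b - 1) (by omega) h
  obtain ⟨φ, hφ⟩ := LinearMap.exists_leftInverse_of_injective (LinearMap.toSpanSingleton F V ((N ^ (b - 1)) v))
    (LinearMap.ker_eq_bot.mpr (smul_left_injective F hv))
  have hφ1 : φ ((N ^ (b - 1)) v) = 1 := by simpa using LinearMap.congr_fun hφ 1
  let u : Fin b → V := fun i => (N ^ (i : ℕ)) v
  let L : (Fin b → F) →ₗ[F] V := Fintype.linearCombination F u
  let Φ : V →ₗ[F] (Fin b → F) := LinearMap.pi fun j => φ.comp (N ^ (j : ℕ))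
  have hΦu : ∀ i j : Fin b, Φ (u i) j = φ ((N ^ ((j : ℕ) + (i : ℕ))) v) := fun i j => by
    show φ ((N ^ (j : ℕ)) ((N ^ (i : ℕ)) v)) = _
    rw [pow_add, Module.End.mul_apply]
  have hhigh : ∀ e, b ≤ e → (N ^ e) v = 0 := fun e he => by
    rw [show e = (e - b) + b by omega, pow_add, Module.End.mul_apply, hbN v hvW, map_zero]
  have hinj : Function.Injective (Φ ∘ₗ L) := by
    rw [← LinearMap.ker_eq_bot, LinearMap.ker_eq_bot']
    intro c hc
    by_contra hne'
    have hex' : ∃ i : ℕ, ∃ h : i < b, c ⟨i, h⟩ ≠ 0 := by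
      by_contra h
      push Not at h
      exact hne' (funext fun i => h i i.2)
    obtain ⟨h0, hc0⟩ := Nat.find_spec hex'
    set i0 := Nat.find hex' with hi0
    have := congrFun hc ⟨b - 1 - i0, by omega⟩
    simp only [LinearMap.comp_apply, L, Fintype.linearCombination_apply, map_sum, map_smul, Finset.sum_apply,
      Pi.smul_apply, hΦu, Pi.zero_apply, smul_eq_mul] at this
    rw [Finset.sum_eq_single ⟨i0, h0⟩ ?_ (fun h => absurd (Finset.mem_univ _) h)] at this
    · simp only [show b - 1 - i0 + i0 = b - 1 by omega, hφ1, mul_one] at this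
      exact hc0 this
    · intro i _ hi
      rcases Nat.lt_or_ge (i : ℕ) i0 with hlt | hge
      · have := Nat.find_min hex' hlt
        push Not at this
        rw [show c i = 0 from this i.2, zero_mul]
      · have : i0 < (i : ℕ) := lt_of_le_of_ne hge fun e => hi (Fin.ext e.symm)
        simp only [hhigh (b - 1 - i0 + i) (by omega), map_zero, mul_zero]
  let E := LinearEquiv.ofBijective (Φ ∘ₗ L) ⟨hinj, LinearMap.injective_iff_surjective.mp hinj⟩
  have hLinj : Function.Injective L := by
    rw [LinearMap.coe_comp] at hinj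
    exact hinj.of_comp
  have hrange : LinearMap.range L = Submodule.span F (Set.range u) := Fintype.range_linearCombination F u
  have hu : LinearIndependent F u := linearIndependent_iff_injective_fintypeLinearCombination.mpr hLinj
  have hvpow : ∀ e, (N ^ e) v ∈ W := fun e => map_pow_le hW e ⟨v, hvW, rfl⟩
  have hSW : Submodule.span F (Set.range u) ≤ W := Submodule.span_le.mpr (by rintro _ ⟨i, rfl⟩; exact hvpow i)
  have hshift : ∀ j : ℕ, (Submodule.span F (Set.range u)).map (N ^ j) =
      Submodule.span F (Set.range fun i : Fin (b - j) => u ⟨(i : ℕ) + j, by omega⟩) := by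
    intro j
    rw [Submodule.map_span]
    refine le_antisymm (Submodule.span_le.mpr ?_) (Submodule.span_le.mpr ?_)
    · rintro _ ⟨_, ⟨i, rfl⟩, rfl⟩
      show (N ^ j) ((N ^ (i : ℕ)) v) ∈ Submodule.span F _
      rw [← Module.End.mul_apply, ← pow_add]
      rcases Nat.lt_or_ge (j + i) b with h | h
      · refine Submodule.subset_span ⟨⟨i, by omega⟩, ?_⟩
        show (N ^ ((i : ℕ) + j)) v = _
        rw [Nat.add_comm]
      · rw [hhigh _ h]; exact Submodule.zero_mem _
    · rintro _ ⟨i, rfl⟩
      refine Submodule.subset_span ⟨u ⟨i, by omega⟩, ⟨_, rfl⟩, ?_⟩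
      show (N ^ j) ((N ^ (i : ℕ)) v) = (N ^ ((i : ℕ) + j)) v
      rw [← Module.End.mul_apply, ← pow_add, Nat.add_comm]
  refine ⟨b, Submodule.span F (Set.range u), W ⊓ LinearMap.ker Φ, hb0, hbp, ?_, ?_, ?_, ?_, ?_, ?_⟩
  · have h1 := hshift 1
    rw [pow_one] at h1
    rw [Inv, h1]
    exact Submodule.span_mono (Set.range_comp_subset_range _ u)
  · rintro _ ⟨w, ⟨hwW, hw⟩, rfl⟩
    refine ⟨inv_apply hW hwW, ?_⟩
    refine funext fun j => ?_
    show φ ((N ^ (j : ℕ)) (N w)) = 0
    rw [← Module.End.mul_apply, ← pow_succ]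
    rcases Nat.lt_or_ge ((j : ℕ) + 1) b with h | h
    · exact congrFun hw ⟨_, h⟩
    · rw [show (j : ℕ) + 1 = b by omega, hbN w hwW, map_zero]
  · rw [← hrange, eq_bot_iff]
    rintro _ ⟨⟨c, rfl⟩, -, hc⟩
    have : c = 0 := hinj (hc.trans (map_zero _).symm)
    rw [this, map_zero]; exact Submodule.zero_mem _
  · refine le_antisymm (sup_le hSW inf_le_left) fun w hw => ?_
    rw [← hrange] at hSW ⊢
    refine Submodule.mem_sup.mpr ⟨L (E.symm (Φ w)), ⟨_, rfl⟩, w - L (E.symm (Φ w)), ⟨?_, ?_⟩, by abel⟩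
    · exact W.sub_mem hw (hSW ⟨_, rfl⟩)
    · show Φ (w - L (E.symm (Φ w))) = 0
      rw [map_sub, show Φ (L (E.symm (Φ w))) = Φ w from E.apply_symm_apply _, sub_self]
  · exact (finrank_span_eq_card hu).trans (Fintype.card_fin b)
  · intro j
    rw [hshift j]
    refine (finrank_span_eq_card (hu.comp (fun i : Fin (b - j) => (⟨(i : ℕ) + j, by omega⟩ : Fin b)) ?_)).trans
      (Fintype.card_fin _)
    intro i i' h
    exact Fin.ext (by simpa using congrArg Fin.val h)

/-- Jordan type, with the invariant decompositions it yields. -/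
theorem exists_jordan {N : Module.End F V} {p : ℕ} {W : Submodule F V} (hW : Inv N W)
    (hN : ∀ v ∈ W, (N ^ p) v = 0) :
    ∃ μ : Multiset ℕ, (∀ b ∈ μ, 0 < b ∧ b ≤ p) ∧ μ.sum = finrank F W ∧
      (∀ j, finrank F ↥(W.map (N ^ j)) = rk μ j) ∧
      ∀ ν ≤ μ, ∃ U U' : Submodule F V, Inv N U ∧ Inv N U' ∧ U ⊓ U' = ⊥ ∧ U ⊔ U' = W ∧ finrank F U = ν.sum := by
  classical
  induction W using WellFoundedLT.induction with
  | _ W ih =>
    by_cases hne : W = ⊥
    · subst hne
      refine ⟨0, by simp, by simp, fun j => ?_, fun ν hν => ?_⟩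
      · rw [Submodule.map_bot, finrank_bot]; simp [rk]
      · rw [nonpos_iff_eq_zero.mp hν]
        exact ⟨⊥, ⊥, (Submodule.map_bot N).le, (Submodule.map_bot N).le, inf_idem _, sup_idem _, by simp⟩
    · obtain ⟨b, S, T, hb0, hbp, hS, hT, hinf, hsup, hSd, hSj⟩ := exists_split hW hne hN
      have hTW : T ≤ W := hsup ▸ le_sup_right
      have hlt : T < W := lt_of_le_of_ne hTW fun e => by
        have hSW : S ≤ T := by rw [e, ← hsup]; exact le_sup_left
        rw [inf_eq_left.mpr hSW] at hinf
        rw [hinf, finrank_bot] at hSd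
        omega
      obtain ⟨μ, hμ, hsum, hrk, hsub⟩ := ih T hlt hT (fun v hv => hN v (hTW hv))
      refine ⟨b ::ₘ μ, ?_, ?_, fun j => ?_, fun ν hν => ?_⟩
      · intro a ha
        rcases Multiset.mem_cons.mp ha with rfl | ha
        · exact ⟨hb0, hbp⟩
        · exact hμ a ha
      · rw [Multiset.sum_cons, hsum, ← hsup, finrank_sup_of_inf_eq_bot hinf, hSd]
      · rw [← hsup, finrank_map_pow_sup hS hT hinf, hSj, hrk, rk_cons]
      · have key : ∀ A B : Submodule F V, A ≤ T → B ≤ T → A ⊓ B = ⊥ → (A ⊔ S) ⊓ B = ⊥ := by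
          intro A B hA hB h
          refine le_bot_iff.mp ?_
          calc (A ⊔ S) ⊓ B ≤ ((A ⊔ S) ⊓ T) ⊓ B := le_inf (le_inf inf_le_left (inf_le_right.trans hB)) inf_le_right
            _ = A ⊓ B := by rw [sup_inf_assoc_of_le S hA, hinf, sup_bot_eq]
            _ = ⊥ := h
        by_cases hbν : b ∈ ν
        · obtain ⟨ν', rfl⟩ := Multiset.exists_cons_of_mem hbν
          obtain ⟨U, U', hU, hU', hi', hs', hd'⟩ := hsub ν' ((Multiset.cons_le_cons_iff b).mp hν)
          refine ⟨U ⊔ S, U', inv_sup hU hS, hU', key U U' (hs' ▸ le_sup_left) (hs' ▸ le_sup_right) hi', ?_, ?_⟩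
          · rw [sup_right_comm, hs', sup_comm, hsup]
          · rw [finrank_sup_of_inf_eq_bot, hd', hSd, Multiset.sum_cons, Nat.add_comm]
            exact le_bot_iff.mp ((inf_le_inf_right S (hs' ▸ le_sup_left : U ≤ T)).trans (inf_comm T S ▸ hinf.le))
        · obtain ⟨U, U', hU, hU', hi', hs', hd'⟩ := hsub ν ((Multiset.le_cons_of_notMem hbν).mp hν)
          refine ⟨U, U' ⊔ S, hU, inv_sup hU' hS, ?_, ?_, hd'⟩
          · rw [inf_comm]
            exact key U' U (hs' ▸ le_sup_right) (hs' ▸ le_sup_left) (inf_comm U U' ▸ hi')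
          · rw [← sup_assoc, hs', sup_comm, hsup]

omit [FiniteDimensional F V] in
theorem map_top_pow (N : Module.End F V) (j : ℕ) : (⊤ : Submodule F V).map (N ^ j) = LinearMap.range (N ^ j) :=
  Submodule.map_top _

omit [FiniteDimensional F V] in
theorem finrank_submodule_prod {A B : Type*} [AddCommGroup A] [Module F A] [FiniteDimensional F A]
    [AddCommGroup B] [Module F B] [FiniteDimensional F B] (P : Submodule F A) (Q : Submodule F B) :
    finrank F ↥(P.prod Q) = finrank F P + finrank F Q := by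
  let e : ↥(P.prod Q) ≃ₗ[F] P × Q :=
    { toFun := fun x => (⟨x.1.1, x.2.1⟩, ⟨x.1.2, x.2.2⟩)
      invFun := fun y => ⟨(y.1.1, y.2.1), ⟨y.1.2, y.2.2⟩⟩
      map_add' := fun _ _ => rfl
      map_smul' := fun _ _ => rfl
      left_inv := fun _ => rfl
      right_inv := fun _ => rfl }
  rw [e.finrank_eq, Module.finrank_prod]

/-- Every type occurs. -/
theorem exists_model (F : Type*) [Field F] {p : ℕ} (μ : Multiset ℕ) (hμ : ∀ b ∈ μ, 0 < b ∧ b ≤ p) :
    ∀ n, μ.sum = n → ∃ N : Module.End F (Fin n → F), N ^ p = 0 ∧ ∀ j, finrank F ↥(LinearMap.range (N ^ j)) = rk μ j := by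
  classical
  induction μ using Multiset.induction with
  | empty =>
    intro n hn
    rw [Multiset.sum_zero] at hn
    subst hn
    exact ⟨0, Subsingleton.elim _ _, fun j => by rw [finrank_zero_of_subsingleton]; simp [rk]⟩
  | cons b μ ih =>
    intro n hn
    obtain ⟨hb0, hbp⟩ := hμ b (Multiset.mem_cons_self _ _)
    obtain ⟨M, hM, hMj⟩ := ih (fun a ha => hμ a (Multiset.mem_cons_of_mem ha)) μ.sum rfl
    let Z : Module.End F (Fin b → F) :=
      LinearMap.pi fun i => if h : (i : ℕ) + 1 < b then LinearMap.proj ⟨(i : ℕ) + 1, h⟩ else 0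
    have hZ : ∀ (j : ℕ) (v : Fin b → F) (i : Fin b),
        (Z ^ j) v i = if h : (i : ℕ) + j < b then v ⟨(i : ℕ) + j, h⟩ else 0 := by
      intro j
      induction j with
      | zero => intro v i; simp
      | succ j ihj =>
        intro v i
        rw [pow_succ, Module.End.mul_apply, ihj]
        by_cases h : (i : ℕ) + j < b
        · rw [dif_pos h]
          show (LinearMap.pi _ : Module.End F (Fin b → F)) v ⟨_, h⟩ = _
          rw [LinearMap.pi_apply]
          by_cases h' : (i : ℕ) + j + 1 < b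
          · rw [dif_pos h', dif_pos (show (i : ℕ) + (j + 1) < b by omega)]; rfl
          · rw [dif_neg h', dif_neg (show ¬ (i : ℕ) + (j + 1) < b by omega)]; rfl
        · rw [dif_neg h, dif_neg (show ¬ (i : ℕ) + (j + 1) < b by omega)]
    have hZp : Z ^ p = 0 := by
      refine LinearMap.ext fun v => funext fun i => ?_
      rw [hZ, dif_neg (by omega)]; rfl
    have hZj : ∀ j, finrank F ↥(LinearMap.range (Z ^ j)) = b - j := by
      obtain ⟨α, hα, hsum, hrk, -⟩ := exists_jordan (N := Z) (p := p) (W := ⊤) le_top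
        (fun v _ => by rw [hZp]; rfl)
      rw [finrank_top, Module.finrank_fin_fun] at hsum
      have h1 : 0 < rk α (b - 1) := by
        rw [← hrk, map_top_pow, Nat.pos_iff_ne_zero, Ne, Submodule.finrank_eq_zero, LinearMap.range_eq_bot]
        intro h
        have := congrFun (LinearMap.congr_fun h (fun _ => 1)) ⟨0, hb0⟩
        rw [hZ, dif_pos (show 0 + (b - 1) < b by omega)] at this
        exact one_ne_zero this
      obtain ⟨a, ha, hab⟩ := exists_le_of_rk_pos h1
      obtain ⟨α', rfl⟩ := Multiset.exists_cons_of_mem ha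
      rw [Multiset.sum_cons] at hsum
      have hα' : α' = 0 := Multiset.eq_zero_of_forall_notMem fun c hc => by
        have := (hα c (Multiset.mem_cons_of_mem hc)).1
        have := Multiset.le_sum_of_mem hc
        omega
      subst hα'
      rw [Multiset.sum_zero] at hsum
      intro j
      rw [← map_top_pow, hrk, rk_cons, show a = b by omega]
      simp [rk]
    have hfr : finrank F ((Fin b → F) × (Fin μ.sum → F)) = finrank F (Fin n → F) := by
      rw [Module.finrank_prod, Module.finrank_fin_fun, Module.finrank_fin_fun, Module.finrank_fin_fun,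
        ← hn, Multiset.sum_cons]
    let e := LinearEquiv.ofFinrankEq ((Fin b → F) × (Fin μ.sum → F)) (Fin n → F) hfr
    have hpow : ∀ j, (e.conj (Z.prodMap M)) ^ j = e.conj ((Z ^ j).prodMap (M ^ j)) := by
      intro j
      show (e.conjAlgEquiv F (Z.prodMap M)) ^ j = e.conjAlgEquiv F _
      rw [← map_pow]
      congr 1
      induction j with
      | zero => exact LinearMap.ext fun v => rfl
      | succ j ihj => rw [pow_succ, ihj, LinearMap.prodMap_mul, ← pow_succ, ← pow_succ]
    refine ⟨e.conj (Z.prodMap M), ?_, fun j => ?_⟩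
    · rw [hpow, hZp, hM]
      exact LinearMap.ext fun v => e.map_zero
    · rw [hpow, rk_cons, ← hZj, ← hMj, LinearEquiv.conj_apply, LinearMap.range_comp,
        LinearEquiv.range, Submodule.map_top, LinearMap.range_comp]
      rw [LinearEquiv.finrank_map_eq e, LinearMap.range_prodMap, finrank_submodule_prod]

end Cfsg.Agent.PrimeOrderElt
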