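import Cfsg.Agent.Lib.PrimeOrderElt.Criteria
import Cfsg.Agent.Lib.PrimeOrderElt.Jordan
/-
Elements of order `p` (the characteristic) modulo scalars in SL_n(q), through nilpotent maps.
* `exists_nilpotent`  : `x - ζ` has `p`-th power zero
* `exists_unipotent`  : every Jordan type with parts `≤ p` occurs in SL_n
-/

set_option autoImplicit false
set_option linter.style.haveILetI false

namespace Cfsg.Agent.PrimeOrderElt

open Module

variable {F V : Type*} [Field F] [AddCommGroup V] [Module F V]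

theorem inv_sub_smul (g : Module.End F V) (c : F) (W : Submodule F V) :
    Inv (g - c • (1 : Module.End F V)) W ↔ Inv g W := by
  constructor
  · rintro h _ ⟨v, hv, rfl⟩
    have := W.add_mem (inv_apply h hv) (W.smul_mem c hv)
    simpa using this
  · rintro h _ ⟨v, hv, rfl⟩
    simpa using W.sub_mem (inv_apply h hv) (W.smul_mem c hv)

variable {p : ℕ} [Fact p.Prime] [CharP F p]

theorem add_one_pow_char [Nontrivial V] (N : Module.End F V) : (N + 1) ^ p = N ^ p + 1 := by
  have : CharP (Module.End F V) p :=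
    charP_of_injective_algebraMap (FaithfulSMul.algebraMap_injective F (Module.End F V)) p
  rw [add_pow_char_of_commute p (Commute.one_right N), one_pow]

theorem eq_one_of_pow_char {d : F} (h : d ^ p = 1) : d = 1 := by
  have h' : (d - 1) ^ p = 0 := by rw [sub_pow_char, one_pow, h, sub_self]
  exact sub_eq_zero.mp (pow_eq_zero_iff (Fact.out : p.Prime).ne_zero |>.mp h')

variable [Fintype F] {n : ℕ}

theorem exists_nilpotent (hn : 0 < n) (x : Matrix.SpecialLinearGroup (Fin n) F)
    (hx : ∃ c : F, ((x ^ p : Matrix.SpecialLinearGroup (Fin n) F) : Matrix (Fin n) (Fin n) F) =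
      c • (1 : Matrix (Fin n) (Fin n) F)) :
    ∃ ζ : F, ((Matrix.toLin' (x : Matrix (Fin n) (Fin n) F) : Module.End F (Fin n → F)) - ζ • 1) ^ p = 0 := by
  obtain ⟨c, hc⟩ := hx
  rw [pow_eq_smul_iff] at hc
  obtain ⟨ζ, rfl⟩ := exists_root (r := p) (by
    rw [← pow_one (Fintype.card F)]; exact not_dvd_pow_sub_one Nat.one_pos) c
  have : Nonempty (Fin n) := ⟨⟨0, hn⟩⟩
  have : CharP (Module.End F (Fin n → F)) p :=
    charP_of_injective_algebraMap (FaithfulSMul.algebraMap_injective F (Module.End F (Fin n → F))) p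
  refine ⟨ζ, ?_⟩
  rw [sub_pow_char_of_commute p ((Commute.one_right _).smul_right ζ), hc,
    _root_.smul_pow, one_pow, sub_self]

omit [Fintype F] in
/-- Every Jordan type with parts at most `p`, not all equal to one, occurs in SL_n. -/
theorem exists_unipotent (μ : Multiset ℕ) (hμ : ∀ b ∈ μ, 0 < b ∧ b ≤ p) (hsum : μ.sum = n)
    (h2 : ∃ b ∈ μ, 2 ≤ b) :
    ∃ (x : Matrix.SpecialLinearGroup (Fin n) F) (N : Module.End F (Fin n → F)),
      (Matrix.toLin' (x : Matrix (Fin n) (Fin n) F) : Module.End F (Fin n → F)) = N + 1 ∧ N ^ p = 0 ∧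
      (∀ j, finrank F ↥(LinearMap.range (N ^ j)) = rk μ j) ∧
      (∀ c : F, (x : Matrix (Fin n) (Fin n) F) ≠ c • (1 : Matrix (Fin n) (Fin n) F)) ∧
      ((x ^ p : Matrix.SpecialLinearGroup (Fin n) F) : Matrix (Fin n) (Fin n) F) =
        (1 : F) • (1 : Matrix (Fin n) (Fin n) F) := by
  obtain ⟨b, hb, hb2⟩ := h2
  obtain ⟨N, hN, hNj⟩ := exists_model F μ hμ n hsum
  have hn : 0 < n := by have := Multiset.le_sum_of_mem hb; omega
  have : Nonempty (Fin n) := ⟨⟨0, hn⟩⟩
  have hgp : (N + 1) ^ p = 1 := by rw [add_one_pow_char, hN, zero_add]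
  have hdet : LinearMap.det (N + 1) = 1 :=
    eq_one_of_pow_char (p := p) (by rw [← map_pow, hgp, map_one])
  have hN1 : N ≠ 0 := by
    intro h
    have h1 := hNj 1
    rw [pow_one, h, LinearMap.range_zero, finrank_bot] at h1
    obtain ⟨μ', rfl⟩ := Multiset.exists_cons_of_mem hb
    rw [rk_cons] at h1
    omega
  refine ⟨⟨LinearMap.toMatrix' (N + 1), by rw [LinearMap.det_toMatrix', hdet]⟩, N,
    Matrix.toLin'_toMatrix' _, hN, hNj, fun c hc => hN1 ?_, ?_⟩
  · rw [← toLin'_eq_smul_one_iff, Matrix.toLin'_toMatrix'] at hc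
    have hc' := hgp
    rw [hc, _root_.smul_pow, one_pow] at hc'
    have := congrFun (LinearMap.congr_fun hc' (Pi.single ⟨0, hn⟩ 1)) ⟨0, hn⟩
    have hc1 : c = 1 := eq_one_of_pow_char (p := p) (by simpa using this)
    rw [hc1, one_smul] at hc
    exact add_eq_right.mp hc
  · refine (pow_eq_smul_iff _ _ _).mpr ?_
    rw [one_smul]
    show (Matrix.toLin' (LinearMap.toMatrix' (N + 1)) : Module.End F (Fin n → F)) ^ p = 1
    rw [Matrix.toLin'_toMatrix', hgp]

end Cfsg.Agent.PrimeOrderElt
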