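import Cfsg.Agent.EqLemmas
/-
Numbers of subspaces, flags and complementary pairs over a finite field, and their prime divisors.
* `card_grass_mul`, `card_flags_mul` : the Gaussian products
* `exists_of_dvd_grass`, `not_dvd_grass_of_char`, `not_dvd_flags`, `exists_of_dvd_pairs`
-/

set_option autoImplicit false

namespace Cfsg.Agent.PrimeOrderElt

open Finset Module

/-- `∏_{l ≤ a} (q^l - 1)`. -/
def qProd (q a : ℕ) : ℕ := ∏ j ∈ range a, (q ^ (j + 1) - 1)

theorem qProd_succ (q a : ℕ) : qProd q (a + 1) = qProd q a * (q ^ (a + 1) - 1) := prod_range_succ _ _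

theorem qProd_pos {q : ℕ} (hq : 1 < q) (a : ℕ) : 0 < qProd q a :=
  prod_pos fun j _ => Nat.sub_pos_of_lt (Nat.one_lt_pow (Nat.succ_ne_zero j) hq)

theorem qProd_split (q : ℕ) {m n : ℕ} (h : m ≤ n) :
    qProd q (n - m) * ∏ j ∈ range m, (q ^ (n - j) - 1) = qProd q n := by
  induction m with
  | zero => simp
  | succ m ih =>
    rw [prod_range_succ, ← ih (by omega), show n - m = n - (m + 1) + 1 by omega, qProd_succ]
    ring

theorem exists_of_dvd_qFactor {q r a b : ℕ} (hr : r.Prime) (h : r ∣ ∏ j ∈ range b, (q ^ (a - j) - 1)) :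
    ∃ j < b, r ∣ q ^ (a - j) - 1 := by
  obtain ⟨j, hj, hd⟩ := (hr.prime.dvd_finsetProd_iff _).mp h
  exact ⟨j, mem_range.mp hj, hd⟩

variable {F : Type*} [Field F] [Fintype F] {V : Type*} [AddCommGroup V] [Module F V] [FiniteDimensional F V]

theorem card_frames {n : ℕ} (hn : finrank F V = n) {m : ℕ} (hm : m ≤ n) :
    Nat.card {s : Fin m → V // LinearIndependent F s} =
      Fintype.card F ^ (∑ j ∈ range m, j) * ∏ j ∈ range m, (Fintype.card F ^ (n - j) - 1) := by
  have : Finite V := Module.finite_of_finite F
  rw [card_linearIndependent (hn ▸ hm), hn, Fin.prod_univ_eq_prod_range (fun j => Fintype.card F ^ n - Fintype.card F ^ j),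
    ← prod_pow_eq_pow_sum, ← prod_mul_distrib]
  refine prod_congr rfl fun j hj => ?_
  rw [Nat.mul_sub, mul_one, ← pow_add, Nat.add_sub_cancel' (by have := mem_range.mp hj; omega)]

/-- Gaussian binomial: the number of `m`-subspaces times `P(m)`. -/
theorem card_grass_mul {n : ℕ} (hn : finrank F V = n) {m : ℕ} (hm : m ≤ n) :
    Nat.card {W : Submodule F V // finrank F W = m} * qProd (Fintype.card F) m =
      ∏ j ∈ range m, (Fintype.card F ^ (n - j) - 1) := by
  classical
  have : Finite V := Module.finite_of_finite F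
  have : Finite (Submodule F V) := Finite.of_injective (fun W => (W : Set V)) SetLike.coe_injective
  let f : {s : Fin m → V // LinearIndependent F s} → {W : Submodule F V // finrank F W = m} := fun s =>
    ⟨Submodule.span F (Set.range s.1), (finrank_span_eq_card s.2).trans (Fintype.card_fin m)⟩
  have hfib : ∀ W, Nat.card {s // f s = W} =
      Fintype.card F ^ (∑ j ∈ range m, j) * qProd (Fintype.card F) m := by
    intro W
    let g : {t : Fin m → W.1 // LinearIndependent F t} → {s // f s = W} := fun t =>
      ⟨⟨W.1.subtype ∘ t.1, t.2.map' _ W.1.ker_subtype⟩, Subtype.ext <| by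
        show Submodule.span F (Set.range (W.1.subtype ∘ t.1)) = W.1
        rw [Set.range_comp, ← Submodule.map_span,
          t.2.span_eq_top_of_card_eq_finrank' (by rw [Fintype.card_fin, W.2]),
          Submodule.map_top, Submodule.range_subtype]⟩
    have hg : Function.Bijective g := by
      constructor
      · intro t t' h
        exact Subtype.ext (funext fun j => Subtype.ext (congrFun (congrArg (fun s => s.1.1) h) j))
      · rintro ⟨s, hs⟩
        have hmem : ∀ j, s.1 j ∈ W.1 := fun j => (congrArg Subtype.val hs).le (Submodule.subset_span ⟨j, rfl⟩)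
        exact ⟨⟨fun j => ⟨s.1 j, hmem j⟩, LinearIndependent.of_comp W.1.subtype s.2⟩, rfl⟩
    rw [← Nat.card_congr (Equiv.ofBijective g hg), card_frames W.2 le_rfl]
    congr 1
    simpa [qProd] using qProd_split (Fintype.card F) (le_refl m)
  have : Fintype {W : Submodule F V // finrank F W = m} := Fintype.ofFinite _
  have h1 := Nat.card_congr (Equiv.sigmaFiberEquiv f)
  rw [Nat.card_sigma, card_frames hn hm] at h1
  rw [Finset.sum_congr rfl (fun W _ => hfib W), Finset.sum_const, Finset.card_univ, ← Nat.card_eq_fintype_card,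
    smul_eq_mul, mul_left_comm] at h1
  exact Nat.eq_of_mul_eq_mul_left (pow_pos Fintype.card_pos _) h1

theorem exists_of_dvd_grass {r : ℕ} (hr : r.Prime) {n m : ℕ} (hn : finrank F V = n) (hm : m ≤ n)
    (h : r ∣ Nat.card {W : Submodule F V // finrank F W = m}) :
    ∃ j < m, r ∣ Fintype.card F ^ (n - j) - 1 :=
  exists_of_dvd_qFactor hr ((h.mul_right _).trans (card_grass_mul hn hm).dvd)

theorem not_dvd_grass_of_char {p : ℕ} [Fact p.Prime] [CharP F p] {n m : ℕ} (hn : finrank F V = n) (hm : m ≤ n) :
    ¬ p ∣ Nat.card {W : Submodule F V // finrank F W = m} := by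
  intro h
  obtain ⟨j, hj, hd⟩ := exists_of_dvd_grass Fact.out hn hm h
  obtain ⟨e, _, he⟩ := FiniteField.card F p
  have h1 : p ∣ Fintype.card F ^ (n - j) := by
    rw [he, ← pow_mul]
    exact dvd_pow_self p (Nat.mul_ne_zero e.pos.ne' (by omega))
  have := Nat.dvd_sub h1 hd
  rw [Nat.sub_sub_self (Nat.one_le_pow _ _ Fintype.card_pos), Nat.dvd_one] at this
  exact (Fact.out : p.Prime).ne_one this

/-- Pairs `U ≤ W` are subspaces of subspaces. -/
theorem card_flags {n m k : ℕ} (hn : finrank F V = n) (hk : k ≤ n) (hmk : m ≤ k) :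
    Nat.card {P : Submodule F V × Submodule F V // P.1 ≤ P.2 ∧ finrank F P.1 = m ∧ finrank F P.2 = k} *
      (qProd (Fintype.card F) m * qProd (Fintype.card F) (k - m) * qProd (Fintype.card F) (n - k)) =
      qProd (Fintype.card F) n := by
  classical
  have : Finite V := Module.finite_of_finite F
  have : Finite (Submodule F V) := Finite.of_injective (fun W => (W : Set V)) SetLike.coe_injective
  let e : {P : Submodule F V × Submodule F V // P.1 ≤ P.2 ∧ finrank F P.1 = m ∧ finrank F P.2 = k} ≃
      Σ W : {W : Submodule F V // finrank F W = k}, {U : Submodule F W.1 // finrank F U = m} :=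
    { toFun := fun P => ⟨⟨P.1.2, P.2.2.2⟩, ⟨P.1.1.submoduleOf P.1.2,
        (Submodule.submoduleOfEquivOfLe P.2.1).finrank_eq.trans P.2.2.1⟩⟩
      invFun := fun x => ⟨(x.2.1.map x.1.1.subtype, x.1.1), Submodule.map_subtype_le _ _,
        (Submodule.finrank_map_subtype_eq _ _).trans x.2.2, x.1.2⟩
      left_inv := fun P => by
        refine Subtype.ext (Prod.ext ?_ rfl)
        show (P.1.1.submoduleOf P.1.2).map P.1.2.subtype = P.1.1
        simp [Submodule.submoduleOf, Submodule.map_comap_subtype, P.2.1]
      right_inv := fun x => by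
        obtain ⟨W, U, hU⟩ := x
        refine Sigma.ext rfl (heq_of_eq (Subtype.ext ?_))
        show (U.map W.1.subtype).comap W.1.subtype = U
        exact Submodule.comap_map_eq_of_injective W.1.injective_subtype U }
  have : Fintype {W : Submodule F V // finrank F W = k} := Fintype.ofFinite _
  rw [Nat.card_congr e, Nat.card_sigma]
  rcases isEmpty_or_nonempty {W : Submodule F V // finrank F W = k} with h0 | ⟨⟨W₀⟩⟩
  · exfalso
    have := card_grass_mul (F := F) hn hk
    rw [Nat.card_of_isEmpty, zero_mul] at this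
    exact (prod_pos (fun j hj => Nat.sub_pos_of_lt (Nat.one_lt_pow
      (by have := mem_range.mp hj; omega) Fintype.one_lt_card))).ne this
  have hq := qProd_pos (Fintype.one_lt_card (α := F))
  refine Nat.eq_of_mul_eq_mul_left (hq k) ?_
  rw [Finset.sum_mul, Finset.mul_sum]
  have hterm : ∀ W : {W : Submodule F V // finrank F W = k},
      qProd (Fintype.card F) k * (Nat.card {U : Submodule F W.1 // finrank F U = m} *
      (qProd (Fintype.card F) m * qProd (Fintype.card F) (k - m) * qProd (Fintype.card F) (n - k))) =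
      qProd (Fintype.card F) k * qProd (Fintype.card F) k * qProd (Fintype.card F) (n - k) := by
    intro W
    have h1 := card_grass_mul (F := F) W.2 hmk
    have h2 := qProd_split (Fintype.card F) hmk
    rw [← h1] at h2
    linear_combination (qProd (Fintype.card F) k * qProd (Fintype.card F) (n - k)) * h2
  rw [Finset.sum_congr rfl (fun W _ => hterm W), Finset.sum_const, Finset.card_univ, ← Nat.card_eq_fintype_card,
    smul_eq_mul]
  have h1 := card_grass_mul (F := F) hn hk
  have h2 := qProd_split (Fintype.card F) hk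
  rw [← h1] at h2
  linear_combination (qProd (Fintype.card F) k) * h2

end Cfsg.Agent.PrimeOrderElt
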