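import Cfsg.Agent.Lib.PrimeOrderElt.Unipotent
/-
Realisation of unipotent elements over subfields.
* `mem_subfieldSubgroup_one` : scalar multiples of matrices over the subfield
* `exists_jordan_basis`      : a basis permuted, up to zero, by a nilpotent map
* `exists_commuting_det`     : determinants of centralising maps from an invariant decomposition
-/

set_option autoImplicit false
set_option linter.style.haveILetI false

namespace Cfsg.Agent.PrimeOrderElt

open Module
open scoped MatrixGroups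

variable {F : Type*} [Field F]

theorem mem_subfieldSubgroup_one {n : ℕ} (F₀ : Subfield F) (g : GL (Fin n) F) :
    g ∈ Cfsg.Geo.subfieldSubgroup F₀ 1 ↔
      ∃ (h : GL (Fin n) F₀) (c : Fˣ),
        (g : Matrix (Fin n) (Fin n) F) = (c : F) • ((h : Matrix (Fin n) (Fin n) F₀).map F₀.subtype) := by
  have hscal : (Cfsg.Geo.scalars (Fin n) F).Normal := ⟨fun s hs g => by
    obtain ⟨c, hc⟩ := (Cfsg.Geo.mem_scalars_iff s).mp hs
    refine (Cfsg.Geo.mem_scalars_iff _).mpr ⟨c, ?_⟩
    rw [Units.val_mul, Units.val_mul, hc, Matrix.mul_smul, Matrix.smul_mul, mul_one, ← Units.val_mul,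
      mul_inv_cancel, Units.val_one]⟩
  simp only [Cfsg.Geo.subfieldSubgroup, map_one, Subgroup.mem_map]
  constructor
  · rintro ⟨x, hx, rfl⟩
    obtain ⟨a, ⟨h, rfl⟩, b, hb, rfl⟩ := Subgroup.mem_sup_of_normal_right.mp hx
    obtain ⟨c, hc⟩ := (Cfsg.Geo.mem_scalars_iff b).mp hb
    refine ⟨h, c, ?_⟩
    show ((Matrix.GeneralLinearGroup.map (F₀.subtype : F₀ →+* F) h * b : GL (Fin n) F) : Matrix (Fin n) (Fin n) F) = _
    rw [Units.val_mul, hc, Matrix.mul_smul, mul_one]
    rfl
  · rintro ⟨h, c, hg⟩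
    refine ⟨g, Subgroup.mem_sup_of_normal_right.mpr ⟨Matrix.GeneralLinearGroup.map (F₀.subtype : F₀ →+* F) h, ⟨h, rfl⟩,
      Units.map (Matrix.scalar (Fin n) : F →+* Matrix (Fin n) (Fin n) F).toMonoidHom c, ⟨c, rfl⟩, ?_⟩, rfl⟩
    refine Units.ext ?_
    rw [hg, Units.val_mul]
    show (h : Matrix (Fin n) (Fin n) F₀).map F₀.subtype * Matrix.scalar (Fin n) (c : F) = _
    rw [Matrix.scalar_apply, ← Matrix.smul_one_eq_diagonal, Matrix.mul_smul, mul_one]

variable {V : Type*} [AddCommGroup V] [Module F V]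

theorem exists_split_vector {N : Module.End F V} {p : ℕ} {W : Submodule F V} (hW : Inv N W) (hne : W ≠ ⊥)
    (hN : ∀ v ∈ W, (N ^ p) v = 0) :
    ∃ (b : ℕ) (u : Fin b → V) (T : Submodule F V), 0 < b ∧ Inv N T ∧ LinearIndependent F u ∧
      Submodule.span F (Set.range u) ⊓ T = ⊥ ∧ Submodule.span F (Set.range u) ⊔ T = W ∧
      (∀ i, N (u i) = 0 ∨ ∃ j, N (u i) = u j) ∧ T < W := by
  classical
  have hex : ∃ b, ∀ v ∈ W, (N ^ b) v = 0 := ⟨p, hN⟩
  set b := Nat.find hex with hb
  have hbN : ∀ v ∈ W, (N ^ b) v = 0 := Nat.find_spec hex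
  have hb0 : 0 < b := by
    rcases Nat.eq_zero_or_pos b with h0 | h0
    · exact absurd (le_bot_iff.mp fun v hv => by simpa [h0] using hbN v hv) hne
    · exact h0
  obtain ⟨v, hvW, hv⟩ : ∃ v ∈ W, (N ^ (b - 1)) v ≠ 0 := by
    by_contra h
    push Not at h
    exact Nat.find_min hex (m := b - 1) (by omega) h
  obtain ⟨φ, hφ⟩ := LinearMap.exists_leftInverse_of_injective (LinearMap.toSpanSingleton F V ((N ^ (b - 1)) v))
    (LinearMap.ker_eq_bot.mpr (smul_left_injective F hv))
  have hφ1 : φ ((N ^ (b - 1)) v) = 1 := by simpa using LinearMap.congr_fun hφ 1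
  let u : Fin b → V := fun i => (N ^ (i : ℕ)) v
  let L : (Fin b → F) →ₗ[F] V := Fintype.linearCombination F u
  let Φ : V →ₗ[F] (Fin b → F) := LinearMap.pi fun j => φ.comp (N ^ (j : ℕ))
  have hΦu : ∀ i j : Fin b, Φ (u i) j = φ ((N ^ ((j : ℕ) + (i : ℕ))) v) := fun i j => by
    show φ ((N ^ (j : ℕ)) ((N ^ (i : ℕ)) v)) = _
    rw [pow_add, Module.End.mul_apply]
  have hhigh : ∀ e, b ≤ e → (N ^ e) v = 0 := fun e he => by
    rw [show e = (e - b) + b by omega, pow_add, Module.End.mul_apply, hbN v hvW, map_zero]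
  have hinj : Function.Injective (Φ ∘ₗ L) := by
    rw [← LinearMap.ker_eq_bot, LinearMap.ker_eq_bot']
    intro c hc
    by_contra hne'
    have hex' : ∃ i : ℕ, ∃ h : i < b, c ⟨i, h⟩ ≠ 0 := by
      by_contra h
      push Not at h
      exact hne' (funext fun i => h i i.2)
    obtain ⟨h0, hc0⟩ := Nat.find_spec hex'
    set i0 := Nat.find hex' with hi0
    have := congrFun hc ⟨b - 1 - i0, by omega⟩
    simp only [LinearMap.comp_apply, L, Fintype.linearCombination_apply, map_sum, map_smul, Finset.sum_apply,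
      Pi.smul_apply, hΦu, Pi.zero_apply, smul_eq_mul] at this
    rw [Finset.sum_eq_single ⟨i0, h0⟩ ?_ (fun h => absurd (Finset.mem_univ _) h)] at this
    · simp only [show b - 1 - i0 + i0 = b - 1 by omega, hφ1, mul_one] at this
      exact hc0 this
    · intro i _ hi
      rcases Nat.lt_or_ge (i : ℕ) i0 with hlt | hge
      · have := Nat.find_min hex' hlt
        push Not at this
        rw [show c i = 0 from this i.2, zero_mul]
      · have : i0 < (i : ℕ) := lt_of_le_of_ne hge fun e => hi (Fin.ext e.symm)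
        simp only [hhigh (b - 1 - i0 + i) (by omega), map_zero, mul_zero]
  let E := LinearEquiv.ofBijective (Φ ∘ₗ L) ⟨hinj, LinearMap.injective_iff_surjective.mp hinj⟩
  have hLinj : Function.Injective L := by
    rw [LinearMap.coe_comp] at hinj
    exact hinj.of_comp
  have hrange : LinearMap.range L = Submodule.span F (Set.range u) := Fintype.range_linearCombination F u
  have hu : LinearIndependent F u := linearIndependent_iff_injective_fintypeLinearCombination.mpr hLinj
  have hvpow : ∀ e, (N ^ e) v ∈ W := fun e => map_pow_le hW e ⟨v, hvW, rfl⟩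
  have hSW : Submodule.span F (Set.range u) ≤ W := Submodule.span_le.mpr (by rintro _ ⟨i, rfl⟩; exact hvpow i)
  refine ⟨b, u, W ⊓ LinearMap.ker Φ, hb0, ?_, hu, ?_, ?_, fun i => ?_, ?_⟩
  · rintro _ ⟨w, ⟨hwW, hw⟩, rfl⟩
    refine ⟨inv_apply hW hwW, ?_⟩
    refine funext fun j => ?_
    show φ ((N ^ (j : ℕ)) (N w)) = 0
    rw [← Module.End.mul_apply, ← pow_succ]
    rcases Nat.lt_or_ge ((j : ℕ) + 1) b with h | h
    · exact congrFun hw ⟨_, h⟩
    · rw [show (j : ℕ) + 1 = b by omega, hbN w hwW, map_zero]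
  · rw [← hrange, eq_bot_iff]
    rintro _ ⟨⟨c, rfl⟩, -, hc⟩
    have : c = 0 := hinj (hc.trans (map_zero _).symm)
    rw [this, map_zero]; exact Submodule.zero_mem _
  · refine le_antisymm (sup_le hSW inf_le_left) fun w hw => ?_
    rw [← hrange] at hSW ⊢
    refine Submodule.mem_sup.mpr ⟨L (E.symm (Φ w)), ⟨_, rfl⟩, w - L (E.symm (Φ w)), ⟨?_, ?_⟩, by abel⟩
    · exact W.sub_mem hw (hSW ⟨_, rfl⟩)
    · show Φ (w - L (E.symm (Φ w))) = 0
      rw [map_sub, show Φ (L (E.symm (Φ w))) = Φ w from E.apply_symm_apply _, sub_self]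
  · show N ((N ^ (i : ℕ)) v) = 0 ∨ ∃ j : Fin b, N ((N ^ (i : ℕ)) v) = (N ^ (j : ℕ)) v
    rw [← Module.End.mul_apply, ← pow_succ']
    rcases Nat.lt_or_ge ((i : ℕ) + 1) b with h | h
    · exact Or.inr ⟨⟨_, h⟩, rfl⟩
    · exact Or.inl (hhigh _ h)
  · refine lt_of_le_of_ne inf_le_left fun e => hv ?_
    have h1 : v ∈ W ⊓ LinearMap.ker Φ := e.symm ▸ hvW
    have h2 := congrFun (LinearMap.mem_ker.mp h1.2) ⟨b - 1, by omega⟩
    have h3 : φ ((N ^ (b - 1)) v) = 0 := h2
    rw [hφ1] at h3
    exact absurd h3 one_ne_zero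

variable [FiniteDimensional F V]

theorem exists_jordan_set {N : Module.End F V} {p : ℕ} {W : Submodule F V} (hW : Inv N W)
    (hN : ∀ v ∈ W, (N ^ p) v = 0) :
    ∃ T : Set V, LinearIndepOn F id T ∧ Submodule.span F T = W ∧ ∀ v ∈ T, N v = 0 ∨ N v ∈ T := by
  induction W using WellFoundedLT.induction with
  | _ W ih =>
    by_cases hne : W = ⊥
    · exact ⟨∅, linearIndepOn_empty _ _, by rw [hne, Submodule.span_empty], fun v hv => absurd hv (Set.notMem_empty v)⟩
    · obtain ⟨b, u, T, -, hT, hu, hinf, hsup, hshift, hlt⟩ := exists_split_vector hW hne hN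
      obtain ⟨B, hB, hBs, hBN⟩ := ih T hlt hT (fun v hv => hN v (hlt.le hv))
      refine ⟨Set.range u ∪ B, ?_, by rw [Submodule.span_union, hBs, hsup], ?_⟩
      · refine LinearIndepOn.id_union hu.linearIndepOn_id hB ?_
        rw [disjoint_iff, hBs, hinf]
      · rintro v (⟨i, rfl⟩ | hv)
        · rcases hshift i with h | ⟨j, h⟩
          · exact Or.inl h
          · exact Or.inr (Or.inl ⟨j, h.symm⟩)
        · exact (hBN v hv).imp_right Or.inr

theorem exists_jordan_basis {N : Module.End F V} {p n : ℕ} (hn : finrank F V = n) (hN : N ^ p = 0) :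
    ∃ b : Basis (Fin n) F V, ∀ i, N (b i) = 0 ∨ ∃ j, N (b i) = b j := by
  obtain ⟨T, hT, hTs, hTN⟩ := exists_jordan_set (N := N) (W := ⊤) (p := p) le_top (fun v _ => by rw [hN]; rfl)
  let b := Basis.mk (v := ((↑) : T → V)) hT (by rw [Subtype.range_coe, hTs])
  have hfin : Finite T := hT.finite
  letI : Fintype T := Fintype.ofFinite T
  have hc : Fintype.card T = n := by rw [← Module.finrank_eq_card_basis b, hn]
  refine ⟨b.reindex (Fintype.equivFinOfCardEq hc), fun i => ?_⟩
  have hb : ∀ t : T, b t = t := fun t => Basis.mk_apply (v := ((↑) : T → V)) _ _ t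
  simp only [Basis.reindex_apply, hb]
  refine (hTN _ (Subtype.prop _)).imp_right fun h => ⟨Fintype.equivFinOfCardEq hc ⟨_, h⟩, ?_⟩
  rw [Equiv.symm_apply_apply]

theorem exists_commuting_det {g : Module.End F V} {U U' : Submodule F V} (hU : Inv g U) (hU' : Inv g U')
    (h : IsCompl U U') (c : F) :
    ∃ C : Module.End F V, Commute C g ∧ LinearMap.det C = c ^ finrank F U := by
  let e := U.prodEquivOfIsCompl U' h
  let T : Module.End F (U × U') := LinearMap.prodMap (c • LinearMap.id) LinearMap.id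
  refine ⟨e.conj T, LinearMap.ext fun v => ?_, ?_⟩
  · obtain ⟨⟨a, a'⟩, rfl⟩ := e.surjective v
    have hg : g (e (a, a')) = e (⟨g a, inv_apply hU a.2⟩, ⟨g a', inv_apply hU' a'.2⟩) := by
      simp [e]
    rw [Module.End.mul_apply, Module.End.mul_apply, hg, LinearEquiv.conj_apply_apply, LinearEquiv.conj_apply_apply,
      LinearEquiv.symm_apply_apply, LinearEquiv.symm_apply_apply]
    simp [T, e]
  · rw [show LinearMap.det (e.conj T) = LinearMap.det T from LinearMap.det_conj T e, LinearMap.det_prodMap,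
      LinearMap.det_smul, LinearMap.det_id, LinearMap.det_id, mul_one, mul_one]

end Cfsg.Agent.PrimeOrderElt
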