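import Cfsg.Agent.Lib.PrimeOrderElt.Criteria
/-
Split semisimple elements of prime order modulo scalars.
* `exists_diag`   : `x^r = 1`, `r ∣ q - 1`: diagonalisable with eigenvalues `r`-th roots of one
* `sl_conj_diag`  : GL-conjugates of a diagonal matrix are SL-conjugate
-/

set_option autoImplicit false
set_option linter.style.haveILetI false

namespace Cfsg.Agent.PrimeOrderElt

open Module
open scoped MatrixGroups

variable {F : Type*} [Field F] [Fintype F] {r : ℕ} [Fact r.Prime]
variable {V : Type*} [AddCommGroup V] [Module F V] [FiniteDimensional F V]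

theorem exists_eigen_set {y : Module.End F V} (hr1 : r ∣ Fintype.card F - 1) (hr : (r : F) ≠ 0) (hy : y ^ r = 1)
    {W : Submodule F V} (hW : Inv y W) :
    ∃ T : Set V, LinearIndepOn F id T ∧ Submodule.span F T = W ∧ ∀ v ∈ T, ∃ c : F, c ^ r = 1 ∧ y v = c • v := by
  induction W using WellFoundedLT.induction with
  | _ W ih =>
    by_cases hne : W = ⊥
    · exact ⟨∅, linearIndepOn_empty _ _, by rw [hne, Submodule.span_empty], fun v hv => absurd hv (Set.notMem_empty v)⟩
    · obtain ⟨S, hSW, hS, hS0, hmin⟩ := exists_minimal_invariant y hW hne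
      obtain ⟨W', hW', hW'W, hinf, hsup⟩ :=
        exists_invariant_complement hr one_ne_zero (by rw [one_smul, hy]) hW hS hSW
      have hlt : W' < W := lt_of_le_of_ne hW'W fun e => hS0 (by rw [← hinf, e, inf_eq_left.mpr hSW])
      obtain ⟨B, hB, hBs, hBe⟩ := ih W' hlt hW'
      have hS1 : ∃ v : V, v ≠ 0 ∧ Submodule.span F {v} = S ∧ ∃ c : F, c ^ r = 1 ∧ y v = c • v := by
        obtain ⟨v, hv, hv0⟩ := Submodule.exists_mem_ne_zero_of_ne_bot hS0
        have hd1 : finrank F S = 1 := by
          by_cases hf : S ≤ fix y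
          · have hspan : Submodule.span F {v} = S := by
              refine (hmin _ ?_ ((Submodule.span_singleton_le_iff_mem v S).mpr hv)).resolve_left (by simp [hv0])
              rw [Inv, Submodule.map_span, Set.image_singleton, mem_fix.mp (hf hv)]
            rw [← hspan, finrank_span_singleton hv0]
          · rw [finrank_simple hr hy hS hS0 hmin hf]
            exact orderOf_card_eq_one_iff.mpr hr1
        have hspan : Submodule.span F {v} = S :=
          Submodule.eq_of_le_of_finrank_eq ((Submodule.span_singleton_le_iff_mem v S).mpr hv)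
            (by rw [finrank_span_singleton hv0, hd1])
        have hyv : y v ∈ Submodule.span F {v} := by rw [hspan]; exact inv_apply hS hv
        obtain ⟨c, hc⟩ := Submodule.mem_span_singleton.mp hyv
        refine ⟨v, hv0, hspan, c, ?_, hc.symm⟩
        have hpow : ∀ k : ℕ, (y ^ k) v = (c ^ k) • v := by
          intro k
          induction k with
          | zero => simp
          | succ k ihk => rw [pow_succ', Module.End.mul_apply, ihk, map_smul, ← hc, smul_smul, pow_succ]
        have h1 := hpow r
        rw [hy, Module.End.one_apply] at h1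
        exact smul_left_injective F hv0 (h1.symm.trans (one_smul F v).symm)
      obtain ⟨v, hv0, hspan, hcv⟩ := hS1
      refine ⟨insert v B, ?_, ?_, ?_⟩
      · refine hB.id_insert ?_
        rw [hBs]
        intro hv
        have : v ∈ S ⊓ W' := ⟨hspan ▸ Submodule.mem_span_singleton_self v, hv⟩
        rw [hinf, Submodule.mem_bot] at this
        exact hv0 this
      · rw [Submodule.span_insert, hspan, hBs, hsup]
      · rintro w (rfl | hw)
        · exact hcv
        · exact hBe w hw

/-- Diagonalisation, as matrices. -/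
theorem exists_diag {n : ℕ} (hr1 : r ∣ Fintype.card F - 1) (hr : (r : F) ≠ 0) (Y : Matrix (Fin n) (Fin n) F)
    (hY : (Matrix.toLin' Y : Module.End F (Fin n → F)) ^ r = 1) :
    ∃ (B : Matrix (Fin n) (Fin n) F) (d : Fin n → F), B.det ≠ 0 ∧ (∀ i, d i ^ r = 1) ∧
      Y * B = B * Matrix.diagonal d := by
  classical
  obtain ⟨T, hT, hTs, hTe⟩ := exists_eigen_set (W := ⊤) hr1 hr hY le_top
  let b := Basis.mk (v := ((↑) : T → (Fin n → F))) hT (by rw [Subtype.range_coe, hTs])
  have hb : ∀ t : T, b t = t := fun t => Basis.mk_apply (v := ((↑) : T → (Fin n → F))) _ _ t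
  have hfin : Finite T := hT.finite
  letI : Fintype T := Fintype.ofFinite T
  have hc : Fintype.card T = n := by rw [← Module.finrank_eq_card_basis b, Module.finrank_fin_fun]
  let e := Fintype.equivFinOfCardEq hc
  choose f hf1 hf2 using hTe
  let b' := b.reindex e
  have hb' : ∀ i, b' i = ((e.symm i : T) : Fin n → F) := fun i => by rw [Basis.reindex_apply, hb]
  refine ⟨Matrix.of fun a i => b' i a, fun i => f _ (e.symm i).2, ?_, fun i => hf1 _ _, ?_⟩
  · exact ((Matrix.isUnit_iff_isUnit_det _).mp
      (Matrix.linearIndependent_cols_iff_isUnit.mp (b'.linearIndependent : LinearIndependent F (Matrix.of fun a i => b' i a).col))).ne_zero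
  · refine Matrix.ext fun a i => ?_
    rw [Matrix.mul_diagonal, Matrix.mul_apply, Matrix.of_apply]
    have := congrFun (hf2 _ (e.symm i).2) a
    show ∑ j, Y a j * b' i j = b' i a * _
    rw [hb' i, mul_comm]
    exact this

omit [Fintype F] [Fact r.Prime] in
/-- If `X` and `Y` are GL-conjugate to one diagonal matrix, they are SL-conjugate. -/
theorem sl_conj_diag {n : ℕ} (hn : 0 < n) {X Y P Q : GL (Fin n) F} {f : Fin n → F}
    (hX : (X : Matrix (Fin n) (Fin n) F) * P = (P : Matrix (Fin n) (Fin n) F) * Matrix.diagonal f)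
    (hY : (Y : Matrix (Fin n) (Fin n) F) * Q = (Q : Matrix (Fin n) (Fin n) F) * Matrix.diagonal f) :
    ∃ g ∈ Cfsg.Geo.specialLinear (Fin n) F, g⁻¹ * X * g = Y := by
  classical
  let t : Fin n → F := Function.update 1 ⟨0, hn⟩ ((Q : Matrix (Fin n) (Fin n) F).det / (P : Matrix (Fin n) (Fin n) F).det)
  have hP := ((Matrix.isUnit_iff_isUnit_det _).mp P.isUnit).ne_zero
  have hQ := ((Matrix.isUnit_iff_isUnit_det _).mp Q.isUnit).ne_zero
  have htd : (Matrix.diagonal t).det = (Q : Matrix (Fin n) (Fin n) F).det / (P : Matrix (Fin n) (Fin n) F).det := by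
    rw [Matrix.det_diagonal, Finset.prod_update_of_mem (Finset.mem_univ _)]; simp
  let D : GL (Fin n) F := Matrix.GeneralLinearGroup.mkOfDetNeZero (Matrix.diagonal t)
    (by rw [htd]; exact div_ne_zero hQ hP)
  refine ⟨P * D * Q⁻¹, ?_, ?_⟩
  · rw [Cfsg.Geo.specialLinear, MonoidHom.mem_ker]
    refine Units.ext ?_
    have hQinv : ((Q⁻¹ : GL (Fin n) F) : Matrix (Fin n) (Fin n) F).det * (Q : Matrix (Fin n) (Fin n) F).det = 1 := by
      rw [← Matrix.det_mul, ← Units.val_mul, inv_mul_cancel, Units.val_one, Matrix.det_one]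
    show ((P * D * Q⁻¹ : GL (Fin n) F) : Matrix (Fin n) (Fin n) F).det = 1
    rw [Units.val_mul, Units.val_mul, Matrix.det_mul, Matrix.det_mul]
    show _ * (Matrix.diagonal t).det * _ = 1
    rw [htd, mul_div_cancel₀ _ hP, mul_comm, hQinv]
  · have h1 : X * (P * D) = P * D * Q⁻¹ * Y * Q := by
      have hcomm : Matrix.diagonal f * Matrix.diagonal t = Matrix.diagonal t * Matrix.diagonal f := by
        rw [Matrix.diagonal_mul_diagonal, Matrix.diagonal_mul_diagonal]; congr 1; funext i; ring
      refine Units.ext ?_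
      simp only [Units.val_mul]
      rw [Matrix.mul_assoc _ (Y : Matrix (Fin n) (Fin n) F), hY, ← Matrix.mul_assoc]
      show (X : Matrix (Fin n) (Fin n) F) * P * Matrix.diagonal t =
        P * Matrix.diagonal t * ((Q⁻¹ : GL (Fin n) F) : Matrix (Fin n) (Fin n) F) * (Q * Matrix.diagonal f)
      rw [hX, ← Matrix.mul_assoc _ (Q : Matrix (Fin n) (Fin n) F),
        Matrix.mul_assoc _ _ (Q : Matrix (Fin n) (Fin n) F), ← Units.val_mul, inv_mul_cancel, Units.val_one,
        Matrix.mul_one, Matrix.mul_assoc, hcomm, Matrix.mul_assoc]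
    calc (P * D * Q⁻¹)⁻¹ * X * (P * D * Q⁻¹) = (P * D * Q⁻¹)⁻¹ * (X * (P * D)) * Q⁻¹ := by group
      _ = Y := by rw [h1]; group

end Cfsg.Agent.PrimeOrderElt
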