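import Cfsg.Agent.Lib.PrimeOrderElt.Diag
/-
Extraspecial groups 3^(1+2) of exponent 3 in GL_3(q), 3 ∣ q - 1.
* `matA`, `matB` : the standard generators
* `exists_heisenberg` : every such group is a conjugate of the standard one
* `scalar_of_commute` : the centraliser is the scalars
-/

set_option autoImplicit false
set_option linter.style.haveILetI false

namespace Cfsg.Agent.PrimeOrderElt

open Module
open scoped MatrixGroups commutatorElement

variable {F : Type*} [Field F]

/-- diag(1, ω, ω²). -/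
abbrev matA (ω : F) : Matrix (Fin 3) (Fin 3) F := Matrix.diagonal ![1, ω, ω ^ 2]

/-- The cyclic permutation. -/
abbrev matB : Matrix (Fin 3) (Fin 3) F := !![0, 0, 1; 1, 0, 0; 0, 1, 0]

theorem scalar_of_commute {ω : F} (hω : IsPrimitiveRoot ω 3) {X : Matrix (Fin 3) (Fin 3) F}
    (hA : X * matA ω = matA ω * X) (hB : X * matB = matB * X) : ∃ c : F, X = c • (1 : Matrix (Fin 3) (Fin 3) F) := by
  have h1 : ω ≠ 1 := hω.ne_one (by norm_num)
  have h2 : ω ^ 2 ≠ 1 := hω.pow_ne_one_of_pos_of_lt (by norm_num) (by norm_num)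
  have h12 : ω ^ 2 ≠ ω := fun h => h1 (mul_left_cancel₀ (hω.ne_zero (by norm_num))
    (show ω * ω = ω * 1 by rw [← pow_two, h, mul_one]))
  have e : ∀ i j, X i j * ![1, ω, ω ^ 2] j = ![1, ω, ω ^ 2] i * X i j := fun i j => by
    have := congr_fun (congr_fun hA i) j
    rwa [Matrix.mul_diagonal, Matrix.diagonal_mul] at this
  have z : ∀ i j, ![1, ω, ω ^ 2] i ≠ ![1, ω, ω ^ 2] j → X i j = 0 := fun i j hne => by
    by_contra h0
    exact hne (mul_right_cancel₀ h0 ((mul_comm (X i j) _).symm.trans (e i j)).symm)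
  have z01 := z 0 1 (by simpa using Ne.symm h1)
  have z02 := z 0 2 (by simpa using Ne.symm h2)
  have z10 := z 1 0 (by simpa using h1)
  have z12 := z 1 2 (by simpa using Ne.symm h12)
  have z20 := z 2 0 (by simpa using h2)
  have z21 := z 2 1 (by simpa using h12)
  have b10 := congr_fun (congr_fun hB 1) 0
  have b21 := congr_fun (congr_fun hB 2) 1
  simp [Matrix.mul_apply, Fin.sum_univ_three] at b10 b21
  refine ⟨X 0 0, ?_⟩
  ext i j
  fin_cases i <;> fin_cases j <;> simp_all

variable [Fintype F]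

theorem exists_heisenberg (h3 : 3 ∣ Fintype.card F - 1) (R : Subgroup (GL (Fin 3) F)) (hR : Nat.card R = 27)
    (hRe : Monoid.exponent R = 3) (hRna : ¬ IsMulCommutative R) :
    ∃ (C : GL (Fin 3) F) (ω : F) (a b : GL (Fin 3) F), IsPrimitiveRoot ω 3 ∧ a ∈ R ∧ b ∈ R ∧
      R ≤ Subgroup.closure {a, b} ∧
      (a : Matrix (Fin 3) (Fin 3) F) * (C : Matrix (Fin 3) (Fin 3) F) = (C : Matrix (Fin 3) (Fin 3) F) * matA ω ∧
      (b : Matrix (Fin 3) (Fin 3) F) * (C : Matrix (Fin 3) (Fin 3) F) = (C : Matrix (Fin 3) (Fin 3) F) * matB ∧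
      ∃ z ∈ R, (z : Matrix (Fin 3) (Fin 3) F) = ω • (1 : Matrix (Fin 3) (Fin 3) F) := by
  classical
  have : Fact (Nat.Prime 3) := ⟨Nat.prime_three⟩
  have h3F : ((3 : ℕ) : F) ≠ 0 := by
    intro h
    obtain ⟨p, hp⟩ := CharP.exists F
    obtain ⟨e, hpp, he⟩ := FiniteField.card F p
    rw [CharP.cast_eq_zero_iff F p, Nat.prime_dvd_prime_iff_eq hpp Nat.prime_three] at h
    subst h
    have : 3 ∣ Fintype.card F := he ▸ dvd_pow_self 3 e.ne_zero
    have := Fintype.one_lt_card (α := F)
    omega
  have hexp : ∀ g ∈ R, g ^ 3 = 1 := fun g hg => by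
    have h := Monoid.pow_exponent_eq_one (⟨g, hg⟩ : R)
    rw [hRe] at h
    exact congrArg Subtype.val h
  obtain ⟨a, b, ha, hb, hab⟩ : ∃ a b, a ∈ R ∧ b ∈ R ∧ a * b ≠ b * a := by
    by_contra h
    push Not at h
    exact hRna ⟨⟨fun x y => Subtype.ext (h x y x.2 y.2)⟩⟩
  -- the commutator is central in R
  have hP : IsPGroup 3 R := IsPGroup.of_card (n := 3) (by rw [hR]; norm_num)
  have hZ : ∀ z : R, z = ⁅(⟨a, ha⟩ : R), ⟨b, hb⟩⁆ → z ∈ Subgroup.center R := by
    intro z hz
    have hdvd : Nat.card (R ⧸ Subgroup.center R) ∣ 9 := by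
      have hmul := Subgroup.card_eq_card_quotient_mul_card_subgroup (Subgroup.center R)
      have : Nontrivial R := by rw [← Finite.one_lt_card_iff_nontrivial, hR]; norm_num
      have hbot := hP.bot_lt_center
      obtain ⟨k, -, hk⟩ := (Nat.dvd_prime_pow Nat.prime_three).mp
        (show Nat.card (Subgroup.center R) ∣ 3 ^ 3 by rw [show 3 ^ 3 = Nat.card R by rw [hR]; norm_num]; exact Subgroup.card_subgroup_dvd_card _)
      have hk1 : 1 ≤ k := by
        by_contra hk0
        have hk0' : k = 0 := by omega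
        rw [hk0', pow_zero, ← Subgroup.eq_bot_iff_card] at hk
        exact hbot.ne hk.symm
      obtain ⟨k', rfl⟩ := Nat.exists_eq_add_of_le hk1
      rw [hR, hk, pow_add, pow_one] at hmul
      exact ⟨3 ^ k', by linarith⟩
    have hcomm : ∀ u v : R ⧸ Subgroup.center R, u * v = v * u := by
      obtain ⟨k, hk, hcard⟩ := (Nat.dvd_prime_pow Nat.prime_three).mp (show _ ∣ 3 ^ 2 from hdvd)
      interval_cases k
      · intro u v
        have := (Nat.card_eq_one_iff_unique.mp (hcard.trans (pow_zero 3))).1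
        exact Subsingleton.elim _ _
      · intro u v
        have := isCyclic_of_prime_card (α := R ⧸ Subgroup.center R) (p := 3) (hcard.trans (pow_one 3))
        exact (IsCyclic.commGroup (α := R ⧸ Subgroup.center R)).mul_comm u v
      · exact fun u v => (IsPGroup.isMulCommutative_of_card_eq_prime_sq hcard).is_comm.comm u v
    rw [← QuotientGroup.eq_one_iff, hz]
    show QuotientGroup.mk' (Subgroup.center R) ⁅(⟨a, ha⟩ : R), ⟨b, hb⟩⁆ = 1
    rw [map_commutatorElement, commutatorElement_eq_one_iff_mul_comm]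
    exact hcomm _ _
  set c : GL (Fin 3) F := ⁅a, b⁆ with hc
  have hcR : c ∈ R := R.mul_mem (R.mul_mem (R.mul_mem ha hb) (R.inv_mem ha)) (R.inv_mem hb)
  have hcen : ∀ g ∈ R, g * c = c * g := fun g hg =>
    congrArg Subtype.val ((Subgroup.mem_center_iff.mp (hZ ⟨c, hcR⟩ (Subtype.ext rfl))) ⟨g, hg⟩)
  let L : GL (Fin 3) F →* Module.End F (Fin 3 → F) :=
    (Matrix.toLinAlgEquiv' (R := F) (n := Fin 3)).toMonoidHom.comp (Units.coeHom _)
  have hL : ∀ g, L g = Matrix.toLin' (g : Matrix (Fin 3) (Fin 3) F) := fun _ => rfl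
  obtain ⟨B, d, hB, hd, hcB⟩ := exists_diag (r := 3) h3 h3F (c : Matrix (Fin 3) (Fin 3) F) (by
    rw [← hL, ← map_pow, hexp c hcR, map_one])
  obtain ⟨i₀, hi₀⟩ : ∃ i, d i ≠ 1 := by
    by_contra h
    push Not at h
    refine hab (commutatorElement_eq_one_iff_mul_comm.mp ?_)
    rw [← hc]
    refine Units.ext ?_
    have hd1 : Matrix.diagonal d = 1 := by rw [show d = 1 from funext h]; exact Matrix.diagonal_one
    rw [hd1, mul_one] at hcB
    have hu : IsUnit B := (Matrix.isUnit_iff_isUnit_det B).mpr (isUnit_iff_ne_zero.mpr hB)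
    exact hu.mul_right_cancel (hcB.trans (one_mul B).symm)
  set ω := d i₀ with hω'
  have hω : IsPrimitiveRoot ω 3 := IsPrimitiveRoot.iff_orderOf.mpr (orderOf_eq_prime (hd i₀) hi₀)
  let E : Submodule F (Fin 3 → F) := Module.End.eigenspace (L c) ω
  have hEinv : ∀ g ∈ R, ∀ v ∈ E, L g v ∈ E := fun g hg v hv => by
    rw [Module.End.mem_eigenspace_iff] at hv ⊢
    rw [← Module.End.mul_apply, ← map_mul, ← hcen g hg, map_mul, Module.End.mul_apply, hv, map_smul]
  have hEne : E ≠ ⊥ := by
    intro h0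
    have hv : B.col i₀ ∈ E := by
      rw [Module.End.mem_eigenspace_iff, hL, Matrix.toLin'_apply]
      ext k
      have := congr_fun (congr_fun hcB k) i₀
      rw [Matrix.mul_diagonal] at this
      simp only [Matrix.mul_apply] at this
      simp only [Matrix.mulVec, dotProduct, Matrix.col_apply, Pi.smul_apply, smul_eq_mul]
      rw [this, mul_comm]
    rw [h0, Submodule.mem_bot] at hv
    exact hB (Matrix.det_eq_zero_of_column_eq_zero i₀ fun k => congrFun hv k)
  have hE3 : finrank F E = 3 := by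
    let res : ∀ g, g ∈ R → Module.End F E := fun g hg => (L g).restrict (hEinv g hg)
    have hres : ∀ g (hg : g ∈ R) g' (hg' : g' ∈ R), res g hg * res g' hg' = res (g * g') (R.mul_mem hg hg') :=
      fun g hg g' hg' => LinearMap.ext fun v => Subtype.ext (by
        show L g (L g' v.1) = L (g * g') v.1
        rw [map_mul, Module.End.mul_apply])
    have hinv : ∀ g (hg : g ∈ R), LinearMap.det (res g hg) * LinearMap.det (res g⁻¹ (R.inv_mem hg)) = 1 := fun g hg => by
      rw [← map_mul, hres g hg g⁻¹ (R.inv_mem hg)]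
      rw [show res (g * g⁻¹) (R.mul_mem hg (R.inv_mem hg)) = 1 from LinearMap.ext fun v => Subtype.ext (by
        show L (g * g⁻¹) v.1 = v.1
        rw [mul_inv_cancel, map_one, Module.End.one_apply]), map_one]
    have hdet : LinearMap.det (res c hcR) = 1 := by
      rw [show res c hcR = res a ha * res b hb * res a⁻¹ (R.inv_mem ha) * res b⁻¹ (R.inv_mem hb) by
        rw [hres a ha b hb, hres (a * b) (R.mul_mem ha hb) a⁻¹ (R.inv_mem ha),
          hres (a * b * a⁻¹) (R.mul_mem (R.mul_mem ha hb) (R.inv_mem ha)) b⁻¹ (R.inv_mem hb)]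
        rfl]
      rw [map_mul, map_mul, map_mul]
      calc _ = (LinearMap.det (res a ha) * LinearMap.det (res a⁻¹ (R.inv_mem ha))) *
            (LinearMap.det (res b hb) * LinearMap.det (res b⁻¹ (R.inv_mem hb))) := by ring
        _ = 1 := by rw [hinv a ha, hinv b hb, one_mul]
    have hres_c : res c hcR = ω • LinearMap.id := LinearMap.ext fun v => Subtype.ext (Module.End.mem_eigenspace_iff.mp v.2)
    rw [hres_c, LinearMap.det_smul, LinearMap.det_id, mul_one] at hdet
    have hdvd := hω.dvd_of_pow_eq_one _ hdet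
    have hle : finrank F E ≤ 3 := (Submodule.finrank_le E).trans_eq (Module.finrank_fin_fun F)
    have hpos : 0 < finrank F E := by
      have := Submodule.nontrivial_iff_ne_bot.mpr hEne
      exact finrank_pos
    have := Nat.le_of_dvd hpos hdvd
    omega
  have hEtop : E = ⊤ := Submodule.eq_top_of_finrank_eq (hE3.trans (Module.finrank_fin_fun F).symm)
  have hcL : ∀ v, L c v = ω • v := fun v => Module.End.mem_eigenspace_iff.mp (show v ∈ E by rw [hEtop]; trivial)
  have hswap : ∀ v, L a (L b v) = ω • L b (L a v) := fun v => by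
    rw [← hcL, ← Module.End.mul_apply, ← Module.End.mul_apply, ← Module.End.mul_apply, ← map_mul, ← map_mul, ← map_mul,
      hc]
    congr 2
    rw [commutatorElement_def]
    group
  -- an eigenvector of `a` with eigenvalue one
  obtain ⟨B', d', hB', hd', haB⟩ := exists_diag (r := 3) h3 h3F (a : Matrix (Fin 3) (Fin 3) F) (by
    rw [← hL, ← map_pow, hexp a ha, map_one])
  have hw : L a (B'.col 0) = d' 0 • B'.col 0 := by
    rw [hL, Matrix.toLin'_apply]
    ext k
    have := congr_fun (congr_fun haB k) 0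
    rw [Matrix.mul_diagonal] at this
    simp only [Matrix.mul_apply] at this
    simp only [Matrix.mulVec, dotProduct, Matrix.col_apply, Pi.smul_apply, smul_eq_mul]
    rw [this, mul_comm]
  have hw0 : B'.col 0 ≠ 0 := fun h0 => hB' (Matrix.det_eq_zero_of_column_eq_zero 0 fun k => congrFun h0 k)
  have hLb : Function.Injective (L b) := Function.LeftInverse.injective (g := L b⁻¹) fun v => by
    rw [← Module.End.mul_apply, ← map_mul, inv_mul_cancel, map_one, Module.End.one_apply]
  obtain ⟨j, -, hj⟩ := hω.eq_pow_of_pow_eq_one (hd' 0)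
  have hiter : ∀ k : ℕ, L a ((L b ^ k) (B'.col 0)) = ω ^ (k + j) • (L b ^ k) (B'.col 0) := by
    intro k
    induction k with
    | zero => rw [pow_zero, Module.End.one_apply, hw, ← hj, Nat.zero_add]
    | succ k ih => rw [pow_succ', Module.End.mul_apply, hswap, ih, map_smul, smul_smul, ← pow_succ', Nat.succ_add]
  obtain ⟨v, hv0, hv⟩ : ∃ v, v ≠ 0 ∧ L a v = v := by
    have hk : ω ^ (2 * j + j) = 1 := by rw [show 2 * j + j = 3 * j by ring, pow_mul, hω.pow_eq_one, one_pow]
    have hinj : ∀ k : ℕ, Function.Injective (L b ^ k) := fun k => by rw [Module.End.coe_pow]; exact hLb.iterate k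
    refine ⟨(L b ^ (2 * j)) (B'.col 0), fun h => hw0 (hinj (2 * j) (h.trans (map_zero _).symm)), ?_⟩
    rw [hiter, hk, one_smul]
  have hv1 : L a (L b v) = ω • L b v := by rw [hswap, hv]
  have hv2 : L a (L b (L b v)) = ω ^ 2 • L b (L b v) := by rw [hswap, hv1, map_smul, smul_smul, pow_two]
  have hb3 : L b (L b (L b v)) = v := by
    rw [← Module.End.mul_apply, ← Module.End.mul_apply, ← map_mul, ← map_mul, show b * b * b = b ^ 3 by rw [pow_succ, pow_two],
      hexp b hb, map_one, Module.End.one_apply]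
  let col : Fin 3 → (Fin 3 → F) := ![v, L b v, L b (L b v)]
  have hind : LinearIndependent F col := by
    refine Module.End.eigenvectors_linearIndependent' (L a) ![1, ω, ω ^ 2] ?_ col ?_
    · intro i k h
      have e1 : ω ≠ 1 := hω.ne_one (by norm_num)
      have e2 : ω ^ 2 ≠ 1 := hω.pow_ne_one_of_pos_of_lt (by norm_num) (by norm_num)
      have e12 : ω ^ 2 ≠ ω := fun h => e1 (mul_left_cancel₀ (hω.ne_zero (by norm_num))
        (show ω * ω = ω * 1 by rw [← pow_two, h, mul_one]))
      fin_cases i <;> fin_cases k <;> first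
        | rfl | exact absurd h e1 | exact absurd h.symm e1 | exact absurd h e2 | exact absurd h.symm e2
        | exact absurd h e12 | exact absurd h.symm e12
    · intro i
      have hne1 : L b v ≠ 0 := fun h => hv0 (hLb (h.trans (map_zero _).symm))
      have hne2 : L b (L b v) ≠ 0 := fun h => hne1 (hLb (h.trans (map_zero _).symm))
      fin_cases i
      · exact Module.End.hasEigenvector_iff.mpr ⟨Module.End.mem_eigenspace_iff.mpr (by simpa [col] using hv), hv0⟩
      · exact Module.End.hasEigenvector_iff.mpr ⟨Module.End.mem_eigenspace_iff.mpr (by simpa [col] using hv1), hne1⟩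
      · exact Module.End.hasEigenvector_iff.mpr ⟨Module.End.mem_eigenspace_iff.mpr (by simpa [col] using hv2), hne2⟩
  let Cm : Matrix (Fin 3) (Fin 3) F := Matrix.of fun k i => col i k
  have hCu : IsUnit Cm := Matrix.linearIndependent_cols_iff_isUnit.mp (hind : LinearIndependent F Cm.col)
  refine ⟨hCu.unit, ω, a, b, hω, ha, hb, ?_, ?_, ?_, c, hcR, ?_⟩
  · have hle : Subgroup.closure {a, b} ≤ R := (Subgroup.closure_le R).mpr (by
      rintro g (rfl | rfl)
      exacts [ha, hb])
    obtain ⟨k, hk3, hk⟩ := (Nat.dvd_prime_pow Nat.prime_three).mp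
      (show Nat.card (Subgroup.closure {a, b}) ∣ 3 ^ 3 by
        rw [show 3 ^ 3 = Nat.card R by rw [hR]; norm_num]; exact Subgroup.card_dvd_of_le hle)
    have haC : a ∈ Subgroup.closure {a, b} := Subgroup.subset_closure (Or.inl rfl)
    have hbC : b ∈ Subgroup.closure {a, b} := Subgroup.subset_closure (Or.inr rfl)
    have hk' : k = 3 := by
      by_contra hne
      interval_cases k
      · have := (Nat.card_eq_one_iff_unique.mp (hk.trans (pow_zero 3))).1
        exact hab (congrArg Subtype.val (Subsingleton.elim (⟨a, haC⟩ * ⟨b, hbC⟩ : Subgroup.closure {a, b}) (⟨b, hbC⟩ * ⟨a, haC⟩)))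
      · have := isCyclic_of_prime_card (α := Subgroup.closure {a, b}) (p := 3) (hk.trans (pow_one 3))
        exact hab (congrArg Subtype.val ((IsCyclic.commGroup (α := Subgroup.closure {a, b})).mul_comm ⟨a, haC⟩ ⟨b, hbC⟩))
      · exact hab (congrArg Subtype.val ((IsPGroup.isMulCommutative_of_card_eq_prime_sq hk).is_comm.comm (⟨a, haC⟩ : Subgroup.closure {a, b}) ⟨b, hbC⟩))
      · exact hne rfl
    exact (Subgroup.eq_of_le_of_card_ge hle (by rw [hR, hk, hk']; norm_num)).ge
  · rw [IsUnit.unit_spec]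
    refine Matrix.ext fun k i => ?_
    rw [Matrix.mul_diagonal]
    have key : L a (col i) = ![1, ω, ω ^ 2] i • col i := by
      fin_cases i <;> simp [col, hv, hv1, hv2]
    have := congrFun key k
    rw [hL, Matrix.toLin'_apply, Pi.smul_apply, smul_eq_mul, mul_comm] at this
    exact this
  · rw [IsUnit.unit_spec]
    refine Matrix.ext fun k i => ?_
    have key : L b (col i) = col (i + 1) := by
      fin_cases i <;> simp [col, hb3]
    have := congrFun key k
    rw [hL, Matrix.toLin'_apply] at this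
    refine this.trans ?_
    fin_cases i <;> simp [Cm, Matrix.mul_apply, Fin.sum_univ_three, col]
  · refine Matrix.toLin'.injective (LinearMap.ext fun v => ?_)
    rw [← hL, hcL, Matrix.toLin'_apply, Matrix.smul_mulVec, Matrix.one_mulVec]

end Cfsg.Agent.PrimeOrderElt
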