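import Cfsg.Agent.Lib.PrimeOrderElt.Heisenberg
/-
The normaliser of 3^(1+2) in GL_3(q).
* `mem_normalizer_diag`   : diagonal matrices (in the adapted basis) of exponent 3
* `mem_normalizer_invol`  : the inverting involution
* `scalar_of_normalizes`  : elements of prime order ≥ 5 modulo scalars in the normaliser are scalars
-/

set_option autoImplicit false
set_option linter.style.haveILetI false

namespace Cfsg.Agent.PrimeOrderElt

open Module
open scoped MatrixGroups

variable {F : Type*} [Field F] [Fintype F]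

theorem mem_normalizer_of_closure {R : Subgroup (GL (Fin 3) F)} {a b g : GL (Fin 3) F}
    (hle : R ≤ Subgroup.closure {a, b}) (ha : g * a * g⁻¹ ∈ R) (hb : g * b * g⁻¹ ∈ R) :
    g ∈ Cfsg.Geo.subgroupNormalizer R := by
  have : Finite (GL (Fin 3) F) := inferInstance
  refine Subgroup.mem_normalizer_iff.mpr ?_
  have hmap : R.map (MulAut.conj g).toMonoidHom ≤ R := by
    refine (Subgroup.map_mono hle).trans ?_
    rw [MonoidHom.map_closure, Subgroup.closure_le]
    rintro _ ⟨x, (rfl | rfl), rfl⟩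
    exacts [ha, hb]
  have heq : R.map (MulAut.conj g).toMonoidHom = R :=
    Subgroup.eq_of_le_of_card_ge hmap
      (Nat.card_congr (Subgroup.equivMapOfInjective R _ (MulAut.conj g).injective).toEquiv).le
  intro h
  constructor
  · intro hh
    exact hmap ⟨h, hh, rfl⟩
  · intro hh
    obtain ⟨k, hk, e⟩ := heq.ge hh
    rw [← (MulAut.conj g).injective e]
    exact hk

theorem scalar_mem_normalizer (R : Subgroup (GL (Fin 3) F)) {s : GL (Fin 3) F} {c : F}
    (hs : (s : Matrix (Fin 3) (Fin 3) F) = c • (1 : Matrix (Fin 3) (Fin 3) F)) :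
    s ∈ Cfsg.Geo.subgroupNormalizer R := by
  refine Subgroup.mem_normalizer_iff.mpr fun h => ?_
  have : s * h * s⁻¹ = h := by
    rw [mul_inv_eq_iff_eq_mul]
    refine Units.ext ?_
    rw [Units.val_mul, Units.val_mul, hs, Matrix.mul_smul, Matrix.smul_mul, mul_one, one_mul]
  rw [this]

variable {R : Subgroup (GL (Fin 3) F)} {C a b : GL (Fin 3) F} {ω : F}

/-- The normalising diagonal matrices. -/
theorem mem_normalizer_diag (hω : IsPrimitiveRoot ω 3) (ha : a ∈ R) (hb : b ∈ R) (hle : R ≤ Subgroup.closure {a, b})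
    (haC : (a : Matrix (Fin 3) (Fin 3) F) * (C : Matrix (Fin 3) (Fin 3) F) = (C : Matrix (Fin 3) (Fin 3) F) * matA ω)
    (hbC : (b : Matrix (Fin 3) (Fin 3) F) * (C : Matrix (Fin 3) (Fin 3) F) = (C : Matrix (Fin 3) (Fin 3) F) * matB)
    (hz : ∃ z ∈ R, (z : Matrix (Fin 3) (Fin 3) F) = ω • (1 : Matrix (Fin 3) (Fin 3) F))
    {d : Fin 3 → F} (hd : ∀ i, d i ^ 3 = 1) {g : GL (Fin 3) F}
    (hg : (g : Matrix (Fin 3) (Fin 3) F) * (C : Matrix (Fin 3) (Fin 3) F) = (C : Matrix (Fin 3) (Fin 3) F) * Matrix.diagonal d) :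
    g ∈ Cfsg.Geo.subgroupNormalizer R := by
  obtain ⟨z, hz, hzc⟩ := hz
  have hcancel : ∀ X Y : GL (Fin 3) F, (X : Matrix (Fin 3) (Fin 3) F) * (C : Matrix (Fin 3) (Fin 3) F) =
      (Y : Matrix (Fin 3) (Fin 3) F) * (C : Matrix (Fin 3) (Fin 3) F) → X = Y := fun X Y h =>
    mul_right_cancel (b := C) (Units.ext (by rw [Units.val_mul, Units.val_mul]; exact h))
  refine mem_normalizer_of_closure hle ?_ ?_
  · suffices h : g * a = a * g by rw [h, mul_assoc, mul_inv_cancel, mul_one]; exact ha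
    apply hcancel
    rw [Units.val_mul, Units.val_mul, Matrix.mul_assoc, haC, ← Matrix.mul_assoc, hg, Matrix.mul_assoc (a : Matrix (Fin 3) (Fin 3) F),
      hg, ← Matrix.mul_assoc, haC, Matrix.mul_assoc, Matrix.mul_assoc, Matrix.diagonal_mul_diagonal, Matrix.diagonal_mul_diagonal]
    congr 2; funext i; ring
  · -- `d b d⁻¹` is a word in `a, b` and the scalar
    obtain ⟨i0, -, e0⟩ := hω.eq_pow_of_pow_eq_one (hd 0)
    obtain ⟨i1, -, e1⟩ := hω.eq_pow_of_pow_eq_one (hd 1)
    obtain ⟨i2, -, e2⟩ := hω.eq_pow_of_pow_eq_one (hd 2)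
    let m := i2 + 2 * i0 + 2 * i1 + 2 * i2
    suffices h : g * b = z ^ (i0 + 2 * i2) * a ^ (i1 + 2 * i0 + 2 * (i0 + 2 * i2)) * b * g by
      rw [h, mul_assoc _ g, mul_inv_cancel, mul_one]
      exact R.mul_mem (R.mul_mem (R.pow_mem hz _) (R.pow_mem ha _)) hb
    apply hcancel
    have hapow : ∀ k : ℕ, ((a ^ k : GL (Fin 3) F) : Matrix (Fin 3) (Fin 3) F) * (C : Matrix (Fin 3) (Fin 3) F) =
        (C : Matrix (Fin 3) (Fin 3) F) * matA ω ^ k := by
      intro k
      induction k with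
      | zero => simp
      | succ k ih => rw [pow_succ, Units.val_mul, Matrix.mul_assoc, haC, ← Matrix.mul_assoc, ih, Matrix.mul_assoc, ← pow_succ]
    set k1 := i0 + 2 * i2
    set k2 := i1 + 2 * i0 + 2 * (i0 + 2 * i2)
    rw [Units.val_mul, Matrix.mul_assoc, hbC, ← Matrix.mul_assoc, hg]
    rw [Units.val_mul, Units.val_mul, Units.val_mul, Units.val_pow_eq_pow_val z, hzc, _root_.smul_pow, one_pow,
      Matrix.smul_mul, Matrix.smul_mul, Matrix.smul_mul, Matrix.one_mul, Matrix.smul_mul,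
      Matrix.mul_assoc _ (g : Matrix (Fin 3) (Fin 3) F), hg, ← Matrix.mul_assoc,
      Matrix.mul_assoc _ (b : Matrix (Fin 3) (Fin 3) F), hbC, ← Matrix.mul_assoc, hapow, Matrix.mul_assoc, Matrix.mul_assoc,
      Matrix.mul_assoc, ← Matrix.mul_smul]
    congr 1
    rw [matA, Matrix.diagonal_pow]
    have h3 : ω ^ 3 = 1 := hω.pow_eq_one
    have hmod : ∀ u v : ℕ, u % 3 = v % 3 → ω ^ u = ω ^ v := fun u v h => by
      rw [← Nat.div_add_mod u 3, ← Nat.div_add_mod v 3, pow_add, pow_add, pow_mul, pow_mul, h3, one_pow, one_pow, h]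
    ext i j
    simp only [Matrix.smul_apply, Matrix.diagonal_mul, Matrix.mul_diagonal, smul_eq_mul]
    fin_cases i <;> fin_cases j <;>
      simp [← e0, ← e1, ← e2, ← pow_mul, ← pow_add]
    all_goals apply hmod
    all_goals omega

/-- The involution inverting `a` and `b`. -/
theorem mem_normalizer_invol (hω : IsPrimitiveRoot ω 3) (ha : a ∈ R) (hb : b ∈ R) (hle : R ≤ Subgroup.closure {a, b})
    (haC : (a : Matrix (Fin 3) (Fin 3) F) * (C : Matrix (Fin 3) (Fin 3) F) = (C : Matrix (Fin 3) (Fin 3) F) * matA ω)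
    (hbC : (b : Matrix (Fin 3) (Fin 3) F) * (C : Matrix (Fin 3) (Fin 3) F) = (C : Matrix (Fin 3) (Fin 3) F) * matB)
    {g : GL (Fin 3) F} (hg : (g : Matrix (Fin 3) (Fin 3) F) * (C : Matrix (Fin 3) (Fin 3) F) =
      (C : Matrix (Fin 3) (Fin 3) F) * !![-1, 0, 0; 0, 0, -1; 0, -1, 0]) :
    g ∈ Cfsg.Geo.subgroupNormalizer R := by
  have hcancel : ∀ X Y : GL (Fin 3) F, (X : Matrix (Fin 3) (Fin 3) F) * (C : Matrix (Fin 3) (Fin 3) F) =
      (Y : Matrix (Fin 3) (Fin 3) F) * (C : Matrix (Fin 3) (Fin 3) F) → X = Y := fun X Y h =>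
    mul_right_cancel (b := C) (Units.ext (by rw [Units.val_mul, Units.val_mul]; exact h))
  have h3 : ω ^ 3 = 1 := hω.pow_eq_one
  refine mem_normalizer_of_closure hle ?_ ?_
  · suffices h : g * a = a * a * g by rw [h, mul_assoc _ g, mul_inv_cancel, mul_one]; exact R.mul_mem ha ha
    apply hcancel
    rw [Units.val_mul, Units.val_mul, Units.val_mul, Matrix.mul_assoc _ (a : Matrix (Fin 3) (Fin 3) F) (C : Matrix (Fin 3) (Fin 3) F), haC,
      ← Matrix.mul_assoc, hg, Matrix.mul_assoc _ (g : Matrix (Fin 3) (Fin 3) F) (C : Matrix (Fin 3) (Fin 3) F), hg,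
      ← Matrix.mul_assoc, Matrix.mul_assoc _ (a : Matrix (Fin 3) (Fin 3) F) (C : Matrix (Fin 3) (Fin 3) F), haC,
      ← Matrix.mul_assoc, haC, Matrix.mul_assoc, Matrix.mul_assoc, Matrix.mul_assoc]
    congr 1
    have h4 : ω ^ 2 * ω ^ 2 = ω := by linear_combination ω * h3
    have h5 : ω * ω = ω ^ 2 := (pow_two ω).symm
    ext i j
    fin_cases i <;> fin_cases j <;> simp [Matrix.mul_apply, Fin.sum_univ_three, Matrix.diagonal, h4, h5]
  · suffices h : g * b = b * b * g by rw [h, mul_assoc _ g, mul_inv_cancel, mul_one]; exact R.mul_mem hb hb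
    apply hcancel
    rw [Units.val_mul, Units.val_mul, Units.val_mul, Matrix.mul_assoc _ (b : Matrix (Fin 3) (Fin 3) F) (C : Matrix (Fin 3) (Fin 3) F), hbC,
      ← Matrix.mul_assoc, hg, Matrix.mul_assoc _ (g : Matrix (Fin 3) (Fin 3) F) (C : Matrix (Fin 3) (Fin 3) F), hg,
      ← Matrix.mul_assoc, Matrix.mul_assoc _ (b : Matrix (Fin 3) (Fin 3) F) (C : Matrix (Fin 3) (Fin 3) F), hbC,
      ← Matrix.mul_assoc, hbC, Matrix.mul_assoc, Matrix.mul_assoc, Matrix.mul_assoc]
    congr 1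
    ext i j
    fin_cases i <;> fin_cases j <;> simp [Matrix.mul_apply, Fin.sum_univ_three]

/-- Elements of prime order at least 5 modulo scalars do not normalise R. -/
theorem scalar_of_normalizes (hω : IsPrimitiveRoot ω 3) (hR : Nat.card R = 27) (ha : a ∈ R) (hb : b ∈ R)
    (haC : (a : Matrix (Fin 3) (Fin 3) F) * (C : Matrix (Fin 3) (Fin 3) F) = (C : Matrix (Fin 3) (Fin 3) F) * matA ω)
    (hbC : (b : Matrix (Fin 3) (Fin 3) F) * (C : Matrix (Fin 3) (Fin 3) F) = (C : Matrix (Fin 3) (Fin 3) F) * matB)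
    (hz : ∃ z ∈ R, (z : Matrix (Fin 3) (Fin 3) F) = ω • (1 : Matrix (Fin 3) (Fin 3) F))
    {r : ℕ} [Fact r.Prime] (hr : 5 ≤ r) {x : GL (Fin 3) F} (hx : x ∈ Cfsg.Geo.subgroupNormalizer R)
    (hxr : ∃ c : F, ((x ^ r : GL (Fin 3) F) : Matrix (Fin 3) (Fin 3) F) = c • (1 : Matrix (Fin 3) (Fin 3) F)) :
    ∃ c : F, (x : Matrix (Fin 3) (Fin 3) F) = c • (1 : Matrix (Fin 3) (Fin 3) F) := by
  classical
  obtain ⟨z, hzR, hzc⟩ := hz
  obtain ⟨c, hc⟩ := hxr
  letI : Fintype R := Fintype.ofFinite R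
  let σ : Equiv.Perm R :=
    { toFun := fun h => ⟨x * h * x⁻¹, (Subgroup.mem_normalizer_iff.mp hx h).mp h.2⟩
      invFun := fun h => ⟨x⁻¹ * h * x, (Subgroup.mem_normalizer_iff.mp hx _).mpr (by
        show x * (x⁻¹ * h * x) * x⁻¹ ∈ R
        simp [mul_assoc])⟩
      left_inv := fun h => Subtype.ext (by simp [mul_assoc])
      right_inv := fun h => Subtype.ext (by simp [mul_assoc]) }
  have hσk : ∀ (k : ℕ) (h : R), ((σ ^ k) h : GL (Fin 3) F) = x ^ k * h * (x ^ k)⁻¹ := by
    intro k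
    induction k with
    | zero => intro h; simp
    | succ k ih =>
      intro h
      rw [pow_succ', Equiv.Perm.mul_apply]
      show x * ((σ ^ k) h : GL (Fin 3) F) * x⁻¹ = _
      rw [ih, pow_succ']
      group
  have hσ : σ ^ r ^ 1 = 1 := by
    refine Equiv.ext fun h => Subtype.ext ?_
    rw [pow_one, hσk, Equiv.Perm.one_apply, mul_inv_eq_iff_eq_mul]
    refine Units.ext ?_
    rw [Units.val_mul, Units.val_mul, hc, Matrix.smul_mul, Matrix.mul_smul, Matrix.one_mul, Matrix.mul_one]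
  have hmod := Equiv.Perm.card_compl_support_modEq (p := r) hσ
  rw [← Nat.card_eq_fintype_card, hR] at hmod
  let K := Subgroup.centralizer ({x} : Set (GL (Fin 3) F)) ⊓ R
  have hK : ∀ h : GL (Fin 3) F, h ∈ K ↔ h ∈ R ∧ x * h = h * x := fun h => by
    rw [Subgroup.mem_inf, Subgroup.mem_centralizer_singleton_iff]
    exact ⟨fun h => ⟨h.2, h.1.symm⟩, fun h => ⟨h.2.symm, h.1⟩⟩
  have hcardK : Nat.card K = σ.supportᶜ.card := by
    rw [Finset.card_compl, ← Finset.card_compl, ← Fintype.card_coe, ← Nat.card_eq_fintype_card]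
    refine Nat.card_congr
      { toFun := fun h => ⟨⟨h, ((hK h).mp h.2).1⟩, by
          rw [Finset.mem_compl, Equiv.Perm.notMem_support]
          refine Subtype.ext ?_
          show x * (h : GL (Fin 3) F) * x⁻¹ = h
          rw [((hK h).mp h.2).2, mul_assoc, mul_inv_cancel, mul_one]⟩
        invFun := fun h => ⟨h.1, (hK _).mpr ⟨h.1.2, by
          have := h.2
          rw [Finset.mem_compl, Equiv.Perm.notMem_support] at this
          have e : x * (h.1 : GL (Fin 3) F) * x⁻¹ = h.1 := congrArg Subtype.val this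
          rwa [mul_inv_eq_iff_eq_mul] at e⟩⟩
        left_inv := fun _ => rfl
        right_inv := fun _ => rfl }
  obtain ⟨k, hk, hKc⟩ := (Nat.dvd_prime_pow Nat.prime_three).mp
    (show Nat.card K ∣ 3 ^ 3 by rw [show 3 ^ 3 = Nat.card R by rw [hR]; norm_num]; exact Subgroup.card_dvd_of_le inf_le_right)
  have hzK : z ∈ K := (hK z).mpr ⟨hzR, Units.ext (by
    rw [Units.val_mul, Units.val_mul, hzc, Matrix.smul_mul, Matrix.mul_smul, Matrix.one_mul, Matrix.mul_one])⟩
  have hk0 : k ≠ 0 := by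
    intro h0
    rw [h0, pow_zero, ← Subgroup.eq_bot_iff_card] at hKc
    rw [hKc, Subgroup.mem_bot] at hzK
    subst hzK
    have := congr_fun (congr_fun hzc 0) 0
    simp at this
    exact hω.ne_one (by norm_num) this.symm
  have hKR : K = R := by
    refine Subgroup.eq_of_le_of_card_ge inf_le_right ?_
    rw [hR, hKc]
    rw [← hcardK, hKc] at hmod
    interval_cases k
    · omega
    · exfalso
      have := Nat.le_of_dvd (by norm_num) ((Nat.modEq_iff_dvd' (by norm_num)).mp hmod)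
      have := (Nat.modEq_iff_dvd' (by norm_num)).mp hmod
      have hr24 : r ∣ 24 := this
      have : r ∈ Nat.divisors 24 := Nat.mem_divisors.mpr ⟨hr24, by norm_num⟩
      have hp := (Fact.out : r.Prime)
      rw [show Nat.divisors 24 = {1, 2, 3, 4, 6, 8, 12, 24} by decide] at this
      simp only [Finset.mem_insert, Finset.mem_singleton] at this
      rcases this with h|h|h|h|h|h|h|h <;> subst h <;> norm_num at *
    · exfalso
      have := (Nat.modEq_iff_dvd' (by norm_num)).mp hmod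
      have hr24 : r ∣ 18 := this
      have : r ∈ Nat.divisors 18 := Nat.mem_divisors.mpr ⟨hr24, by norm_num⟩
      have hp := (Fact.out : r.Prime)
      rw [show Nat.divisors 18 = {1, 2, 3, 6, 9, 18} by decide] at this
      simp only [Finset.mem_insert, Finset.mem_singleton] at this
      rcases this with h|h|h|h|h|h <;> subst h <;> norm_num at *
    · norm_num
  have hxa := ((hK a).mp (hKR.ge ha)).2
  have hxb := ((hK b).mp (hKR.ge hb)).2
  set X' : Matrix (Fin 3) (Fin 3) F := ((C⁻¹ * x * C : GL (Fin 3) F) : Matrix (Fin 3) (Fin 3) F) with hX'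
  have hconj : ∀ (u : GL (Fin 3) F) (M : Matrix (Fin 3) (Fin 3) F), x * u = u * x →
      (u : Matrix (Fin 3) (Fin 3) F) * (C : Matrix (Fin 3) (Fin 3) F) = (C : Matrix (Fin 3) (Fin 3) F) * M → X' * M = M * X' := by
    intro u M hu hM
    have hM' : M = ((C⁻¹ * u * C : GL (Fin 3) F) : Matrix (Fin 3) (Fin 3) F) := by
      rw [Units.val_mul, Units.val_mul, Matrix.mul_assoc, hM, ← Matrix.mul_assoc, ← Units.val_mul, inv_mul_cancel,
        Units.val_one, Matrix.one_mul]
    rw [hM', hX', ← Units.val_mul, ← Units.val_mul]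
    congr 1
    calc C⁻¹ * x * C * (C⁻¹ * u * C) = C⁻¹ * (x * u) * C := by group
      _ = C⁻¹ * (u * x) * C := by rw [hu]
      _ = C⁻¹ * u * C * (C⁻¹ * x * C) := by group
  obtain ⟨c', hc'⟩ := scalar_of_commute hω (hconj a _ hxa haC) (hconj b _ hxb hbC)
  refine ⟨c', ?_⟩
  have hxC : (x : Matrix (Fin 3) (Fin 3) F) = (C : Matrix (Fin 3) (Fin 3) F) * X' * ((C⁻¹ : GL (Fin 3) F) : Matrix (Fin 3) (Fin 3) F) := by
    rw [hX', ← Units.val_mul, ← Units.val_mul]
    congr 1
    group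
  rw [hxC, hc', Matrix.mul_smul, Matrix.smul_mul, Matrix.mul_one, ← Units.val_mul, mul_inv_cancel, Units.val_one]

end Cfsg.Agent.PrimeOrderElt
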