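import Cfsg.Agent.Lib.Unitary.Block
/-
Polar pairs of the hermitian space: two totally singular subspaces spanning everything.
* `IsPolarPair`, `IsPolarPair.finrank_eq`, `IsPolarPair.disjoint`
* `exists_frame`, `frameHom` : adapted coordinates, the GL_m(q^2) stabilising both
* `exists_su_map`  : SU is transitive on polar pairs
* `exists_singular_split` : an even-dimensional non-degenerate subspace has a polar pair
* `even_eigen_of_fix`, `eigen_le_of_swap` : eigenspaces of isometries stabilising a pair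
-/

set_option autoImplicit false

namespace Cfsg.Agent.PrimeOrderElt

open Module Cfsg.Agent.Unitary
open scoped Matrix MatrixGroups

variable {F : Type*} [Field F] [Fintype F] {q n m : ℕ}

/-- Two totally singular subspaces spanning the space. -/
structure IsPolarPair (q : ℕ) (A B : Submodule F (Fin n → F)) : Prop where
  left : ∀ u ∈ A, ∀ v ∈ A, Cfsg.hermForm n F q u v = 0
  right : ∀ u ∈ B, ∀ v ∈ B, Cfsg.hermForm n F q u v = 0
  sup : A ⊔ B = ⊤

omit [Fintype F] in
theorem IsPolarPair.symm {A B : Submodule F (Fin n → F)} (h : IsPolarPair q A B) : IsPolarPair q B A :=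
  ⟨h.right, h.left, by rw [sup_comm]; exact h.sup⟩

omit [Fintype F] in
/-- Pairing inequality. -/
theorem finrank_le_of_pairing (H : IsHerm q (Cfsg.hermForm n F q)) {A B : Submodule F (Fin n → F)}
    (h : ∀ v ∈ A, (∀ u ∈ B, Cfsg.hermForm n F q v u = 0) → ∀ w, Cfsg.hermForm n F q v w = 0)
    (hnd : Nondeg (Cfsg.hermForm n F q)) (hF : ∀ (c : F) (x y : Fin n → F),
      Cfsg.hermForm n F q x (c • y) = c ^ q * Cfsg.hermForm n F q x y)
    (hadd : ∀ x y z : Fin n → F, Cfsg.hermForm n F q x (y + z) = Cfsg.hermForm n F q x y + Cfsg.hermForm n F q x z) :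
    finrank F A ≤ finrank F B := by
  let b := Module.finBasis F B
  let Φ : A →ₗ[F] (Fin (finrank F B) → F) :=
    { toFun := fun v j => Cfsg.hermForm n F q v.1 (b j).1
      map_add' := fun x y => funext fun j => H.add_left _ _ _
      map_smul' := fun c x => funext fun j => H.smul_left _ _ _ }
  have hinj : Function.Injective Φ := by
    rw [← LinearMap.ker_eq_bot, LinearMap.ker_eq_bot']
    intro v hv
    refine Subtype.ext (hnd v.1 (h v.1 v.2 fun u hu => ?_))
    have hsum : (u : Fin n → F) = ∑ j, b.repr ⟨u, hu⟩ j • (b j).1 := by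
      have := congrArg Subtype.val (b.sum_repr ⟨u, hu⟩)
      rw [Submodule.coe_sum] at this
      exact this.symm
    have key : ∀ (s : Finset (Fin (finrank F B))) (c : Fin (finrank F B) → F),
        Cfsg.hermForm n F q v.1 (∑ j ∈ s, c j • (b j).1) = ∑ j ∈ s, c j ^ q * Cfsg.hermForm n F q v.1 (b j).1 := by
      classical
      intro s c
      induction s using Finset.induction with
      | empty =>
        rw [Finset.sum_empty, Finset.sum_empty]
        have := hadd v.1 0 0
        rw [add_zero] at this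
        exact left_eq_add.mp this
      | insert j s hj ih => rw [Finset.sum_insert hj, Finset.sum_insert hj, hadd, hF, ih]
    rw [hsum, key]
    exact Finset.sum_eq_zero fun j _ => by rw [show Cfsg.hermForm n F q v.1 (b j).1 = 0 from congrFun hv j, mul_zero]
  simpa using LinearMap.finrank_le_finrank_of_injective hinj

/-- The pairing inequality for the standard form. -/
theorem finrank_le_pairing (hF : Fintype.card F = q ^ 2) {A B : Submodule F (Fin n → F)}
    (h : ∀ v ∈ A, (∀ u ∈ B, Cfsg.hermForm n F q v u = 0) → ∀ w, Cfsg.hermForm n F q v w = 0) :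
    finrank F A ≤ finrank F B :=
  finrank_le_of_pairing (hermForm_isHerm hF n) h (hermForm_nondeg hF n)
    ((hermForm_isHerm hF n).smul_right) ((hermForm_isHerm hF n).add_right hF)

variable {A B : Submodule F (Fin n → F)}

theorem IsPolarPair.disjoint (hF : Fintype.card F = q ^ 2) (h : IsPolarPair q A B) : A ⊓ B = ⊥ := by
  refine eq_bot_iff.mpr fun v hv => (Submodule.mem_bot F).mpr (hermForm_nondeg hF n v fun w => ?_)
  obtain ⟨a, ha, b, hb, rfl⟩ := Submodule.mem_sup.mp (h.sup.ge (Submodule.mem_top : w ∈ ⊤))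
  rw [(hermForm_isHerm hF n).add_right hF, h.left v hv.1 a ha, h.right v hv.2 b hb, add_zero]

/-- A vector of one side orthogonal to the other side is orthogonal to everything. -/
theorem IsPolarPair.orth (hF : Fintype.card F = q ^ 2) (h : IsPolarPair q A B) {v : Fin n → F} (hv : v ∈ A)
    (h0 : ∀ u ∈ B, Cfsg.hermForm n F q v u = 0) (w : Fin n → F) : Cfsg.hermForm n F q v w = 0 := by
  obtain ⟨a, ha, b, hb, rfl⟩ := Submodule.mem_sup.mp (h.sup.ge (Submodule.mem_top : w ∈ ⊤))
  rw [(hermForm_isHerm hF n).add_right hF, h.left v hv a ha, h0 b hb, add_zero]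

theorem IsPolarPair.finrank_eq (hF : Fintype.card F = q ^ 2) (h : IsPolarPair q A B) :
    finrank F A = finrank F B ∧ finrank F A + finrank F B = n := by
  refine ⟨le_antisymm (finrank_le_pairing hF fun v hv => h.orth hF hv)
    (finrank_le_pairing hF fun v hv => h.symm.orth hF hv), ?_⟩
  rw [← Submodule.finrank_sup_add_finrank_inf_eq, h.disjoint hF, h.sup, finrank_top, finrank_bot,
    Module.finrank_fin_fun, Nat.add_zero]

theorem IsPolarPair.finrank_half (hF : Fintype.card F = q ^ 2) {A B : Submodule F (Fin (m + m) → F)}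
    (h : IsPolarPair q A B) : finrank F A = m ∧ finrank F B = m := by
  have := h.finrank_eq hF
  omega

/-- Coordinates adapted to a polar pair. -/
structure Frame (q : ℕ) (A B : Submodule F (Fin (m + m) → F)) (Q : GL (Fin (m + m)) F) : Prop where
  memA : ∀ v, v ∈ A ↔ ∃ a : Fin m → F, v = (Q : Matrix (Fin (m + m)) (Fin (m + m)) F) *ᵥ Fin.append a 0
  memB : ∀ v, v ∈ B ↔ ∃ b : Fin m → F, v = (Q : Matrix (Fin (m + m)) (Fin (m + m)) F) *ᵥ Fin.append 0 b
  gram : ∀ a b a' b' : Fin m → F, Cfsg.hermForm (m + m) F q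
      ((Q : Matrix (Fin (m + m)) (Fin (m + m)) F) *ᵥ Fin.append a b)
      ((Q : Matrix (Fin (m + m)) (Fin (m + m)) F) *ᵥ Fin.append a' b') =
    Cfsg.hermForm m F q a b' + Cfsg.hermForm m F q b a'

theorem exists_frame (hF : Fintype.card F = q ^ 2) {A B : Submodule F (Fin (m + m) → F)} (h : IsPolarPair q A B) :
    ∃ Q : GL (Fin (m + m)) F, Frame q A B Q := by
  classical
  obtain ⟨hA, hB⟩ := h.finrank_half hF
  have H := hermForm_isHerm hF (m + m)
  let f := Module.finBasisOfFinrankEq F B hB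
  let Φ : A →ₗ[F] (Fin m → F) :=
    { toFun := fun v j => Cfsg.hermForm (m + m) F q v.1 (f j).1
      map_add' := fun x y => funext fun j => H.add_left _ _ _
      map_smul' := fun c x => funext fun j => H.smul_left _ _ _ }
  have hΦ : Function.Injective Φ := by
    rw [← LinearMap.ker_eq_bot, LinearMap.ker_eq_bot']
    intro v hv
    refine Subtype.ext (hermForm_nondeg hF (m + m) v.1 (h.orth hF v.2 fun u hu => ?_))
    have := congrArg Subtype.val (f.sum_repr ⟨u, hu⟩)
    rw [Submodule.coe_sum] at this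
    replace this : _ = u := this
    rw [← this, H.sum_right hF]
    exact Finset.sum_eq_zero fun j _ => by
      rw [Submodule.coe_smul, H.smul_right, show Cfsg.hermForm (m + m) F q v.1 (f j).1 = 0 from congrFun hv j, mul_zero]
  let E := LinearEquiv.ofBijective Φ ⟨hΦ,
    (LinearMap.injective_iff_surjective_of_finrank_eq_finrank (by rw [hA, Module.finrank_fin_fun])).mp hΦ⟩
  let split₁ : (Fin (m + m) → F) →ₗ[F] (Fin m → F) := LinearMap.funLeft F F (Fin.castAdd m)
  let split₂ : (Fin (m + m) → F) →ₗ[F] (Fin m → F) := LinearMap.funLeft F F (Fin.natAdd m)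
  let L : Module.End F (Fin (m + m) → F) :=
    (A.subtype.comp E.symm.toLinearMap).comp split₁ + (B.subtype.comp f.equivFun.symm.toLinearMap).comp split₂
  have hL : ∀ a b, L (Fin.append a b) = (E.symm a : Fin (m + m) → F) + (f.equivFun.symm b : Fin (m + m) → F) := by
    intro a b
    have h1 : split₁ (Fin.append a b) = a := funext fun i => Fin.append_left a b i
    have h2 : split₂ (Fin.append a b) = b := funext fun i => Fin.append_right a b i
    simp [L, h1, h2]
  have hgram : ∀ a b a' b' : Fin m → F, Cfsg.hermForm (m + m) F q (L (Fin.append a b)) (L (Fin.append a' b')) =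
      Cfsg.hermForm m F q a b' + Cfsg.hermForm m F q b a' := by
    have key : ∀ a b : Fin m → F, Cfsg.hermForm (m + m) F q (E.symm a : Fin (m + m) → F)
        (f.equivFun.symm b : Fin (m + m) → F) = Cfsg.hermForm m F q a b := by
      intro a b
      rw [f.equivFun_symm_apply, Submodule.coe_sum, H.sum_right hF]
      refine Finset.sum_congr rfl fun j _ => ?_
      rw [Submodule.coe_smul, H.smul_right, mul_comm]
      congr 1
      exact congrFun (E.apply_symm_apply a) j
    intro a b a' b'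
    rw [hL, hL, H.add_left, H.add_right hF, H.add_right hF, h.left _ (E.symm a).2 _ (E.symm a').2,
      h.right _ (f.equivFun.symm b).2 _ (f.equivFun.symm b').2, key,
      H.conj_symm (E.symm a' : Fin (m + m) → F) (f.equivFun.symm b : Fin (m + m) → F), key,
      ← (hermForm_isHerm hF m).conj_symm, zero_add, add_zero]
  have hsurj : Function.Surjective L := by
    intro w
    obtain ⟨a, ha, b, hb, rfl⟩ := Submodule.mem_sup.mp (h.sup.ge (Submodule.mem_top : w ∈ ⊤))
    exact ⟨Fin.append (E ⟨a, ha⟩) (f.equivFun ⟨b, hb⟩), by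
      rw [hL, E.symm_apply_apply, LinearEquiv.symm_apply_apply]⟩
  have hu : IsUnit (LinearMap.toMatrix' L) := by
    rw [← Matrix.mulVec_surjective_iff_isUnit]
    intro w
    obtain ⟨v, hv⟩ := hsurj w
    exact ⟨v, by rw [← Matrix.toLin'_apply, Matrix.toLin'_toMatrix', hv]⟩
  have hQ : ∀ v, ((hu.unit : GL (Fin (m + m)) F) : Matrix (Fin (m + m)) (Fin (m + m)) F) *ᵥ v = L v := fun v => by
    rw [IsUnit.unit_spec, ← Matrix.toLin'_apply, Matrix.toLin'_toMatrix']
  refine ⟨hu.unit, fun v => ⟨fun hv => ⟨E ⟨v, hv⟩, ?_⟩, ?_⟩, fun v => ⟨fun hv => ⟨f.equivFun ⟨v, hv⟩, ?_⟩, ?_⟩, ?_⟩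
  · rw [hQ, hL, E.symm_apply_apply, map_zero, Submodule.coe_zero, add_zero]
  · rintro ⟨a, rfl⟩
    rw [hQ, hL, map_zero, Submodule.coe_zero, add_zero]
    exact (E.symm a).2
  · rw [hQ, hL, LinearEquiv.symm_apply_apply, map_zero, Submodule.coe_zero, zero_add]
  · rintro ⟨b, rfl⟩
    rw [hQ, hL, map_zero, Submodule.coe_zero, zero_add]
    exact (f.equivFun.symm b).2
  · intro a b a' b'
    rw [hQ, hQ]
    exact hgram a b a' b'

/-- The matrix of the adjoint inverse. -/
def dualMatrix (q : ℕ) (A : GL (Fin m) F) : Matrix (Fin m) (Fin m) F :=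
  ((A⁻¹ : GL (Fin m) F) : Matrix (Fin m) (Fin m) F)ᵀ.map (fun x => x ^ q)

theorem dualMatrix_mul (hF : Fintype.card F = q ^ 2) (A A' : GL (Fin m) F) :
    dualMatrix q (A * A') = dualMatrix q A * dualMatrix q A' := by
  rw [dualMatrix, mul_inv_rev, Units.val_mul, Matrix.transpose_mul]
  exact Matrix.map_mul (f := Cfsg.Agent.Unitary.conjHom hF)

theorem dualMatrix_herm (hF : Fintype.card F = q ^ 2) (A : GL (Fin m) F) (a b : Fin m → F) :
    Cfsg.hermForm m F q ((A : Matrix (Fin m) (Fin m) F) *ᵥ a) (dualMatrix q A *ᵥ b) = Cfsg.hermForm m F q a b := by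
  have hconj : (fun i => (dualMatrix q A *ᵥ b) i ^ q) =
      ((A⁻¹ : GL (Fin m) F) : Matrix (Fin m) (Fin m) F)ᵀ *ᵥ (fun i => b i ^ q) := by
    funext i
    show Cfsg.Agent.Unitary.conjHom hF ((dualMatrix q A *ᵥ b) i) = _
    rw [RingHom.map_mulVec]
    congr 2
    ext k l
    show ((((A⁻¹ : GL (Fin m) F) : Matrix (Fin m) (Fin m) F)ᵀ k l) ^ q) ^ q = _
    rw [pow_q_pow_q hF]
  show ((A : Matrix (Fin m) (Fin m) F) *ᵥ a) ⬝ᵥ (fun i => (dualMatrix q A *ᵥ b) i ^ q) = a ⬝ᵥ fun i => b i ^ q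
  rw [hconj, dotProduct_comm, Matrix.mulVec_transpose, ← Matrix.dotProduct_mulVec, Matrix.mulVec_mulVec,
    ← Units.val_mul, inv_mul_cancel, Units.val_one, Matrix.one_mulVec, dotProduct_comm]

theorem det_dualMatrix (hF : Fintype.card F = q ^ 2) (A : GL (Fin m) F) :
    (dualMatrix q A).det = ((A⁻¹ : GL (Fin m) F) : Matrix (Fin m) (Fin m) F).det ^ q := by
  show ((Cfsg.Agent.Unitary.conjHom hF).mapMatrix ((A⁻¹ : GL (Fin m) F) : Matrix (Fin m) (Fin m) F)ᵀ).det = _
  rw [← RingHom.map_det, Matrix.det_transpose]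
  rfl

omit [Fintype F] in
theorem det_blockMatrix {k : ℕ} (A : Matrix (Fin k) (Fin k) F) (B : Matrix (Fin m) (Fin m) F) :
    (blockMatrix A B).det = A.det * B.det := by
  have : blockMatrix A B = Matrix.reindex finSumFinEquiv finSumFinEquiv (Matrix.fromBlocks A 0 0 B) := by
    ext i j
    induction i using Fin.addCases <;> induction j using Fin.addCases <;> simp [blockMatrix]
  rw [this, Matrix.det_reindex_self, Matrix.det_fromBlocks_zero₂₁]

variable {A B : Submodule F (Fin (m + m) → F)} {Q : GL (Fin (m + m)) F}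

theorem blockMatrix_dual_isUnit (hF : Fintype.card F = q ^ 2) (X : GL (Fin m) F) :
    (blockMatrix (X : Matrix (Fin m) (Fin m) F) (dualMatrix q X)).det ≠ 0 := by
  rw [det_blockMatrix, det_dualMatrix hF]
  exact mul_ne_zero ((Matrix.isUnit_iff_isUnit_det _).mp X.isUnit).ne_zero
    (pow_ne_zero _ ((Matrix.isUnit_iff_isUnit_det _).mp X⁻¹.isUnit).ne_zero)

/-- GL_m(q^2) in the stabiliser of the pair. -/
noncomputable def frameHom (hF : Fintype.card F = q ^ 2) (Q : GL (Fin (m + m)) F) :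
    GL (Fin m) F →* GL (Fin (m + m)) F where
  toFun X := Q * Matrix.GeneralLinearGroup.mkOfDetNeZero _ (blockMatrix_dual_isUnit hF X) * Q⁻¹
  map_one' := by
    rw [mul_inv_eq_one, mul_eq_left]
    refine Units.ext ?_
    show blockMatrix ((1 : GL (Fin m) F) : Matrix (Fin m) (Fin m) F) (dualMatrix q 1) = 1
    have h1 : dualMatrix q (1 : GL (Fin m) F) = 1 := by
      rw [dualMatrix, inv_one, Units.val_one, Matrix.transpose_one]
      exact Matrix.map_one (Cfsg.Agent.Unitary.conjHom hF) (map_zero _) (map_one _)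
    rw [h1, Units.val_one]
    refine Matrix.ext_iff_mulVec.2 fun w => ?_
    rw [← append_split w, blockMatrix_mulVec, Matrix.one_mulVec, Matrix.one_mulVec, Matrix.one_mulVec]
  map_mul' X Y := by
    have h1 : Matrix.GeneralLinearGroup.mkOfDetNeZero _ (blockMatrix_dual_isUnit hF (X * Y)) =
        Matrix.GeneralLinearGroup.mkOfDetNeZero _ (blockMatrix_dual_isUnit hF X) *
          Matrix.GeneralLinearGroup.mkOfDetNeZero _ (blockMatrix_dual_isUnit hF Y) := by
      refine Units.ext ?_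
      show blockMatrix ((X * Y : GL (Fin m) F) : Matrix (Fin m) (Fin m) F) (dualMatrix q (X * Y)) = _
      rw [Units.val_mul, dualMatrix_mul hF, blockMatrix_mul]
      rfl
    rw [h1]; group

theorem frameHom_apply (hF : Fintype.card F = q ^ 2) (X : GL (Fin m) F) (a b : Fin m → F) :
    ((frameHom hF Q X : GL (Fin (m + m)) F) : Matrix (Fin (m + m)) (Fin (m + m)) F) *ᵥ
      ((Q : Matrix (Fin (m + m)) (Fin (m + m)) F) *ᵥ Fin.append a b) =
    (Q : Matrix (Fin (m + m)) (Fin (m + m)) F) *ᵥ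
      Fin.append ((X : Matrix (Fin m) (Fin m) F) *ᵥ a) (dualMatrix q X *ᵥ b) := by
  rw [Matrix.mulVec_mulVec, ← Units.val_mul]
  show ((Q * _ * Q⁻¹ * Q : GL (Fin (m + m)) F) : Matrix (Fin (m + m)) (Fin (m + m)) F) *ᵥ _ = _
  rw [inv_mul_cancel_right, Units.val_mul, ← Matrix.mulVec_mulVec, ← blockMatrix_mulVec]
  rfl

theorem frameHom_det (hF : Fintype.card F = q ^ 2) (X : GL (Fin m) F) :
    ((frameHom hF Q X : GL (Fin (m + m)) F) : Matrix (Fin (m + m)) (Fin (m + m)) F).det =
      (X : Matrix (Fin m) (Fin m) F).det * ((X⁻¹ : GL (Fin m) F) : Matrix (Fin m) (Fin m) F).det ^ q := by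
  show ((Q * _ * Q⁻¹ : GL (Fin (m + m)) F) : Matrix (Fin (m + m)) (Fin (m + m)) F).det = _
  rw [Units.val_mul, Units.val_mul, Matrix.det_units_conj]
  show (blockMatrix (X : Matrix (Fin m) (Fin m) F) (dualMatrix q X)).det = _
  rw [det_blockMatrix, det_dualMatrix hF]

omit [Fintype F] in
theorem mulVec_eq_append (Q : GL (Fin (m + m)) F) (v : Fin (m + m) → F) :
    ∃ a b, v = (Q : Matrix (Fin (m + m)) (Fin (m + m)) F) *ᵥ Fin.append a b := by
  refine ⟨fun i => (((Q⁻¹ : GL (Fin (m + m)) F) : Matrix (Fin (m + m)) (Fin (m + m)) F) *ᵥ v) (Fin.castAdd m i),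
    fun i => (((Q⁻¹ : GL (Fin (m + m)) F) : Matrix (Fin (m + m)) (Fin (m + m)) F) *ᵥ v) (Fin.natAdd m i), ?_⟩
  rw [append_split, Matrix.mulVec_mulVec, ← Units.val_mul, mul_inv_cancel, Units.val_one, Matrix.one_mulVec]

theorem frameHom_mem_GU (hF : Fintype.card F = q ^ 2) (hQ : Frame q A B Q) (X : GL (Fin m) F) :
    frameHom hF Q X ∈ Cfsg.GU (m + m) F q := by
  refine (mem_GU_iff _).2 fun u v => ?_
  obtain ⟨a, b, rfl⟩ := mulVec_eq_append Q u
  obtain ⟨a', b', rfl⟩ := mulVec_eq_append Q v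
  rw [frameHom_apply, frameHom_apply, hQ.gram, hQ.gram, dualMatrix_herm hF]
  congr 1
  rw [(hermForm_isHerm hF m).conj_symm, dualMatrix_herm hF, ← (hermForm_isHerm hF m).conj_symm]

omit [Fintype F] in
theorem map_eq_of_le (g : GL (Fin n) F) {W W' : Submodule F (Fin n → F)}
    (h : ∀ v ∈ W, (g : Matrix (Fin n) (Fin n) F) *ᵥ v ∈ W') (hd : finrank F W' ≤ finrank F W) :
    W.map (Matrix.toLin' (g : Matrix (Fin n) (Fin n) F)) = W' := by
  refine Submodule.eq_of_le_of_finrank_le ?_ ?_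
  · rintro _ ⟨v, hv, rfl⟩
    rw [Matrix.toLin'_apply]; exact h v hv
  · refine hd.trans (le_of_eq (LinearEquiv.finrank_eq (Submodule.equivMapOfInjective
      (Matrix.toLin' (g : Matrix (Fin n) (Fin n) F)) (fun a b hab => ?_) W)))
    rw [Matrix.toLin'_apply, Matrix.toLin'_apply] at hab
    exact Matrix.mulVec_injective_of_isUnit g.isUnit hab

theorem frameHom_map (hF : Fintype.card F = q ^ 2) (hQ : Frame q A B Q) (X : GL (Fin m) F) :
    A.map (Matrix.toLin' ((frameHom hF Q X : GL (Fin (m + m)) F) : Matrix (Fin (m + m)) (Fin (m + m)) F)) = A ∧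
    B.map (Matrix.toLin' ((frameHom hF Q X : GL (Fin (m + m)) F) : Matrix (Fin (m + m)) (Fin (m + m)) F)) = B := by
  constructor <;> refine map_eq_of_le _ (fun v hv => ?_) le_rfl
  · obtain ⟨a, rfl⟩ := (hQ.memA v).1 hv
    rw [frameHom_apply, Matrix.mulVec_zero]
    exact (hQ.memA _).2 ⟨_, rfl⟩
  · obtain ⟨b, rfl⟩ := (hQ.memB v).1 hv
    rw [frameHom_apply, Matrix.mulVec_zero]
    exact (hQ.memB _).2 ⟨_, rfl⟩

/-- Hilbert 90 for F/F_q. -/
theorem exists_div_conj (hF : Fintype.card F = q ^ 2) {μ : F} (hμ : μ ^ (q + 1) = 1) :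
    ∃ a : F, a ≠ 0 ∧ a * (a⁻¹) ^ q = μ := by
  obtain ⟨t, ht⟩ : ∃ t : F, t + μ * t ^ q ≠ 0 := by
    by_contra hcon
    push Not at hcon
    have h1 : μ = -1 := by
      have := hcon 1
      rw [one_pow, mul_one] at this
      exact eq_neg_of_add_eq_zero_right this
    refine conjHom_ne_id hF (RingHom.ext fun t => ?_)
    have := hcon t
    rw [h1, neg_one_mul, ← sub_eq_add_neg, sub_eq_zero] at this
    exact this.symm
  refine ⟨t + μ * t ^ q, ht, ?_⟩
  set a := t + μ * t ^ q with ha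
  have hq : μ * a ^ q = a := by
    rw [ha, add_pow_q hF, mul_pow, pow_q_pow_q hF, mul_add, ← mul_assoc, ← pow_succ', hμ, one_mul, add_comm]
  rw [inv_pow, ← div_eq_mul_inv, div_eq_iff (pow_ne_zero _ ht)]
  exact hq.symm

/-- SU is transitive on polar pairs. -/
theorem exists_su_map (hF : Fintype.card F = q ^ 2) (hm : 1 ≤ m) {A' B' : Submodule F (Fin (m + m) → F)}
    (h : IsPolarPair q A B) (h' : IsPolarPair q A' B') :
    ∃ g : GL (Fin (m + m)) F, g ∈ Cfsg.GU (m + m) F q ∧ (g : Matrix (Fin (m + m)) (Fin (m + m)) F).det = 1 ∧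
      A.map (Matrix.toLin' (g : Matrix (Fin (m + m)) (Fin (m + m)) F)) = A' ∧
      B.map (Matrix.toLin' (g : Matrix (Fin (m + m)) (Fin (m + m)) F)) = B' := by
  classical
  obtain ⟨Q, hQ⟩ := exists_frame hF h
  obtain ⟨Q', hQ'⟩ := exists_frame hF h'
  set g₀ := Q' * Q⁻¹ with hg₀
  have hg₀v : ∀ w, (g₀ : Matrix (Fin (m + m)) (Fin (m + m)) F) *ᵥ ((Q : Matrix (Fin (m + m)) (Fin (m + m)) F) *ᵥ w) =
      (Q' : Matrix (Fin (m + m)) (Fin (m + m)) F) *ᵥ w := fun w => by
    rw [Matrix.mulVec_mulVec, ← Units.val_mul, hg₀, inv_mul_cancel_right]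
  have hg₀U : g₀ ∈ Cfsg.GU (m + m) F q := by
    refine (mem_GU_iff _).2 fun u v => ?_
    obtain ⟨a, b, rfl⟩ := mulVec_eq_append Q u
    obtain ⟨a', b', rfl⟩ := mulVec_eq_append Q v
    rw [hg₀v, hg₀v, hQ.gram, hQ'.gram]
  set d := (g₀ : Matrix (Fin (m + m)) (Fin (m + m)) F).det with hd
  have hdn : d ^ (q + 1) = 1 := IsUnitary.det_norm hF (fun u v => (mem_GU_iff _).1 hg₀U u v)
  have hd0 : d ≠ 0 := fun h0 => by rw [h0, zero_pow (Nat.succ_ne_zero q)] at hdn; exact zero_ne_one hdn
  obtain ⟨a, ha0, ha⟩ := exists_div_conj hF (μ := d⁻¹) (by rw [inv_pow, hdn, inv_one])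
  let Xm : Matrix (Fin m) (Fin m) F := Matrix.diagonal (Function.update 1 ⟨0, hm⟩ a)
  have hXd : Xm.det = a := by rw [Matrix.det_diagonal, Finset.prod_update_of_mem (Finset.mem_univ _)]; simp
  let X : GL (Fin m) F := Matrix.GeneralLinearGroup.mkOfDetNeZero Xm (hXd ▸ ha0)
  have hXinv : ((X⁻¹ : GL (Fin m) F) : Matrix (Fin m) (Fin m) F).det = a⁻¹ := by
    refine eq_inv_of_mul_eq_one_left ?_
    show _ * a = 1
    rw [← hXd, show Xm = (X : Matrix (Fin m) (Fin m) F) from rfl, ← Matrix.det_mul, ← Units.val_mul, inv_mul_cancel,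
      Units.val_one, Matrix.det_one]
  refine ⟨g₀ * frameHom hF Q X, Subgroup.mul_mem _ hg₀U (frameHom_mem_GU hF hQ X), ?_, ?_, ?_⟩
  · rw [Units.val_mul, Matrix.det_mul, frameHom_det, hXinv]
    show d * (Xm.det * _) = 1
    rw [hXd, ha, mul_inv_cancel₀ hd0]
  · rw [Units.val_mul, Matrix.toLin'_mul, Submodule.map_comp, (frameHom_map hF hQ X).1]
    refine map_eq_of_le _ (fun v hv => ?_) ((h'.finrank_half hF).1.trans (h.finrank_half hF).1.symm).le
    obtain ⟨c, rfl⟩ := (hQ.memA v).1 hv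
    rw [hg₀v]
    exact (hQ'.memA _).2 ⟨_, rfl⟩
  · rw [Units.val_mul, Matrix.toLin'_mul, Submodule.map_comp, (frameHom_map hF hQ X).2]
    refine map_eq_of_le _ (fun v hv => ?_) ((h'.finrank_half hF).2.trans (h.finrank_half hF).2.symm).le
    obtain ⟨c, rfl⟩ := (hQ.memB v).1 hv
    rw [hg₀v]
    exact (hQ'.memB _).2 ⟨_, rfl⟩

/-- Even-dimensional non-degenerate subspaces have polar pairs (odd characteristic). -/
theorem exists_singular_split (hF : Fintype.card F = q ^ 2) (h2 : (2 : F) ≠ 0) (W : Submodule F (Fin n → F))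
    (hW : ∀ u ∈ W, (∀ v ∈ W, Cfsg.hermForm n F q u v = 0) → u = 0) (he : Even (finrank F W)) :
    ∃ A B : Submodule F (Fin n → F), A ⊔ B = W ∧ (∀ u ∈ A, ∀ v ∈ A, Cfsg.hermForm n F q u v = 0) ∧
      (∀ u ∈ B, ∀ v ∈ B, Cfsg.hermForm n F q u v = 0) := by
  classical
  obtain ⟨k, hk⟩ := he
  obtain ⟨b, hb, hspan⟩ := subspace_orthonormalBasis hF W hW
  obtain ⟨ε, hε⟩ := exists_eps hF
  have H := hermForm_isHerm hF n
  let c₁ : Fin k → (Fin n → F) := fun i => b ⟨i, by omega⟩
  let c₂ : Fin k → (Fin n → F) := fun i => b ⟨k + i, by omega⟩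
  have hsing : ∀ e : F, e ^ (q + 1) = -1 → ∀ u ∈ Submodule.span F (Set.range fun i => c₁ i + e • c₂ i),
      ∀ v ∈ Submodule.span F (Set.range fun i => c₁ i + e • c₂ i), Cfsg.hermForm n F q u v = 0 := by
    intro e he u hu v hv
    induction hu using Submodule.span_induction with
    | zero => exact H.zero_left v
    | add x y _ _ hx hy => rw [H.add_left, hx, hy, add_zero]
    | smul c x _ hx => rw [H.smul_left, hx, mul_zero]
    | mem x hx =>
      obtain ⟨i, rfl⟩ := hx
      induction hv using Submodule.span_induction with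
      | zero => exact H.zero_right hF _
      | add x y _ _ hx hy => rw [H.add_right hF, hx, hy, add_zero]
      | smul c x _ hx => rw [H.smul_right, hx, mul_zero]
      | mem y hy =>
        obtain ⟨j, rfl⟩ := hy
        rw [H.add_left, H.add_right hF, H.add_right hF, H.smul_left, H.smul_left, H.smul_right, H.smul_right]
        simp only [c₁, c₂, hb.apply, Fin.ext_iff]
        have h12 : ¬ ((i : ℕ) = k + (j : ℕ)) := by omega
        have h21 : ¬ (k + (i : ℕ) = (j : ℕ)) := by omega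
        rw [if_neg h12, if_neg h21]
        by_cases hij : (i : ℕ) = (j : ℕ)
        · rw [if_pos hij, if_pos (by omega), mul_zero, mul_zero, add_zero, zero_add, mul_one, ← pow_succ', he,
            add_neg_cancel]
        · rw [if_neg hij, if_neg (by omega)]
          simp
  have hε' : (-ε) ^ (q + 1) = -1 := by
    rw [pow_succ, neg_pow_q hF, neg_mul_neg, ← pow_succ, hε]
  refine ⟨Submodule.span F (Set.range fun i => c₁ i + ε • c₂ i), Submodule.span F (Set.range fun i => c₁ i + (-ε) • c₂ i),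
    ?_, hsing ε hε, hsing _ hε'⟩
  have hε0 : ε ≠ 0 := fun h0 => by rw [h0, zero_pow (Nat.succ_ne_zero q)] at hε; exact neg_ne_zero.mpr one_ne_zero hε.symm
  refine le_antisymm ?_ ?_
  · rw [← Submodule.span_union, ← hspan, Submodule.span_le]
    rintro _ (⟨i, rfl⟩ | ⟨i, rfl⟩) <;>
      exact Submodule.add_mem _ (Submodule.subset_span ⟨_, rfl⟩) (Submodule.smul_mem _ _ (Submodule.subset_span ⟨_, rfl⟩))
  · refine hspan.symm.le.trans (Submodule.span_le.2 ?_)
    rintro _ ⟨j, rfl⟩
    set U := Submodule.span F (Set.range fun i => c₁ i + ε • c₂ i) ⊔ Submodule.span F (Set.range fun i => c₁ i + (-ε) • c₂ i)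
    have hmem : ∀ i, c₁ i ∈ U ∧ c₂ i ∈ U := fun i => by
      have h1 : c₁ i + ε • c₂ i ∈ U := Submodule.mem_sup_left (Submodule.subset_span ⟨i, rfl⟩)
      have h2' : c₁ i + (-ε) • c₂ i ∈ U := Submodule.mem_sup_right (Submodule.subset_span ⟨i, rfl⟩)
      have ha : c₁ i ∈ U := by
        have := U.smul_mem (2 : F)⁻¹ (U.add_mem h1 h2')
        rwa [show c₁ i + ε • c₂ i + (c₁ i + (-ε) • c₂ i) = (2 : F) • c₁ i by rw [neg_smul, two_smul]; abel,
          smul_smul, inv_mul_cancel₀ h2, one_smul] at this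
      refine ⟨ha, ?_⟩
      have := U.smul_mem ε⁻¹ (U.sub_mem h1 ha)
      rwa [add_sub_cancel_left, smul_smul, inv_mul_cancel₀ hε0, one_smul] at this
    rcases Nat.lt_or_ge (j : ℕ) k with h | h
    · exact (hmem ⟨j, h⟩).1
    · have := (hmem ⟨j - k, by omega⟩).2
      show b j ∈ U
      rw [show b j = c₂ ⟨(j : ℕ) - k, by omega⟩ from congrArg b (Fin.ext (by show (j : ℕ) = k + ((j : ℕ) - k); omega))]
      exact this

/-- The eigenspace of an isometry fixing both sides has even dimension for unit-circle eigenvalues. -/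
theorem even_eigen_of_fix (hF : Fintype.card F = q ^ 2) {A B : Submodule F (Fin n → F)} (h : IsPolarPair q A B)
    {g : GL (Fin n) F} (hg : g ∈ Cfsg.GU n F q)
    (hA : A.map (Matrix.toLin' (g : Matrix (Fin n) (Fin n) F)) = A)
    (hB : B.map (Matrix.toLin' (g : Matrix (Fin n) (Fin n) F)) = B) {c : F} (hc : c ^ (q + 1) = 1) :
    Even (finrank F ↥(LinearMap.ker ((Matrix.toLin' (g : Matrix (Fin n) (Fin n) F) : Module.End F (Fin n → F)) - c • 1))) := by
  set G : Module.End F (Fin n → F) := Matrix.toLin' (g : Matrix (Fin n) (Fin n) F) with hG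
  set T : Module.End F (Fin n → F) := G - c • 1 with hT
  set E := LinearMap.ker T with hE
  have H := hermForm_isHerm hF n
  have hc0 : c ≠ 0 := fun h0 => by rw [h0, zero_pow (Nat.succ_ne_zero q)] at hc; exact zero_ne_one hc
  have hadj : ∀ u v, Cfsg.hermForm n F q (T u) (G v) = -(c * Cfsg.hermForm n F q u (T v)) := by
    intro u v
    have h1 : Cfsg.hermForm n F q (G u) (G v) = Cfsg.hermForm n F q u v := by
      rw [hG, Matrix.toLin'_apply, Matrix.toLin'_apply]; exact (mem_GU_iff _).1 hg u v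
    rw [hT, LinearMap.sub_apply, LinearMap.sub_apply, LinearMap.smul_apply, LinearMap.smul_apply, Module.End.one_apply,
      Module.End.one_apply, H.sub_left, H.smul_left, H.sub_right hF, H.smul_right, h1, mul_sub, ← mul_assoc, ← pow_succ', hc]
    ring
  have hinvA : ∀ v ∈ A, T v ∈ A := fun v hv => A.sub_mem (hA.le ⟨v, hv, rfl⟩) (A.smul_mem c hv)
  have hinvB : ∀ v ∈ B, T v ∈ B := fun v hv => B.sub_mem (hB.le ⟨v, hv, rfl⟩) (B.smul_mem c hv)
  have hle : ∀ P R : Submodule F (Fin n → F), IsPolarPair q P R → (∀ v ∈ P, T v ∈ P) → (∀ v ∈ R, T v ∈ R) →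
      finrank F R ≤ finrank F P → finrank F ↥(E ⊓ P) ≤ finrank F ↥(E ⊓ R) := by
    intro P R hPR _ hR _
    obtain ⟨C, hC⟩ := Submodule.exists_isCompl ((R.map T).submoduleOf R)
    let C' : Submodule F (Fin n → F) := C.map R.subtype
    have hpair : finrank F ↥(E ⊓ P) ≤ finrank F C' := by
      refine finrank_le_pairing hF fun v hv h0 => hPR.orth hF hv.2 fun u hu => ?_
      obtain ⟨a, ha, b, hb, hab⟩ := Submodule.mem_sup.mp (hC.sup_eq_top.ge (Submodule.mem_top : (⟨u, hu⟩ : R) ∈ ⊤))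
      obtain ⟨w, hw, hwa⟩ : (a : Fin n → F) ∈ R.map T := ha
      rw [show u = (a : Fin n → F) + (b : Fin n → F) from (congrArg Subtype.val hab).symm, H.add_right hF,
        h0 (b : Fin n → F) ⟨b, hb, rfl⟩, add_zero, ← hwa]
      have h1 := hadj v w
      rw [show T v = 0 from hv.1, H.zero_left, eq_comm, neg_eq_zero, mul_eq_zero] at h1
      exact h1.resolve_left hc0
    refine hpair.trans (le_of_eq ?_)
    let TR : R →ₗ[F] R := T.restrict hR
    have hker : finrank F (LinearMap.ker TR) = finrank F ↥(E ⊓ R) := by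
      rw [LinearMap.ker_restrict, inf_comm, ← Submodule.map_comap_subtype, Submodule.finrank_map_subtype_eq]
    have hrange : LinearMap.range TR = (R.map T).submoduleOf R := by
      ext x
      constructor
      · rintro ⟨y, rfl⟩; exact ⟨y.1, y.2, rfl⟩
      · rintro ⟨y, hy, hyx⟩; exact ⟨⟨y, hy⟩, Subtype.ext hyx⟩
    have h1 := LinearMap.finrank_range_add_finrank_ker TR
    have h2 := Submodule.finrank_add_eq_of_isCompl hC
    rw [Submodule.finrank_map_subtype_eq, ← hker]
    rw [hrange] at h1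
    omega
  have hAB := (h.finrank_eq hF).1
  have h1 := hle A B h hinvA hinvB hAB.ge
  have h2 := hle B A h.symm hinvB hinvA hAB.le
  have hsplit : E = (E ⊓ A) ⊔ (E ⊓ B) := by
    refine le_antisymm (fun v hv => ?_) (sup_le inf_le_left inf_le_left)
    obtain ⟨a, ha, b, hb, rfl⟩ := Submodule.mem_sup.mp (h.sup.ge (Submodule.mem_top : v ∈ ⊤))
    have h0 : T a + T b = 0 := by rw [← map_add]; exact hv
    have hTa : T a ∈ A ⊓ B := ⟨hinvA a ha, by rw [eq_neg_of_add_eq_zero_left h0]; exact B.neg_mem (hinvB b hb)⟩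
    rw [h.disjoint hF, Submodule.mem_bot] at hTa
    have hTb : T b = 0 := by rwa [hTa, zero_add] at h0
    exact Submodule.mem_sup.mpr ⟨a, ⟨hTa, ha⟩, b, ⟨hTb, hb⟩, rfl⟩
  have hdim := Submodule.finrank_sup_add_finrank_inf_eq (E ⊓ A) (E ⊓ B)
  rw [← hsplit, le_bot_iff.mp ((inf_le_inf inf_le_right inf_le_right).trans (h.disjoint hF).le), finrank_bot,
    Nat.add_zero] at hdim
  exact ⟨finrank F ↥(E ⊓ A), by omega⟩

omit [Fintype F] in
/-- Interchanging two complementary subspaces bounds every eigenspace. -/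
theorem eigen_le_of_swap {A B : Submodule F (Fin n → F)} (hdis : A ⊓ B = ⊥) (htop : finrank F A + finrank F B = n)
    (T : Module.End F (Fin n → F)) (hT : Function.Injective T) (hA : A.map T ≤ B) (c : F) :
    finrank F ↥(LinearMap.ker (T - c • 1)) ≤ finrank F B := by
  set E := LinearMap.ker (T - c • 1) with hE
  have hEA : E ⊓ A = ⊥ := by
    refine eq_bot_iff.mpr fun v hv => ?_
    have h1 : T v = c • v := sub_eq_zero.mp hv.1
    have h2 : T v ∈ A := by rw [h1]; exact A.smul_mem c hv.2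
    have h3 : T v ∈ A ⊓ B := ⟨h2, hA ⟨v, hv.2, rfl⟩⟩
    rw [hdis, Submodule.mem_bot, h1] at h3
    by_cases hc : c = 0
    · have h4 : T v = T 0 := by rw [h1, hc, zero_smul, map_zero]
      exact (Submodule.mem_bot F).mpr (hT h4)
    · exact (Submodule.mem_bot F).mpr ((smul_eq_zero.mp h3).resolve_left hc)
  have := Submodule.finrank_sup_add_finrank_inf_eq E A
  rw [hEA, finrank_bot] at this
  have := Submodule.finrank_le (E ⊔ A)
  rw [Module.finrank_fin_fun] at this
  omega

end Cfsg.Agent.PrimeOrderElt
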