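import Cfsg.Agent.Lib.PrimeOrderElt.Diag
import Cfsg.Agent.Lib.Semisimple.Basic
/-
Rational forms over a subfield of semisimple elements.
* `rank_map`              : the rank of a matrix survives a field extension
* `exists_rational_model` : `y^r = 1`, `ord_r |K| = ord_r |F|`: similar to a matrix over `K`
* `exists_det_commute`    : centralisers of elements of prime order modulo scalars have every determinant
-/

set_option autoImplicit false
set_option linter.style.haveILetI false

namespace Cfsg.Agent.PrimeOrderElt

open Module Polynomial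

variable {F : Type*} [Field F]

theorem rank_map {n : ℕ} {K : Type*} [Field K] (e : K →+* F) (M : Matrix (Fin n) (Fin n) K) :
    (M.map e).rank = M.rank := by
  classical
  obtain ⟨V, U, ε, hV, hU, h⟩ := Matrix.exists_rank_normal_form M
  have hV' := hV.map e.mapMatrix
  have hU' := hU.map e.mapMatrix
  have h1 := congrArg (fun A => A.map e) h
  simp only [Matrix.map_mul] at h1
  rw [← Matrix.diagonal_one, ← Matrix.diagonal_zero, Matrix.fromBlocks_diagonal,
    Matrix.submatrix_diagonal_equiv] at h h1
  rw [Matrix.diagonal_map (map_zero e)] at h1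
  rw [← Matrix.rank_mul_eq_right_of_isUnit_det (V.map e) (M.map e)
      ((Matrix.isUnit_iff_isUnit_det _).1 hV'),
    ← Matrix.rank_mul_eq_left_of_isUnit_det (U.map e) (V.map e * M.map e)
      ((Matrix.isUnit_iff_isUnit_det _).1 hU'), h1]
  conv_rhs => rw [← Matrix.rank_mul_eq_right_of_isUnit_det V M ((Matrix.isUnit_iff_isUnit_det _).1 hV),
    ← Matrix.rank_mul_eq_left_of_isUnit_det U (V * M) ((Matrix.isUnit_iff_isUnit_det _).1 hU), h]
  rw [Matrix.rank_diagonal, Matrix.rank_diagonal]
  exact Fintype.card_congr (Equiv.subtypeEquivRight fun i => (map_eq_zero e).not)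

variable [Fintype F] {r : ℕ} [Fact r.Prime]

section
variable {V : Type*} [AddCommGroup V] [Module F V] [FiniteDimensional F V]
variable {K : Subfield F} [Fintype K]

omit [Fintype F] [FiniteDimensional F V] in
/-- Some non-zero vector of an invariant subspace is killed by a small monic polynomial over `K`. -/
theorem exists_killer {y : Module.End F V} (hr : (r : F) ≠ 0) (hy : y ^ r = 1) {S : Submodule F V}
    (hS : Inv y S) (hS0 : S ≠ ⊥) :
    ∃ v ∈ S, v ≠ 0 ∧ ∃ g : (↥K)[X], g.Monic ∧ g.natDegree ≤ orderOf (Fintype.card K : ZMod r) ∧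
      aeval (y.restrictScalars K : Module.End K V) g v = 0 := by
  classical
  set yK : Module.End K V := y.restrictScalars K with hyK
  have hrK : (r : K) ≠ 0 := fun h => hr (by simpa using congrArg (Subfield.subtype K) h)
  have hpos := orderOf_card_pos (F := K) hrK
  set e0 := orderOf (Fintype.card K : ZMod r) with he0
  have hyr : yK ^ r = 1 := by
    refine LinearMap.ext fun v => ?_
    rw [Module.End.pow_apply]
    exact (Module.End.pow_apply y r v).symm.trans (by rw [hy]; rfl)
  have hmem : ∀ (p : (↥K)[X]) (v : V), v ∈ S → aeval yK p v ∈ S := by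
    intro p
    induction p using Polynomial.induction_on' with
    | add p q hp hq => intro v hv; rw [map_add, LinearMap.add_apply]; exact S.add_mem (hp v hv) (hq v hv)
    | monomial k a =>
      intro v hv
      rw [aeval_monomial, Module.End.mul_apply, Module.algebraMap_end_apply, ← IsScalarTower.algebraMap_smul F]
      refine S.smul_mem _ ?_
      induction k with
      | zero => simpa using hv
      | succ k ih => rw [pow_succ', Module.End.mul_apply]; exact inv_apply hS ih
  suffices key : ∀ a : (↥K)[X], a ∣ X ^ r - 1 → ∀ v ∈ S, v ≠ 0 → aeval yK a v = 0 →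
      ∃ w ∈ S, w ≠ 0 ∧ ∃ g : (↥K)[X], Irreducible g ∧ g ∣ X ^ r - 1 ∧ aeval yK g w = 0 by
    obtain ⟨v, hv, hv0⟩ := Submodule.exists_mem_ne_zero_of_ne_bot hS0
    obtain ⟨w, hw, hw0, g, hg, hgd, hgw⟩ := key _ dvd_rfl v hv hv0 (by simp [hyr])
    refine ⟨w, hw, hw0, g * C g.leadingCoeff⁻¹, monic_mul_leadingCoeff_inv hg.ne_zero, ?_, ?_⟩
    · rw [natDegree_mul_leadingCoeff_inv g hg.ne_zero]
      refine Nat.le_of_dvd hpos (hg.natDegree_dvd_of_dvd_X_pow_card_pow_sub_X ?_)
      rw [Nat.card_eq_fintype_card]
      obtain ⟨t, ht⟩ := (dvd_pow_sub_one_iff (r := r) (F := K) e0).mpr dvd_rfl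
      refine hgd.trans ?_
      rw [show Fintype.card K ^ e0 = r * t + 1 by
        have := Nat.one_le_pow e0 _ (Fintype.card_pos (α := K)); omega, pow_succ, pow_mul]
      exact (sub_one_dvd_pow_sub_one _ t).trans ⟨X, by ring⟩
    · rw [mul_comm, map_mul, Module.End.mul_apply, hgw, map_zero]
  intro a
  induction a using WfDvdMonoid.induction_on_irreducible with
  | zero =>
    intro h
    exact absurd (zero_dvd_iff.mp h) (X_pow_sub_C_ne_zero (Fact.out : r.Prime).pos 1)
  | unit u hu =>
    intro _ v _ hv0 h
    exfalso
    obtain ⟨u', hu'⟩ := hu.exists_left_inv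
    have := congrArg (fun t => aeval yK t v) hu'
    simp only [map_mul, Module.End.mul_apply, h, map_zero, map_one, Module.End.one_apply] at this
    exact hv0 this.symm
  | mul a i ha hi ih =>
    intro hd v hv hv0 h
    by_cases h0 : aeval yK a v = 0
    · exact ih ((dvd_mul_left a i).trans hd) v hv hv0 h0
    · rw [map_mul, Module.End.mul_apply] at h
      exact ⟨_, hmem a v hv, h0, i, hi, (dvd_mul_right i a).trans hd, h⟩

theorem exists_rational_set {y : Module.End F V} (hr : (r : F) ≠ 0) (hy : y ^ r = 1)
    (hord : orderOf (Fintype.card F : ZMod r) = orderOf (Fintype.card K : ZMod r))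
    {W : Submodule F V} (hW : Inv y W) :
    ∃ T : Set V, LinearIndepOn F id T ∧ Submodule.span F T = W ∧ ∀ v ∈ T, y v ∈ Submodule.span K T := by
  classical
  induction W using WellFoundedLT.induction with
  | _ W ih =>
    by_cases hne : W = ⊥
    · exact ⟨∅, linearIndepOn_empty _ _, by rw [hne, Submodule.span_empty], fun v hv => absurd hv (Set.notMem_empty v)⟩
    · obtain ⟨S, hSW, hS, hS0, hmin⟩ := exists_minimal_invariant y hW hne
      obtain ⟨W', hW', hW'W, hinf, hsup⟩ :=
        exists_invariant_complement hr one_ne_zero (by rw [one_smul, hy]) hW hS hSW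
      have hlt : W' < W := lt_of_le_of_ne hW'W fun e => hS0 (by rw [← hinf, e, inf_eq_left.mpr hSW])
      obtain ⟨B, hB, hBs, hBe⟩ := ih W' hlt hW'
      have hS1 : ∃ A : Set V, LinearIndepOn F id A ∧ Submodule.span F A = S ∧ ∀ v ∈ A, y v ∈ Submodule.span K A := by
        by_cases hf : S ≤ fix y
        · obtain ⟨v, hv, hv0⟩ := Submodule.exists_mem_ne_zero_of_ne_bot hS0
          refine ⟨{v}, by simpa using hv0, ?_, ?_⟩
          · refine (hmin _ ?_ ((Submodule.span_singleton_le_iff_mem v S).mpr hv)).resolve_left (by simp [hv0])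
            rw [Inv, Submodule.map_span, Set.image_singleton, mem_fix.mp (hf hv)]
          · rintro w rfl
            rw [mem_fix.mp (hf hv)]
            exact Submodule.subset_span rfl
        · have hdim := finrank_simple hr hy hS hS0 hmin hf
          obtain ⟨v, hv, hv0, g, hgm, hgd, hgv⟩ := exists_killer (K := K) hr hy hS hS0
          set d := g.natDegree
          let u : Fin d → V := fun j => (y ^ (j : ℕ)) v
          have hup : ∀ j : ℕ, ((y.restrictScalars K : Module.End K V) ^ j) v = (y ^ j) v := fun j => by
            rw [Module.End.pow_apply, Module.End.pow_apply]; rfl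
          have htop : (y ^ d) v ∈ Submodule.span K (Set.range u) := by
            rw [aeval_eq_sum_range, LinearMap.sum_apply, Finset.sum_range_succ, hgm.coeff_natDegree, one_smul,
              hup, add_eq_zero_iff_eq_neg'] at hgv
            rw [hgv]
            refine Submodule.neg_mem _ (Submodule.sum_mem _ fun j hj => ?_)
            rw [LinearMap.smul_apply, hup]
            exact Submodule.smul_mem _ _ (Submodule.subset_span ⟨⟨j, Finset.mem_range.mp hj⟩, rfl⟩)
          have hmove : ∀ j : Fin d, y (u j) ∈ Submodule.span K (Set.range u) := by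
            intro j
            show y ((y ^ (j : ℕ)) v) ∈ _
            rw [← Module.End.mul_apply, ← pow_succ']
            rcases Nat.lt_or_ge ((j : ℕ) + 1) d with h | h
            · exact Submodule.subset_span ⟨⟨_, h⟩, rfl⟩
            · rw [show (j : ℕ) + 1 = d by omega]; exact htop
          have hKF : ∀ s : Set V, ∀ w ∈ Submodule.span K s, w ∈ Submodule.span F s := fun s w hw =>
            Submodule.span_le_restrictScalars K F s hw
          have hd0 : 0 < d := by
            by_contra h0
            have h1 : (y ^ d) v = v := by rw [show d = 0 by omega, pow_zero, Module.End.one_apply]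
            rw [h1] at htop
            rw [Set.range_eq_empty_iff.mpr ⟨fun i : Fin d => by have := i.2; omega⟩, Submodule.span_empty,
              Submodule.mem_bot] at htop
            exact hv0 htop
          have hpowS : ∀ j : ℕ, (y ^ j) v ∈ S := by
            intro j
            induction j with
            | zero => simpa using hv
            | succ j ihj => rw [pow_succ', Module.End.mul_apply]; exact inv_apply hS ihj
          have hspan : Submodule.span F (Set.range u) = S := by
            refine (hmin _ ?_ (Submodule.span_le.mpr (by rintro _ ⟨j, rfl⟩; exact hpowS j))).resolve_left ?_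
            · refine Submodule.map_le_iff_le_comap.mpr (Submodule.span_le.mpr ?_)
              rintro _ ⟨j, rfl⟩
              exact hKF _ _ (hmove j)
            · intro h
              have : v ∈ Submodule.span F (Set.range u) := Submodule.subset_span ⟨⟨0, hd0⟩, by simp [u]⟩
              rw [h, Submodule.mem_bot] at this
              exact hv0 this
          have hind : LinearIndependent F u := by
            rw [linearIndependent_iff_card_le_finrank_span, Fintype.card_fin, Set.finrank, hspan, hdim, hord]
            exact hgd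
          exact ⟨Set.range u, hind.linearIndepOn_id, hspan, by rintro _ ⟨j, rfl⟩; exact hmove j⟩
      obtain ⟨A, hA, hAs, hAe⟩ := hS1
      refine ⟨A ∪ B, LinearIndepOn.id_union hA hB ?_, by rw [Submodule.span_union, hAs, hBs, hsup], ?_⟩
      · rw [disjoint_iff, hAs, hBs, hinf]
      · rintro w (hw | hw)
        · exact Submodule.span_mono Set.subset_union_left (hAe w hw)
        · exact Submodule.span_mono Set.subset_union_right (hBe w hw)

end

/-- An element of order `r` is similar to a matrix over a subfield with the same order modulo `r`. -/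
theorem exists_rational_model {n : ℕ} (hr : (r : F) ≠ 0) (K : Subfield F) [Fintype K]
    (hord : orderOf (Fintype.card F : ZMod r) = orderOf (Fintype.card K : ZMod r))
    (Y : Matrix (Fin n) (Fin n) F) (hY : (Matrix.toLin' Y : Module.End F (Fin n → F)) ^ r = 1) :
    ∃ (B : Matrix (Fin n) (Fin n) F) (M₀ : Matrix (Fin n) (Fin n) K), B.det ≠ 0 ∧
      Y * B = B * M₀.map K.subtype := by
  classical
  obtain ⟨T, hT, hTs, hTe⟩ := exists_rational_set (K := K) (W := ⊤) hr hY hord le_top
  let b := Basis.mk (v := ((↑) : T → (Fin n → F))) hT (by rw [Subtype.range_coe, hTs])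
  have hb : ∀ t : T, b t = t := fun t => Basis.mk_apply (v := ((↑) : T → (Fin n → F))) _ _ t
  have hfin : Finite T := hT.finite
  letI : Fintype T := Fintype.ofFinite T
  have hc : Fintype.card T = n := by rw [← Module.finrank_eq_card_basis b, Module.finrank_fin_fun]
  let e := Fintype.equivFinOfCardEq hc
  let u : Fin n → Fin n → F := fun i => ((e.symm i : T) : Fin n → F)
  have hu : Set.range u = T := by
    ext w
    exact ⟨by rintro ⟨i, rfl⟩; exact (e.symm i).2, fun h => ⟨e ⟨w, h⟩, by simp [u]⟩⟩
  have hui : LinearIndependent F u := hT.comp e.symm e.symm.injective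
  have hM : ∀ i, ∃ a : Fin n → K, ∑ j, a j • u j = (Matrix.toLin' Y) (u i) := fun i => by
    rw [← Submodule.mem_span_range_iff_exists_fun, hu]
    exact hTe _ (e.symm i).2
  choose a ha using hM
  refine ⟨Matrix.of fun s i => u i s, Matrix.of fun j i => a i j, ?_, ?_⟩
  · exact ((Matrix.isUnit_iff_isUnit_det _).mp
      (Matrix.linearIndependent_cols_iff_isUnit.mp (hui : LinearIndependent F (Matrix.of fun s i => u i s).col))).ne_zero
  · refine Matrix.ext fun s i => ?_
    have := congrFun (ha i) s
    rw [Finset.sum_apply, Matrix.toLin'_apply] at this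
    simp only [Matrix.mul_apply, Matrix.of_apply, Matrix.map_apply]
    refine this.symm.trans (Finset.sum_congr rfl fun j _ => ?_)
    rw [mul_comm]
    rfl

omit [Fact r.Prime] in
/-- Centralisers of elements of prime order modulo scalars have every determinant. -/
theorem exists_det_commute {n : ℕ} (hn : 0 < n) (hr : (r : F) ≠ 0) {z : F} (hz : z ≠ 0)
    (X : Matrix (Fin n) (Fin n) F) (hX : X ^ r = z • (1 : Matrix (Fin n) (Fin n) F)) (d : F) (hd : d ≠ 0) :
    ∃ C : Matrix (Fin n) (Fin n) F, C.det = d ∧ C * X = X * C := by
  haveI : Nonempty (Fin n) := ⟨⟨0, hn⟩⟩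
  set f : Module.End F (Fin n → F) := Matrix.toLinAlgEquiv' X with hf
  have hfr : f ^ r = z • 1 := by rw [hf, ← map_pow, hX, map_smul, map_one]
  have hss : f.IsSemisimple :=
    Module.End.isSemisimple_of_squarefree_aeval_eq_zero
      (separable_X_pow_sub_C z hr hz).squarefree (by simp [hfr, Algebra.algebraMap_eq_smul_one])
  obtain ⟨u, hu, hud⟩ := Cfsg.Agent.Semisimple.exists_commute_det f hss (Units.mk0 d hd)
  refine ⟨LinearMap.toMatrix' u, by rw [LinearMap.det_toMatrix', hud]; rfl, ?_⟩
  refine (Matrix.toLinAlgEquiv' (R := F) (n := Fin n)).injective ?_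
  have hu' : Matrix.toLinAlgEquiv' (LinearMap.toMatrix' u) = u := Matrix.toLin'_toMatrix' u
  rw [map_mul, map_mul, hu']
  exact hu

end Cfsg.Agent.PrimeOrderElt
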