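import Cfsg.Agent.Lib.Linear.Symplectic
import Cfsg.Agent.Lib.Linear.BlockPairs
/-
Skew maps with non-square scalar square for the standard alternating form (the hermitian structures).
* `IsSkewRoot`            : `J² = ν`, `f(J u, v) = -f(u, J v)`
* `exists_skewRoot_of_K`  : the generator of an adjoint-closed, not self-adjoint quadratic field of matrices
* `exists_skew_model`          : a basis in which form and map are standard
* `exists_conj`           : any two skew roots are conjugate in `Sp`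
* `even_finrank`          : invariant subspaces have even dimension
-/

set_option autoImplicit false

open Matrix Module

namespace Cfsg.Agent.PrimeOrderElt

variable {F : Type*} [Field F] {d : ℕ}

local notation "f" => Cfsg.sympForm d F
local notation "V" => Fin d ⊕ Fin d → F

/-- A skew map with scalar square. -/
def IsSkewRoot (ν : F) (J : Matrix (Fin d ⊕ Fin d) (Fin d ⊕ Fin d) F) : Prop :=
  J * J = ν • 1 ∧ ∀ u v : Fin d ⊕ Fin d → F, Cfsg.sympForm d F (J *ᵥ u) v = - Cfsg.sympForm d F u (J *ᵥ v)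

theorem IsSkewRoot.sq {ν : F} {J : Matrix (Fin d ⊕ Fin d) (Fin d ⊕ Fin d) F} (h : IsSkewRoot ν J) (u : V) :
    J *ᵥ (J *ᵥ u) = ν • u := by
  rw [Matrix.mulVec_mulVec, h.1, Matrix.smul_mulVec, Matrix.one_mulVec]

theorem sympForm_zero_left (v : V) : f 0 v = 0 := by
  rw [← zero_smul F (0 : V), Linear.sympForm_smul_left, zero_mul]

theorem sympForm_sum_left {ι : Type*} (s : Finset ι) (g : ι → V) (v : V) :
    f (∑ i ∈ s, g i) v = ∑ i ∈ s, f (g i) v := by
  classical
  induction s using Finset.induction with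
  | empty => simp [sympForm_zero_left]
  | insert a s ha ih => rw [Finset.sum_insert ha, Finset.sum_insert ha, Linear.sympForm_add_left, ih]

theorem sympForm_sum_right {ι : Type*} (s : Finset ι) (g : ι → V) (v : V) :
    f v (∑ i ∈ s, g i) = ∑ i ∈ s, f v (g i) := by
  rw [Linear.sympForm_swap, sympForm_sum_left, ← Finset.sum_neg_distrib]
  exact Finset.sum_congr rfl fun i _ => (Linear.sympForm_swap _ _).symm

theorem eq_of_adjoint {A B : Matrix (Fin d ⊕ Fin d) (Fin d ⊕ Fin d) F}
    (h : ∀ u v : V, f u (A *ᵥ v) = f u (B *ᵥ v)) : A = B := by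
  refine Matrix.ext_iff_mulVec.mpr fun v => ?_
  by_contra hne
  obtain ⟨w, hw⟩ := Linear.exists_sympForm_ne_zero (sub_ne_zero.mpr hne)
  apply hw
  rw [sub_eq_add_neg, Linear.sympForm_add_left, ← neg_one_smul F (B *ᵥ v), Linear.sympForm_smul_left,
    Linear.sympForm_swap (A *ᵥ v), Linear.sympForm_swap (B *ᵥ v), h]
  ring

theorem exists_skewRoot_of_K [Fintype F] (hd : 0 < d) (h2' : (2 : F) ≠ 0)
    (K : Subalgebra F (Matrix (Fin d ⊕ Fin d) (Fin d ⊕ Fin d) F)) (hK : Cfsg.Geo.IsFieldSubalgebra 2 K)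
    (hKf : Cfsg.Geo.IsAdjointClosedFor (Cfsg.sympForm d F) K) (hKns : ¬ Cfsg.Geo.IsSelfAdjointFor (Cfsg.sympForm d F) K) :
    ∃ (ν : F) (J : Matrix (Fin d ⊕ Fin d) (Fin d ⊕ Fin d) F), IsSkewRoot ν J ∧ (∀ c : F, c * c ≠ ν) ∧ J ∈ K ∧
      ∀ k ∈ K, ∃ α β : F, k = α • 1 + β • J := by
  have hfd : Module.Finite F K := Module.finite_of_finrank_pos (by rw [hK.finrank_eq]; norm_num)
  simp only [Cfsg.Geo.IsSelfAdjointFor, not_forall] at hKns
  obtain ⟨k, hk, u₀, v₀, hne⟩ := hKns
  obtain ⟨k', hk', hadj⟩ := hKf k hk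
  have hadj' : ∀ u v : V, f (k' *ᵥ u) v = f u (k *ᵥ v) := fun u v => by
    rw [Linear.sympForm_swap, ← hadj, ← Linear.sympForm_swap]
  set J := k - k' with hJ
  have hJK : J ∈ K := K.sub_mem hk hk'
  have hskew : ∀ u v : V, f (J *ᵥ u) v = - f u (J *ᵥ v) := by
    intro u v
    have hsub : ∀ a b c : V, f (a - b) c = f a c - f b c := fun a b c => by
      rw [sub_eq_add_neg, Linear.sympForm_add_left, ← neg_one_smul F b, Linear.sympForm_smul_left]; ring
    rw [hJ, Matrix.sub_mulVec, Matrix.sub_mulVec, hsub, hadj, hadj', sub_eq_add_neg (k *ᵥ v),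
      Linear.sympForm_add_right, ← neg_one_smul F (k' *ᵥ v), Linear.sympForm_smul_right]
    ring
  have h2 : ∀ u v : V, f (J *ᵥ (J *ᵥ u)) v = f u (J *ᵥ (J *ᵥ v)) := fun u v => by rw [hskew, hskew, neg_neg]
  have hne0 : J ≠ 0 := fun h => hne (by rw [hadj, ← sub_eq_zero.mp h])
  have hnot : ∀ c : F, J ≠ c • 1 := by
    intro c hc
    obtain ⟨w, hw⟩ := Linear.exists_sympForm_ne_zero
      (u := Pi.single (Sum.inl ⟨0, hd⟩ : Fin d ⊕ Fin d) (1 : F)) (by simp)
    have h := hskew (Pi.single (Sum.inl ⟨0, hd⟩) 1) w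
    rw [hc, Matrix.smul_mulVec, Matrix.one_mulVec, Matrix.smul_mulVec, Matrix.one_mulVec,
      Linear.sympForm_smul_left, Linear.sympForm_smul_right] at h
    have h0 : (2 * c) * f (Pi.single (Sum.inl ⟨0, hd⟩) 1) w = 0 := by linear_combination h
    have hc0 := (mul_eq_zero.mp ((mul_eq_zero.mp h0).resolve_right hw)).resolve_left h2'
    exact hne0 (by rw [hc, hc0, zero_smul])
  have hind : LinearIndependent F ![(⟨1, K.one_mem⟩ : K), ⟨J, hJK⟩] := by
    rw [LinearIndependent.pair_iff]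
    intro s t h
    have h' : s • (1 : Matrix (Fin d ⊕ Fin d) (Fin d ⊕ Fin d) F) + t • J = 0 := congrArg Subtype.val h
    haveI : Nonempty (Fin d ⊕ Fin d) := ⟨Sum.inl ⟨0, hd⟩⟩
    by_cases ht : t = 0
    · subst ht
      rw [zero_smul, add_zero, smul_eq_zero] at h'
      exact ⟨h'.resolve_right one_ne_zero, rfl⟩
    · refine absurd ?_ (hnot (-(t⁻¹ * s)))
      calc J = t⁻¹ • (t • J) := by rw [smul_smul, inv_mul_cancel₀ ht, one_smul]
        _ = _ := by rw [eq_neg_of_add_eq_zero_right h', smul_neg, smul_smul, neg_smul]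
  have hspan := hind.span_eq_top_of_card_eq_finrank' (by rw [Fintype.card_fin, hK.finrank_eq])
  have hsp : ∀ k ∈ K, ∃ α β : F, k = α • (1 : Matrix (Fin d ⊕ Fin d) (Fin d ⊕ Fin d) F) + β • J := by
    intro m hm
    have : (⟨m, hm⟩ : K) ∈ Submodule.span F (Set.range ![(⟨1, K.one_mem⟩ : K), ⟨J, hJK⟩]) :=
      hspan ▸ Submodule.mem_top
    rw [Matrix.range_cons, Matrix.range_cons, Matrix.range_empty, Set.union_empty,
      Set.singleton_union, Submodule.mem_span_pair] at this
    obtain ⟨α, β, h⟩ := this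
    exact ⟨α, β, (congrArg Subtype.val h).symm⟩
  obtain ⟨b, a, hab⟩ := hsp (J * J) (K.mul_mem hJK hJK)
  have hsq : J * J = b • 1 := by
    have h3 : a • J = (-a) • J := eq_of_adjoint fun u v => by
      have h := h2 u v
      rw [Matrix.mulVec_mulVec, Matrix.mulVec_mulVec, hab, Matrix.add_mulVec, Matrix.add_mulVec,
        Linear.sympForm_add_left, Linear.sympForm_add_right, Matrix.smul_mulVec, Matrix.smul_mulVec,
        Matrix.smul_mulVec, Matrix.smul_mulVec, Matrix.one_mulVec, Matrix.one_mulVec, Linear.sympForm_smul_left,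
        Linear.sympForm_smul_left, Linear.sympForm_smul_right, Linear.sympForm_smul_right, hskew] at h
      rw [Matrix.smul_mulVec, Matrix.smul_mulVec, Linear.sympForm_smul_right, Linear.sympForm_smul_right]
      linear_combination -h
    have ha : a = 0 := by
      by_contra ha
      rw [← sub_eq_zero, ← sub_smul, smul_eq_zero] at h3
      rcases h3 with h3 | h3
      · exact ha (by have : (2 : F) * a = 0 := by linear_combination h3
                     exact (mul_eq_zero.mp this).resolve_left h2')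
      · exact hne0 h3
    rw [hab, ha, zero_smul, add_zero]
  refine ⟨b, J, ⟨hsq, hskew⟩, fun c hc => ?_, hJK, hsp⟩
  have hm1 : J - c • (1 : Matrix (Fin d ⊕ Fin d) (Fin d ⊕ Fin d) F) ∈ K := K.sub_mem hJK (K.smul_mem K.one_mem c)
  obtain ⟨y, -, hy⟩ := hK.inv _ hm1 (fun h => hnot c (sub_eq_zero.1 h))
  have hzero : (J + c • (1 : Matrix (Fin d ⊕ Fin d) (Fin d ⊕ Fin d) F)) * (J - c • 1) = 0 := by
    simp only [mul_sub, add_mul, Matrix.smul_mul, Matrix.mul_smul, one_mul, mul_one, hsq, ← hc]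
    module
  apply hnot (-c)
  have h4 := congrArg (· * y) hzero
  simp only [mul_assoc, hy, mul_one, zero_mul] at h4
  rw [neg_smul]
  exact eq_neg_of_add_eq_zero_left h4

section
variable [Fintype F] {ν : F} {J : Matrix (Fin d ⊕ Fin d) (Fin d ⊕ Fin d) F}

theorem even_finrank {n : Type} [Fintype n] [DecidableEq n] (hν : ∀ c : F, c * c ≠ ν) {M : Matrix n n F}
    (hM : ∀ v, M *ᵥ (M *ᵥ v) = ν • v) (U : Submodule F (n → F)) (hU : ∀ v ∈ U, M *ᵥ v ∈ U) :
    Even (finrank F U) := by
  by_contra h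
  obtain ⟨m, hm⟩ := Nat.not_even_iff_odd.mp h
  have hg : ∀ v ∈ U, Matrix.toLin' M v ∈ U := fun v hv => by rw [Matrix.toLin'_apply]; exact hU v hv
  set g : Module.End F U := (Matrix.toLin' M).restrict hg with hgdef
  have hgg : g * g = ν • (1 : Module.End F U) := LinearMap.ext fun v => Subtype.ext (by
    show Matrix.toLin' M (Matrix.toLin' M (v : n → F)) = ν • (v : n → F)
    rw [Matrix.toLin'_apply, Matrix.toLin'_apply, hM])
  have hd := congrArg LinearMap.det hgg
  rw [map_mul, LinearMap.det_smul, map_one, mul_one, hm, pow_succ, mul_comm 2, pow_mul] at hd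
  have h0 : ν ^ m ≠ 0 := pow_ne_zero _ fun h0 => hν 0 (by rw [h0, mul_zero])
  refine hν (LinearMap.det g / ν ^ m) ?_
  field_simp
  linear_combination hd

/-- Norm-one vectors extend an orthonormal family of planes. -/
theorem exists_step (hodd : (2 : F) ≠ 0) (hν : ∀ c : F, c * c ≠ ν) (hJ : IsSkewRoot ν J) {k : ℕ} (hk : k < d)
    (b : Fin k → V) (hb1 : ∀ i j, f (b i) (b j) = 0) (hb2 : ∀ i j, f (b i) (J *ᵥ b j) = if i = j then 1 else 0) :
    ∃ v, f v (J *ᵥ v) = 1 ∧ ∀ i, f (b i) v = 0 ∧ f (b i) (J *ᵥ v) = 0 := by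
  classical
  obtain ⟨w, hw, hwb⟩ : ∃ w, f w (J *ᵥ w) ≠ 0 ∧ ∀ i, f (b i) w = 0 ∧ f (b i) (J *ᵥ w) = 0 := by
    by_contra hcon
    push Not at hcon
    have hR : ∀ w, (∀ i, f (b i) w = 0 ∧ f (b i) (J *ᵥ w) = 0) → f w (J *ᵥ w) = 0 := fun w hw => by
      by_contra h0
      obtain ⟨i, hi⟩ := hcon w h0
      exact hi (hw i).1 (hw i).2
    have hRadd : ∀ u w, (∀ i, f (b i) u = 0 ∧ f (b i) (J *ᵥ u) = 0) → (∀ i, f (b i) w = 0 ∧ f (b i) (J *ᵥ w) = 0) →
        ∀ i, f (b i) (u + w) = 0 ∧ f (b i) (J *ᵥ (u + w)) = 0 := fun u w hu hw i => by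
      rw [Matrix.mulVec_add, Linear.sympForm_add_right, Linear.sympForm_add_right, (hu i).1, (hu i).2, (hw i).1,
        (hw i).2]
      simp
    have hiso : ∀ u w, (∀ i, f (b i) u = 0 ∧ f (b i) (J *ᵥ u) = 0) → (∀ i, f (b i) w = 0 ∧ f (b i) (J *ᵥ w) = 0) →
        f u (J *ᵥ w) = 0 := by
      intro u w hu hw
      have h := hR _ (hRadd u w hu hw)
      rw [Matrix.mulVec_add, Linear.sympForm_add_left, Linear.sympForm_add_right, Linear.sympForm_add_right,
        hR u hu, hR w hw] at h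
      have hsw : f w (J *ᵥ u) = f u (J *ᵥ w) := by
        rw [Linear.sympForm_swap w (J *ᵥ u), hJ.2 u w, neg_neg]
      have h' : (2 : F) * f u (J *ᵥ w) = 0 := by linear_combination h - hsw
      exact (mul_eq_zero.mp h').resolve_left hodd
    let S : Set V := Set.range b ∪ Set.range fun i => J *ᵥ b i
    have hspan : Submodule.span F S = ⊤ := by
      refine eq_top_iff.mpr fun x _ => ?_
      -- the component orthogonal to the planes
      set c := x - (∑ i, f x (J *ᵥ b i) • b i - ∑ i, f x (b i) • (J *ᵥ b i)) with hc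
      have hsubr : ∀ u y z : V, f u (y - z) = f u y - f u z := fun u y z => by
        rw [sub_eq_add_neg, Linear.sympForm_add_right, ← neg_one_smul F z, Linear.sympForm_smul_right]; ring
      have hcb : ∀ i, f (b i) c = 0 ∧ f (b i) (J *ᵥ c) = 0 := by
        intro i
        have e1 : f (b i) (∑ l, f x (J *ᵥ b l) • b l) = 0 := by
          rw [sympForm_sum_right]; exact Finset.sum_eq_zero fun l _ => by rw [Linear.sympForm_smul_right, hb1, mul_zero]
        have e2 : f (b i) (∑ l, f x (b l) • (J *ᵥ b l)) = f x (b i) := by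
          rw [sympForm_sum_right, Finset.sum_eq_single i]
          · rw [Linear.sympForm_smul_right, hb2, if_pos rfl, mul_one]
          · intro l _ hl; rw [Linear.sympForm_smul_right, hb2, if_neg (Ne.symm hl), mul_zero]
          · simp
        have e3 : f (J *ᵥ b i) (∑ l, f x (J *ᵥ b l) • b l) = - f x (J *ᵥ b i) := by
          rw [sympForm_sum_right, Finset.sum_eq_single i]
          · rw [Linear.sympForm_smul_right, hJ.2, hb2, if_pos rfl]; ring
          · intro l _ hl; rw [Linear.sympForm_smul_right, hJ.2, hb2, if_neg (Ne.symm hl), neg_zero, mul_zero]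
          · simp
        have e4 : f (J *ᵥ b i) (∑ l, f x (b l) • (J *ᵥ b l)) = 0 := by
          rw [sympForm_sum_right]
          exact Finset.sum_eq_zero fun l _ => by
            rw [Linear.sympForm_smul_right, hJ.2, hJ.sq, Linear.sympForm_smul_right, hb1, mul_zero, neg_zero, mul_zero]
        constructor
        · rw [hc, hsubr, hsubr, e1, e2, Linear.sympForm_swap (b i) x]; ring
        · rw [← neg_eq_zero, ← hJ.2, hc, hsubr, hsubr, e3, e4, Linear.sympForm_swap (J *ᵥ b i) x]; ring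
      have hc0 : c = 0 := by
        by_contra hne
        obtain ⟨y, hy⟩ := Linear.exists_sympForm_ne_zero hne
        apply hy
        -- `c` is orthogonal to the planes and to the rest
        set y' := y - (∑ i, f y (J *ᵥ b i) • b i - ∑ i, f y (b i) • (J *ᵥ b i)) with hy'
        have hy'b : ∀ i, f (b i) y' = 0 ∧ f (b i) (J *ᵥ y') = 0 := by
          intro i
          have e1 : f (b i) (∑ l, f y (J *ᵥ b l) • b l) = 0 := by
            rw [sympForm_sum_right]; exact Finset.sum_eq_zero fun l _ => by rw [Linear.sympForm_smul_right, hb1, mul_zero]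
          have e2 : f (b i) (∑ l, f y (b l) • (J *ᵥ b l)) = f y (b i) := by
            rw [sympForm_sum_right, Finset.sum_eq_single i]
            · rw [Linear.sympForm_smul_right, hb2, if_pos rfl, mul_one]
            · intro l _ hl; rw [Linear.sympForm_smul_right, hb2, if_neg (Ne.symm hl), mul_zero]
            · simp
          have e3 : f (J *ᵥ b i) (∑ l, f y (J *ᵥ b l) • b l) = - f y (J *ᵥ b i) := by
            rw [sympForm_sum_right, Finset.sum_eq_single i]
            · rw [Linear.sympForm_smul_right, hJ.2, hb2, if_pos rfl]; ring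
            · intro l _ hl; rw [Linear.sympForm_smul_right, hJ.2, hb2, if_neg (Ne.symm hl), neg_zero, mul_zero]
            · simp
          have e4 : f (J *ᵥ b i) (∑ l, f y (b l) • (J *ᵥ b l)) = 0 := by
            rw [sympForm_sum_right]
            exact Finset.sum_eq_zero fun l _ => by
              rw [Linear.sympForm_smul_right, hJ.2, hJ.sq, Linear.sympForm_smul_right, hb1, mul_zero, neg_zero, mul_zero]
          constructor
          · rw [hy', hsubr, hsubr, e1, e2, Linear.sympForm_swap (b i) y]; ring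
          · rw [← neg_eq_zero, ← hJ.2, hy', hsubr, hsubr, e3, e4, Linear.sympForm_swap (J *ᵥ b i) y]; ring
        have hJc : ∀ i, f (b i) (J *ᵥ c) = 0 ∧ f (b i) (J *ᵥ (J *ᵥ c)) = 0 := fun i => by
          rw [hJ.sq, Linear.sympForm_smul_right, (hcb i).1, mul_zero]; exact ⟨(hcb i).2, rfl⟩
        have hν0 : ν ≠ 0 := fun h => hν 0 (by rw [h, mul_zero])
        have h1 : f c y' = 0 := by
          have h2 := hiso y' (J *ᵥ c) hy'b hJc
          rw [hJ.sq, Linear.sympForm_smul_right] at h2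
          rw [Linear.sympForm_swap, (mul_eq_zero.mp h2).resolve_left hν0, neg_zero]
        rw [show y = y' + (∑ i, f y (J *ᵥ b i) • b i - ∑ i, f y (b i) • (J *ᵥ b i)) by rw [hy']; abel,
          Linear.sympForm_add_right, h1, hsubr, sympForm_sum_right, sympForm_sum_right,
          Finset.sum_eq_zero, Finset.sum_eq_zero, zero_add, sub_zero]
        · intro l _
          rw [Linear.sympForm_smul_right, Linear.sympForm_swap c, hJ.2, (hcb l).2, neg_zero, neg_zero, mul_zero]
        · intro l _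
          rw [Linear.sympForm_smul_right, Linear.sympForm_swap c, (hcb l).1, neg_zero, mul_zero]
      rw [hc, sub_eq_zero] at hc0
      rw [hc0]
      exact Submodule.sub_mem _
        (Submodule.sum_mem _ fun i _ => Submodule.smul_mem _ _ (Submodule.subset_span (Or.inl ⟨i, rfl⟩)))
        (Submodule.sum_mem _ fun i _ => Submodule.smul_mem _ _ (Submodule.subset_span (Or.inr ⟨i, rfl⟩)))
    have h := finrank_range_le_card (R := F) (Sum.elim b (fun i => J *ᵥ b i))
    rw [Set.Sum.elim_range, Set.finrank, hspan, finrank_top, Module.finrank_fintype_fun_eq_card] at h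
    simp only [Fintype.card_sum, Fintype.card_fin] at h
    omega
  -- rescale
  obtain ⟨α, β, hαβ⟩ := Linear.exists_norm_eq 0 ν (f w (J *ᵥ w))⁻¹ (fun c hc => hν c (by rw [hc]; ring))
  have hJw : J *ᵥ (α • w + β • (J *ᵥ w)) = α • (J *ᵥ w) + (β * ν) • w := by
    rw [Matrix.mulVec_add, Matrix.mulVec_smul, Matrix.mulVec_smul, hJ.sq, smul_smul]
  refine ⟨α • w + β • (J *ᵥ w), ?_, fun i => ?_⟩
  · rw [hJw]
    simp only [Linear.sympForm_add_left, Linear.sympForm_add_right, Linear.sympForm_smul_left,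
      Linear.sympForm_smul_right, Linear.sympForm_self]
    rw [Linear.sympForm_swap (J *ᵥ w) w]
    have hk := mul_inv_cancel₀ hw
    linear_combination (f w (J *ᵥ w)) * hαβ + hk
  · rw [hJw]
    simp only [Linear.sympForm_add_right, Linear.sympForm_smul_right, (hwb i).1, (hwb i).2]
    simp

/-- The standard form of a skew root. -/
def stdRoot (d : ℕ) (ν : F) : Matrix (Fin d ⊕ Fin d) (Fin d ⊕ Fin d) F :=
  Matrix.fromBlocks 0 (ν • 1) 1 0

/-- A basis in which the form and the skew root are standard. -/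
theorem exists_skew_model (hodd : (2 : F) ≠ 0) (hν : ∀ c : F, c * c ≠ ν) (hJ : IsSkewRoot ν J) :
    ∃ Q : GL (Fin d ⊕ Fin d) F, J * (Q : Matrix (Fin d ⊕ Fin d) (Fin d ⊕ Fin d) F) =
        (Q : Matrix (Fin d ⊕ Fin d) (Fin d ⊕ Fin d) F) * stdRoot d ν ∧
      ∀ u v, f ((Q : Matrix (Fin d ⊕ Fin d) (Fin d ⊕ Fin d) F) *ᵥ u) ((Q : Matrix (Fin d ⊕ Fin d) (Fin d ⊕ Fin d) F) *ᵥ v) =
        ∑ i, (u (Sum.inl i) * v (Sum.inr i) - u (Sum.inr i) * v (Sum.inl i)) := by
  classical
  obtain ⟨b, hb1, hb2⟩ : ∃ b : Fin d → V, (∀ i j, f (b i) (b j) = 0) ∧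
      ∀ i j, f (b i) (J *ᵥ b j) = if i = j then 1 else 0 := by
    suffices h : ∀ k, k ≤ d → ∃ b : Fin k → V, (∀ i j, f (b i) (b j) = 0) ∧
        ∀ i j, f (b i) (J *ᵥ b j) = if i = j then 1 else 0 from h d le_rfl
    intro k
    induction k with
    | zero => exact fun _ => ⟨Fin.elim0, fun i => i.elim0, fun i => i.elim0⟩
    | succ k ih =>
      intro hk
      obtain ⟨b, hb1, hb2⟩ := ih (by omega)
      obtain ⟨v, hv, hvb⟩ := exists_step hodd hν hJ (by omega) b hb1 hb2
      refine ⟨Fin.snoc b v, fun i j => ?_, fun i j => ?_⟩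
      · induction i using Fin.lastCases <;> induction j using Fin.lastCases
        · simp [Linear.sympForm_self]
        · next j => simp only [Fin.snoc_last, Fin.snoc_castSucc]; rw [Linear.sympForm_swap, (hvb j).1, neg_zero]
        · next i => simp only [Fin.snoc_last, Fin.snoc_castSucc]; exact (hvb i).1
        · next i j => simp only [Fin.snoc_castSucc]; exact hb1 i j
      · induction i using Fin.lastCases <;> induction j using Fin.lastCases
        · simp [hv]
        · next j =>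
            simp only [Fin.snoc_last, Fin.snoc_castSucc]
            rw [if_neg (Fin.castSucc_lt_last j).ne', Linear.sympForm_swap, hJ.2, (hvb j).2, neg_zero, neg_zero]
        · next i =>
            simp only [Fin.snoc_last, Fin.snoc_castSucc]
            rw [if_neg (Fin.castSucc_lt_last i).ne]; exact (hvb i).2
        · next i j => simp only [Fin.snoc_castSucc, Fin.castSucc_inj]; exact hb2 i j
  let Qm : Matrix (Fin d ⊕ Fin d) (Fin d ⊕ Fin d) F := Matrix.of fun a s => Sum.elim b (fun i => J *ᵥ b i) s a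
  have hmv : ∀ u : V, Qm *ᵥ u = ∑ i, u (Sum.inl i) • b i + ∑ i, u (Sum.inr i) • (J *ᵥ b i) := fun u => by
    funext a
    simp [Qm, Matrix.mulVec, dotProduct, Fintype.sum_sum_type, mul_comm]
  have hJJ : ∀ i j, f (J *ᵥ b i) (J *ᵥ b j) = 0 := fun i j => by
    rw [hJ.2, hJ.sq, Linear.sympForm_smul_right, hb1, mul_zero, neg_zero]
  have hJb : ∀ i j, f (J *ᵥ b i) (b j) = -(if i = j then 1 else 0) := fun i j => by rw [hJ.2, hb2]
  have hform : ∀ u v : V, f (Qm *ᵥ u) (Qm *ᵥ v) =
      ∑ i, (u (Sum.inl i) * v (Sum.inr i) - u (Sum.inr i) * v (Sum.inl i)) := by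
    intro u v
    rw [hmv, hmv]
    simp only [Linear.sympForm_add_left, Linear.sympForm_add_right, sympForm_sum_left, sympForm_sum_right,
      Linear.sympForm_smul_left, Linear.sympForm_smul_right, hb1, hb2, hJJ, hJb, mul_zero, Finset.sum_const_zero,
      add_zero, zero_add, mul_ite, mul_one, mul_neg, Finset.sum_ite_eq', Finset.mem_univ, if_true, Finset.sum_neg_distrib,
      Finset.sum_sub_distrib]
    simp [sub_eq_add_neg, add_comm, mul_comm]
  have hQ : Qm.det ≠ 0 := by
    intro h0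
    obtain ⟨u, hu, hu0⟩ := Matrix.exists_mulVec_eq_zero_iff.mpr h0
    refine hu (funext fun s => ?_)
    rcases s with i | i
    · have h := hform u (Pi.single (Sum.inr i) 1)
      rw [hu0, sympForm_zero_left] at h
      simpa [Pi.single_apply] using h.symm
    · have h := hform u (Pi.single (Sum.inl i) 1)
      rw [hu0, sympForm_zero_left] at h
      simpa [Pi.single_apply] using h.symm
  refine ⟨GeneralLinearGroup.mkOfDetNeZero Qm hQ, ?_, hform⟩
  show J * Qm = Qm * stdRoot d ν
  refine Matrix.ext_iff_mulVec.mpr fun u => ?_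
  rw [← Matrix.mulVec_mulVec, ← Matrix.mulVec_mulVec, hmv u, hmv, Matrix.mulVec_add, Matrix.mulVec_sum,
    Matrix.mulVec_sum, stdRoot, Matrix.fromBlocks_mulVec, add_comm]
  refine congrArg₂ (· + ·) (Finset.sum_congr rfl fun i _ => ?_) (Finset.sum_congr rfl fun i _ => ?_)
  · rw [Matrix.mulVec_smul, hJ.sq, smul_smul]
    simp [Matrix.smul_mulVec, mul_comm]
  · rw [Matrix.mulVec_smul]
    simp

theorem mem_spGL {g : GL (Fin d ⊕ Fin d) F} :
    g ∈ Cfsg.spGL d F ↔ ∀ u v, f ((g : Matrix (Fin d ⊕ Fin d) (Fin d ⊕ Fin d) F) *ᵥ u)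
      ((g : Matrix (Fin d ⊕ Fin d) (Fin d ⊕ Fin d) F) *ᵥ v) = f u v := Iff.rfl

/-- All skew roots of a given non-square are conjugate in `Sp`. -/
theorem exists_conj (hodd : (2 : F) ≠ 0) (hν : ∀ c : F, c * c ≠ ν) (hJ : IsSkewRoot ν J)
    {J' : Matrix (Fin d ⊕ Fin d) (Fin d ⊕ Fin d) F} (hJ' : IsSkewRoot ν J') :
    ∃ g ∈ Cfsg.spGL d F, (g : Matrix (Fin d ⊕ Fin d) (Fin d ⊕ Fin d) F) * J = J' * (g : Matrix (Fin d ⊕ Fin d) (Fin d ⊕ Fin d) F) := by
  obtain ⟨Q, hQ1, hQ2⟩ := exists_skew_model hodd hν hJ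
  obtain ⟨Q', hQ1', hQ2'⟩ := exists_skew_model hodd hν hJ'
  refine ⟨Q' * Q⁻¹, fun u v => ?_, ?_⟩
  · show f ((((Q' * Q⁻¹ : GL (Fin d ⊕ Fin d) F)) : Matrix (Fin d ⊕ Fin d) (Fin d ⊕ Fin d) F) *ᵥ u) _ = _
    simp only [Units.val_mul, ← Matrix.mulVec_mulVec, Cfsg.glToMat, Units.coeHom_apply]
    rw [hQ2', ← hQ2, Matrix.mulVec_mulVec, Matrix.mulVec_mulVec, Units.mul_inv, Matrix.one_mulVec, Matrix.one_mulVec]
  · rw [Units.val_mul, mul_assoc]
    have h : ((Q⁻¹ : GL (Fin d ⊕ Fin d) F) : Matrix (Fin d ⊕ Fin d) (Fin d ⊕ Fin d) F) * J =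
        stdRoot d ν * ((Q⁻¹ : GL (Fin d ⊕ Fin d) F) : Matrix (Fin d ⊕ Fin d) (Fin d ⊕ Fin d) F) := by
      calc _ = ((Q⁻¹ : GL (Fin d ⊕ Fin d) F) : Matrix (Fin d ⊕ Fin d) (Fin d ⊕ Fin d) F) *
            (J * (Q : Matrix (Fin d ⊕ Fin d) (Fin d ⊕ Fin d) F)) * ((Q⁻¹ : GL (Fin d ⊕ Fin d) F) : Matrix _ _ F) := by
            simp [mul_assoc]
        _ = _ := by rw [hQ1, ← mul_assoc, Units.inv_mul, one_mul]
    rw [h, ← mul_assoc, ← hQ1', mul_assoc]

end

end Cfsg.Agent.PrimeOrderElt
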