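import Cfsg.Agent.Lib.PrimeOrderElt.SkewSquare
import Cfsg.Agent.Lib.PrimeOrderElt.Semisimple
import Cfsg.Agent.Lib.Unitary.Count
import Cfsg.Agent.Lib.GLOrder.Symplectic
/-
Prime orders dividing the index of the centraliser of a skew root in `Sp`, and elements commuting with no skew root.
* `exists_pow_eq`   : `r` divides the index only if `q^i = -(-1)^i` modulo `r` for some `1 ≤ i ≤ d`
* `exists_odd`      : for odd order of `q`, an element of order `r` commuting with no skew root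
* `false_of_comm`   : an irreducible element with `y^(q^h + 1) = 1`, `h` even, commutes with no skew root
-/

set_option autoImplicit false
set_option linter.unusedSectionVars false

open Matrix Module Polynomial

namespace Cfsg.Agent.PrimeOrderElt

variable {F : Type*} [Field F] [Fintype F] {d : ℕ}

local notation "M₂" d => Matrix (Fin d ⊕ Fin d) (Fin d ⊕ Fin d)

theorem two_ne_zero_of_odd_card (hodd : Odd (Fintype.card F)) : (2 : F) ≠ 0 :=
  Ring.two_ne_zero fun h => Nat.not_even_iff_odd.mpr hodd (Nat.even_iff.mpr (FiniteField.even_card_of_char_two h))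

theorem exists_half (hodd : Odd (Fintype.card F)) {ν : F} (hν : ∀ c : F, c * c ≠ ν) (h : ℕ) :
    ∃ s, Fintype.card F ^ h = 2 * s + 1 ∧ ν ^ s = (-1) ^ h := by
  have hc : ringChar F ≠ 2 := fun h2 => Nat.not_even_iff_odd.mpr hodd (Nat.even_iff.mpr (FiniteField.even_card_of_char_two h2))
  have hν0 : ν ≠ 0 := fun h0 => hν 0 (by rw [h0, mul_zero])
  obtain ⟨m, hm⟩ := hodd
  have h1 : ν ^ m = -1 := by
    have h := FiniteField.pow_dichotomy hc hν0
    rw [show Fintype.card F / 2 = m by omega] at h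
    refine h.resolve_left fun h1 => ?_
    obtain ⟨c, hc'⟩ := (FiniteField.isSquare_iff hc hν0).mpr (by rw [show Fintype.card F / 2 = m by omega, h1])
    exact hν c hc'.symm
  induction h with
  | zero => exact ⟨0, rfl, by simp⟩
  | succ h ih =>
    obtain ⟨s, hs, hs'⟩ := ih
    refine ⟨Fintype.card F * s + m, ?_, ?_⟩
    · rw [pow_succ, hs, hm]; ring
    · have hoddq : Odd (Fintype.card F) := ⟨m, hm⟩
      rw [pow_add, mul_comm (Fintype.card F) s, pow_mul, hs', h1, ← pow_mul, pow_succ, mul_comm h, pow_mul,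
        hoddq.neg_one_pow]

section GU

variable (d) (E : Type*) [Field E] [Algebra F E] (θ : E)

/-- Coordinates over the quadratic extension. -/
def toExt : (Fin d ⊕ Fin d → F) →ₗ[F] (Fin d → E) where
  toFun v k := algebraMap F E (v (Sum.inl k)) + θ * algebraMap F E (v (Sum.inr k))
  map_add' u v := funext fun k => by simp [mul_add]; ring
  map_smul' c v := funext fun k => by simp [Algebra.smul_def]; ring

variable {d E θ}

theorem toExt_injective {ν : F} (hν : ∀ c : F, c * c ≠ ν) (hθ : θ * θ = algebraMap F E ν) :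
    Function.Injective (toExt (F := F) d E θ) := by
  refine (injective_iff_map_eq_zero _).mpr fun v hv => ?_
  have hr : ∀ k, v (Sum.inr k) = 0 := fun k => by
    by_contra h
    have h0 : algebraMap F E (v (Sum.inl k)) + θ * algebraMap F E (v (Sum.inr k)) = 0 := congrFun hv k
    have h1 : θ = algebraMap F E (-(v (Sum.inl k)) / v (Sum.inr k)) := by
      rw [map_div₀, map_neg, eq_div_iff ((_root_.map_ne_zero _).mpr h)]
      linear_combination h0
    rw [h1, ← map_mul] at hθ
    exact hν _ ((algebraMap F E).injective hθ)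
  funext s
  rcases s with k | k
  · have h0 : algebraMap F E (v (Sum.inl k)) + θ * algebraMap F E (v (Sum.inr k)) = 0 := congrFun hv k
    rw [hr k, map_zero, mul_zero, add_zero, map_eq_zero] at h0
    exact h0
  · exact hr k

end GU

/-- `r` divides the index of the centraliser of a skew root in `Sp` only for special orders of `q`. -/
theorem exists_pow_eq {p : ℕ} [Fact p.Prime] [CharP F p] (hodd : Odd (Fintype.card F)) {ν : F}
    (hν : ∀ c : F, c * c ≠ ν) {J : Matrix (Fin d ⊕ Fin d) (Fin d ⊕ Fin d) F} (hJ : IsSkewRoot ν J)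
    {N : Subgroup (GL (Fin d ⊕ Fin d) F)}
    (hN : ∀ g : GL (Fin d ⊕ Fin d) F, (g : Matrix (Fin d ⊕ Fin d) (Fin d ⊕ Fin d) F) * J = J * g → g ∈ N)
    {r : ℕ} [Fact r.Prime] (hrp : r ≠ p) (hdvd : r ∣ N.relIndex (Cfsg.spGL d F)) :
    ∃ i, 1 ≤ i ∧ i ≤ d ∧ (Fintype.card F : ZMod r) ^ i = -(-1) ^ i := by
  classical
  set q := Fintype.card F with hq
  have h2 := two_ne_zero_of_odd_card hodd
  obtain ⟨Q, hQ1, hQ2⟩ := exists_skew_model h2 hν hJ
  let E := FiniteField.Extension F p 2
  letI : Fintype E := Fintype.ofFinite E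
  have hE : Fintype.card E = q ^ 2 := by
    rw [← Nat.card_eq_fintype_card, hq, ← Nat.card_eq_fintype_card]; exact FiniteField.natCard_extension F p 2
  have hν0 : ν ≠ 0 := fun h0 => hν 0 (by rw [h0, mul_zero])
  obtain ⟨m, hm⟩ := hodd
  obtain ⟨s₁, hs₁, hs₁'⟩ := exists_half ⟨m, hm⟩ hν 1
  obtain ⟨s₂, hs₂, hs₂'⟩ := exists_half ⟨m, hm⟩ hν 2
  have hcE : ringChar E ≠ 2 := fun h => by
    have := FiniteField.even_card_of_char_two h
    rw [hE, Nat.pow_mod, show q % 2 = 1 by omega] at this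
    simp at this
  obtain ⟨θ, hθ'⟩ : IsSquare (algebraMap F E ν) := by
    have hs₂q : q ^ 2 = 2 * s₂ + 1 := hs₂
    rw [FiniteField.isSquare_iff hcE ((_root_.map_ne_zero _).mpr hν0), hE, ← map_pow,
      show q ^ 2 / 2 = s₂ by omega, hs₂']
    simp
  have hθ : θ * θ = algebraMap F E ν := hθ'.symm
  have hθq : θ ^ q = -θ := by
    rw [show q = 2 * s₁ + 1 by rw [← hs₁, pow_one], pow_succ, pow_mul, pow_two, hθ, ← map_pow, hs₁']
    simp [neg_one_mul]
  have hθ0 : θ ≠ 0 := fun h => by rw [h, zero_mul] at hθ; exact hν0 ((map_eq_zero _).mp hθ.symm)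
  have hbij : Function.Bijective (toExt (F := F) d E θ) := by
    refine (Fintype.bijective_iff_injective_and_card _).mpr ⟨toExt_injective hν hθ, ?_⟩
    simp only [Fintype.card_fun, Fintype.card_sum, Fintype.card_fin, hE, ← pow_mul, two_mul, hq]
  let Φ := LinearEquiv.ofBijective (toExt (F := F) d E θ) hbij
  let ψ : Matrix (Fin d) (Fin d) E →* Matrix (Fin d ⊕ Fin d) (Fin d ⊕ Fin d) F :=
    { toFun := fun M => LinearMap.toMatrix'
        (Φ.symm.toLinearMap ∘ₗ (Matrix.toLin' M).restrictScalars F ∘ₗ Φ.toLinearMap)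
      map_one' := Matrix.ext_iff_mulVec.mpr fun v => by
        rw [LinearMap.toMatrix'_mulVec]; simp
      map_mul' := fun A B => by
        rw [← LinearMap.toMatrix'_comp]
        congr 1
        exact LinearMap.ext fun v => by simp }
  have hψ : ∀ M v, Φ (ψ M *ᵥ v) = M *ᵥ Φ v := fun M v => by
    show Φ (LinearMap.toMatrix' _ *ᵥ v) = _
    rw [LinearMap.toMatrix'_mulVec]
    simp
  let σ := FiniteField.frobeniusAlgHom F E
  have hσ : ∀ x : E, σ x = x ^ q := fun x => rfl
  have hherm : ∀ u v : Fin d ⊕ Fin d → F, Cfsg.hermForm d E q (Φ u) (Φ v) - Cfsg.hermForm d E q (Φ v) (Φ u) =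
      -(2 * θ) * algebraMap F E (∑ i, (u (Sum.inl i) * v (Sum.inr i) - u (Sum.inr i) * v (Sum.inl i))) := by
    intro u v
    have hpow : ∀ (w : Fin d ⊕ Fin d → F) k, (Φ w k) ^ q =
        algebraMap F E (w (Sum.inl k)) - θ * algebraMap F E (w (Sum.inr k)) := fun w k => by
      show (algebraMap F E (w (Sum.inl k)) + θ * algebraMap F E (w (Sum.inr k))) ^ q = _
      rw [← hσ, map_add, map_mul, AlgHom.commutes, AlgHom.commutes, hσ, hθq]; ring
    simp only [Cfsg.hermForm, map_sum, map_sub, map_mul, Finset.mul_sum, hpow]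
    rw [← Finset.sum_sub_distrib]
    refine Finset.sum_congr rfl fun k _ => ?_
    show (algebraMap F E (u (Sum.inl k)) + θ * algebraMap F E (u (Sum.inr k))) * _ -
      (algebraMap F E (v (Sum.inl k)) + θ * algebraMap F E (v (Sum.inr k))) * _ = _
    ring
  have hstd : ∀ v, Φ (stdRoot d ν *ᵥ v) = θ • Φ v := fun v => by
    funext k
    show algebraMap F E _ + θ * algebraMap F E _ = θ * (algebraMap F E _ + θ * algebraMap F E _)
    rw [stdRoot, Matrix.fromBlocks_mulVec]
    simp only [Matrix.zero_mulVec, Matrix.one_mulVec, Matrix.smul_mulVec, Sum.elim_inl, Sum.elim_inr,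
      zero_add, add_zero, Function.comp_apply, Pi.smul_apply, smul_eq_mul, map_mul, ← hθ]
    ring
  let ι : Cfsg.GU d E q →* GL (Fin d ⊕ Fin d) F :=
    (MulAut.conj Q).toMonoidHom.comp ((Units.map ψ).comp (Cfsg.GU d E q).subtype)
  have hι : ∀ (g : Cfsg.GU d E q) (v : Fin d ⊕ Fin d → F),
      (ι g : Matrix (Fin d ⊕ Fin d) (Fin d ⊕ Fin d) F) *ᵥ ((Q : Matrix (Fin d ⊕ Fin d) (Fin d ⊕ Fin d) F) *ᵥ v) =
      (Q : Matrix (Fin d ⊕ Fin d) (Fin d ⊕ Fin d) F) *ᵥ (ψ (g.1 : Matrix (Fin d) (Fin d) E) *ᵥ v) := fun g v => by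
    show (((Q * Units.map ψ g.1 * Q⁻¹ : GL (Fin d ⊕ Fin d) F)) : Matrix (Fin d ⊕ Fin d) (Fin d ⊕ Fin d) F) *ᵥ _ = _
    simp only [Units.val_mul, ← Matrix.mulVec_mulVec, Units.coe_map]
    rw [Matrix.mulVec_mulVec v ((Q⁻¹ : GL (Fin d ⊕ Fin d) F) : Matrix (Fin d ⊕ Fin d) (Fin d ⊕ Fin d) F), Units.inv_mul,
      Matrix.one_mulVec]
  have hsurjQ : Function.Surjective fun v => (Q : Matrix (Fin d ⊕ Fin d) (Fin d ⊕ Fin d) F) *ᵥ v := fun v =>
    ⟨((Q⁻¹ : GL (Fin d ⊕ Fin d) F) : Matrix (Fin d ⊕ Fin d) (Fin d ⊕ Fin d) F) *ᵥ v, by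
      show _ *ᵥ (_ *ᵥ v) = v
      rw [Matrix.mulVec_mulVec, Units.mul_inv, Matrix.one_mulVec]⟩
  have hsp : ∀ g, ι g ∈ Cfsg.spGL d F := by
    intro g
    refine mem_spGL.mpr fun u v => ?_
    obtain ⟨a, rfl⟩ := hsurjQ u
    obtain ⟨b, rfl⟩ := hsurjQ v
    simp only [hι]
    rw [hQ2, hQ2]
    have h := hherm (ψ (g.1 : Matrix (Fin d) (Fin d) E) *ᵥ a) (ψ (g.1 : Matrix (Fin d) (Fin d) E) *ᵥ b)
    rw [hψ, hψ] at h
    have hg : ∀ x y, Cfsg.hermForm d E q ((g.1 : Matrix (Fin d) (Fin d) E) *ᵥ x)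
        ((g.1 : Matrix (Fin d) (Fin d) E) *ᵥ y) = Cfsg.hermForm d E q x y := g.2
    rw [hg, hg, hherm a b] at h
    have h2θ : -(2 * θ) ≠ 0 := neg_ne_zero.mpr (mul_ne_zero (Ring.two_ne_zero hcE) hθ0)
    exact (algebraMap F E).injective (mul_left_cancel₀ h2θ h).symm
  have hNmem : ∀ g, ι g ∈ N := fun g => by
    refine hN _ (Matrix.ext_iff_mulVec.mpr fun u => ?_)
    obtain ⟨a, rfl⟩ := hsurjQ u
    simp only [← Matrix.mulVec_mulVec]
    rw [hι, Matrix.mulVec_mulVec a J, hQ1, ← Matrix.mulVec_mulVec, hι, Matrix.mulVec_mulVec _ J, hQ1,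
      ← Matrix.mulVec_mulVec]
    congr 1
    apply Φ.injective
    rw [hψ, hstd, hstd, hψ, Matrix.mulVec_smul]
  have hinj : Function.Injective ι := by
    refine (MulAut.conj Q).injective.comp ((Units.map_injective ?_).comp Subtype.val_injective)
    intro A B hAB
    refine Matrix.ext_iff_mulVec.mpr fun w => ?_
    obtain ⟨v, rfl⟩ := Φ.surjective w
    rw [← hψ, hAB, hψ]
  let ι' : Cfsg.GU d E q →* N.subgroupOf (Cfsg.spGL d F) :=
    (ι.codRestrict (Cfsg.spGL d F) hsp).codRestrict (N.subgroupOf (Cfsg.spGL d F)) fun g => hNmem g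
  have hcard : Nat.card (Cfsg.GU d E q) ∣ Nat.card (N.subgroupOf (Cfsg.spGL d F)) :=
    Subgroup.card_dvd_of_injective ι' fun a b h =>
      hinj (congrArg (fun x : N.subgroupOf (Cfsg.spGL d F) => x.1.1) h)
  have hmain : r * Nat.card (Cfsg.GU d E q) ∣ Nat.card (Cfsg.spGL d F) := by
    rw [← (N.subgroupOf (Cfsg.spGL d F)).card_mul_index, mul_comm r]
    exact mul_dvd_mul hcard hdvd
  rw [← Nat.card_congr (Linear.spEquiv d F).toEquiv, GLOrder.card_Sp, Nat.card_eq_fintype_card (α := F), ← hq,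
    Unitary.card_GU hE] at hmain
  have hrq : ¬ r ∣ q := by
    obtain ⟨e, hp, he⟩ := FiniteField.card F p
    rw [hq, he]
    intro h
    exact hrp ((Nat.prime_dvd_prime_iff_eq Fact.out hp).1 ((Fact.out : r.Prime).dvd_of_dvd_pow h))
  have hq1 : 1 < q := Fintype.one_lt_card
  set G : ℕ → ℕ := fun i => if Even i then q ^ (i + 1) + 1 else q ^ (i + 1) - 1 with hG
  set H : ℕ → ℕ := fun i => if Even i then q ^ (i + 1) - 1 else q ^ (i + 1) + 1 with hH
  have hGH : ∀ i, q ^ (2 * (i + 1)) - 1 = G i * H i := fun i => by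
    have h1 : 1 ≤ q ^ (i + 1) := Nat.one_le_pow _ _ (by omega)
    rw [mul_comm 2, pow_mul, show (q ^ (i + 1)) ^ 2 - 1 = (q ^ (i + 1)) ^ 2 - 1 ^ 2 by rw [one_pow], Nat.sq_sub_sq]
    simp only [hG, hH]
    split_ifs
    · rfl
    · exact mul_comm _ _
  rw [Finset.prod_congr rfl (fun i _ => hGH i), Finset.prod_mul_distrib] at hmain
  have hGpos : 0 < ∏ i ∈ Finset.range d, G i := Finset.prod_pos fun i _ => by
    have : 1 < q ^ (i + 1) := Nat.one_lt_pow (Nat.succ_ne_zero i) hq1
    simp only [hG]; split_ifs <;> omega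
  have hr' : r ∣ q ^ d ^ 2 * ∏ i ∈ Finset.range d, H i := by
    refine dvd_trans (dvd_mul_right r (q ^ (d * (d - 1) / 2))) (Nat.dvd_of_mul_dvd_mul_right hGpos ?_)
    convert hmain using 1 <;> ring
  obtain ⟨i, hi, hri⟩ := (Nat.prime_iff.mp (Fact.out : r.Prime)).exists_mem_finset_dvd
    (((Fact.out : r.Prime).dvd_mul.mp hr').resolve_left fun h => hrq ((Fact.out : r.Prime).dvd_of_dvd_pow h))
  refine ⟨i + 1, by omega, Finset.mem_range.mp hi, ?_⟩
  have h1 : 1 ≤ q ^ (i + 1) := Nat.one_le_pow _ _ (by omega)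
  have hz := (ZMod.natCast_eq_zero_iff _ r).mpr hri
  by_cases he : Even i
  · simp only [hH, if_pos he, Nat.cast_sub h1, Nat.cast_pow, Nat.cast_one] at hz
    rw [sub_eq_zero.mp hz, he.add_one.neg_one_pow, neg_neg]
  · simp only [hH, if_neg he, Nat.cast_add, Nat.cast_pow, Nat.cast_one] at hz
    rw [eq_neg_of_add_eq_zero_left hz, (Nat.even_add_one.mpr he).neg_one_pow]

/-- An irreducible element with `y^(q^h + 1) = 1` and `h` even commutes with no skew root. -/
theorem false_of_comm (hodd : Odd (Fintype.card F)) {ν : F} (hν : ∀ c : F, c * c ≠ ν) {h : ℕ} (hh : 0 < h) (he : Even h)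
    {y M : Matrix (Fin h ⊕ Fin h) (Fin h ⊕ Fin h) F}
    (hy : ∀ u v, Cfsg.sympForm h F (y *ᵥ u) (y *ᵥ v) = Cfsg.sympForm h F u v)
    (hyQ : y ^ (Fintype.card F ^ h + 1) = 1)
    (hirr : ∀ T : Submodule F (Fin h ⊕ Fin h → F), (∀ v ∈ T, y *ᵥ v ∈ T) → T = ⊥ ∨ T = ⊤)
    (hM : IsSkewRoot ν M) (hcomm : M * y = y * M) : False := by
  classical
  have hν0 : ν ≠ 0 := fun h0 => hν 0 (by rw [h0, mul_zero])
  let e : Fin h ⊕ Fin h → F := Pi.single (Sum.inl ⟨0, hh⟩) 1
  have he0 : e ≠ 0 := by simp [e]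
  let T : Submodule F (Fin h ⊕ Fin h → F) :=
    { carrier := {v | ∃ P : F[X], (Polynomial.aeval y P) *ᵥ e = v}
      zero_mem' := ⟨0, by simp⟩
      add_mem' := by
        rintro _ _ ⟨P, rfl⟩ ⟨R, rfl⟩
        exact ⟨P + R, by rw [map_add, Matrix.add_mulVec]⟩
      smul_mem' := by
        rintro c _ ⟨P, rfl⟩
        exact ⟨c • P, by rw [map_smul, Matrix.smul_mulVec]⟩ }
  have hT : T = ⊤ := (hirr T (by
    rintro _ ⟨P, rfl⟩
    exact ⟨X * P, by rw [map_mul, Polynomial.aeval_X, ← Matrix.mulVec_mulVec]⟩)).resolve_left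
    fun hb => he0 ((Submodule.eq_bot_iff T).mp hb e ⟨1, by simp⟩)
  obtain ⟨P, hP⟩ : M *ᵥ e ∈ T := hT ▸ Submodule.mem_top
  have hcp : ∀ R : F[X], Commute M (Polynomial.aeval y R) := fun R => by
    induction R using Polynomial.induction_on' with
    | add a b ha hb => rw [map_add]; exact ha.add_right hb
    | monomial n a =>
      rw [Polynomial.aeval_monomial, ← Algebra.smul_def]
      exact (Commute.pow_right hcomm n).smul_right a
  have hMP : M = Polynomial.aeval y P := Matrix.ext_iff_mulVec.mpr fun v => by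
    obtain ⟨R, rfl⟩ : v ∈ T := hT ▸ Submodule.mem_top
    rw [Matrix.mulVec_mulVec, (hcp R).eq, ← Matrix.mulVec_mulVec, ← hP, Matrix.mulVec_mulVec, Matrix.mulVec_mulVec,
      ← map_mul, ← map_mul, mul_comm]
  -- the adjoint
  set Q := Fintype.card F ^ h with hQ
  have hadj : ∀ (n : ℕ) u v, Cfsg.sympForm h F ((y ^ n) *ᵥ u) v = Cfsg.sympForm h F u ((y ^ (Q * n)) *ᵥ v) := by
    have h1 : ∀ u v, Cfsg.sympForm h F (y *ᵥ u) v = Cfsg.sympForm h F u ((y ^ Q) *ᵥ v) := fun u v => by
      conv_rhs => rw [← hy, Matrix.mulVec_mulVec, ← pow_succ', hyQ, Matrix.one_mulVec]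
    intro n
    induction n with
    | zero => simp
    | succ n ih =>
      intro u v
      rw [pow_succ, ← Matrix.mulVec_mulVec, ih, h1, Matrix.mulVec_mulVec, ← pow_add, Nat.mul_succ, add_comm Q]
  have hadjP : ∀ R : F[X], ∀ u v, Cfsg.sympForm h F (Polynomial.aeval y R *ᵥ u) v =
      Cfsg.sympForm h F u (Polynomial.aeval y (Polynomial.expand F Q R) *ᵥ v) := fun R => by
    induction R using Polynomial.induction_on' with
    | add a b ha hb =>
      intro u v
      simp only [map_add, Matrix.add_mulVec, Linear.sympForm_add_left, Linear.sympForm_add_right, ha, hb]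
    | monomial n a =>
      intro u v
      rw [Polynomial.expand_monomial, Polynomial.aeval_monomial, Polynomial.aeval_monomial, ← Algebra.smul_def,
        ← Algebra.smul_def, Matrix.smul_mulVec, Matrix.smul_mulVec, Linear.sympForm_smul_left,
        Linear.sympForm_smul_right, hadj, mul_comm n]
  have hexp : ∀ k : ℕ, Polynomial.expand F (Fintype.card F ^ k) P = P ^ (Fintype.card F ^ k) := fun k => by
    induction k with
    | zero => simp
    | succ k ih =>
      rw [pow_succ', ← Polynomial.expand_expand, ih, map_pow, FiniteField.expand_card, ← pow_mul]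
  have hMQ : M ^ Q = M := by
    obtain ⟨s, hs, hs'⟩ := exists_half hodd hν h
    rw [he.neg_one_pow] at hs'
    rw [hQ, hs, pow_succ, pow_mul, pow_two, hM.1, _root_.smul_pow, one_pow, hs', one_smul, one_mul]
  have h2 := two_ne_zero_of_odd_card hodd
  have hMe : M *ᵥ e ≠ 0 := fun h0 => by
    have := hM.sq e
    rw [h0, Matrix.mulVec_zero] at this
    exact he0 ((smul_eq_zero.mp this.symm).resolve_left hν0)
  obtain ⟨w, hw⟩ := Linear.exists_sympForm_ne_zero hMe
  apply hw
  have h3 : Cfsg.sympForm h F (M *ᵥ e) w = Cfsg.sympForm h F e (M *ᵥ w) := by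
    conv_lhs => rw [hMP, hadjP, hQ, hexp, map_pow, ← hMP, hMQ]
  have h4 := hM.2 e w
  have h5 : (2 : F) * Cfsg.sympForm h F (M *ᵥ e) w = 0 := by linear_combination h3 + h4
  exact (mul_eq_zero.mp h5).resolve_left h2

theorem aeval_fromBlocks (A B : Matrix (Fin d) (Fin d) F) (P : F[X]) :
    Polynomial.aeval (Matrix.fromBlocks A 0 0 B) P =
      Matrix.fromBlocks (Polynomial.aeval A P) 0 0 (Polynomial.aeval B P) := by
  induction P using Polynomial.induction_on' with
  | add a b ha hb => rw [map_add, map_add, map_add, ha, hb, Matrix.fromBlocks_add, add_zero]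
  | monomial n a =>
    rw [Polynomial.aeval_monomial, Polynomial.aeval_monomial, Polynomial.aeval_monomial, ← Algebra.smul_def,
      ← Algebra.smul_def, ← Algebra.smul_def, Matrix.fromBlocks_diagonal_pow, Matrix.fromBlocks_smul, smul_zero]

theorem aeval_transpose (C : Matrix (Fin d) (Fin d) F) (P : F[X]) :
    Polynomial.aeval Cᵀ P = (Polynomial.aeval C P)ᵀ := by
  induction P using Polynomial.induction_on' with
  | add a b ha hb => rw [map_add, map_add, ha, hb, Matrix.transpose_add]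
  | monomial n a =>
    rw [Polynomial.aeval_monomial, Polynomial.aeval_monomial, ← Algebra.smul_def, ← Algebra.smul_def,
      Matrix.transpose_smul, Matrix.transpose_pow]

/-- For odd order of `q` modulo `r` some element of order `r` commutes with no skew root. -/
theorem exists_odd {p : ℕ} [Fact p.Prime] [CharP F p] {ν : F} (hν : ∀ c : F, c * c ≠ ν) {r : ℕ} [Fact r.Prime]
    (hr2 : r ≠ 2) (hrF : (r : F) ≠ 0) (ho : Odd (orderOf (Fintype.card F : ZMod r)))
    (hd : orderOf (Fintype.card F : ZMod r) ≤ d) :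
    ∃ x ∈ Cfsg.spGL d F, x ^ r = 1 ∧
      (∀ z : F, (x : Matrix (Fin d ⊕ Fin d) (Fin d ⊕ Fin d) F) ≠ z • (1 : Matrix (Fin d ⊕ Fin d) (Fin d ⊕ Fin d) F)) ∧
      ∀ J : Matrix (Fin d ⊕ Fin d) (Fin d ⊕ Fin d) F, IsSkewRoot ν J →
        (x : Matrix (Fin d ⊕ Fin d) (Fin d ⊕ Fin d) F) * J ≠ J * x := by
  classical
  set o := orderOf (Fintype.card F : ZMod r) with hodef
  have : NeZero o := ⟨by obtain ⟨m, hm⟩ := ho; omega⟩
  let E := FiniteField.Extension F p o
  letI : Fintype E := Fintype.ofFinite E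
  have hE : Fintype.card E = Fintype.card F ^ o := by
    rw [← Nat.card_eq_fintype_card, ← Nat.card_eq_fintype_card]; exact FiniteField.natCard_extension F p o
  obtain ⟨u, hu⟩ := exists_prime_orderOf_dvd_card (G := Eˣ) r
    (by rw [Fintype.card_units, hE]; exact (dvd_pow_sub_one_iff o).mpr dvd_rfl)
  have hu1 : (u : E) ≠ 1 := by
    intro h
    rw [Units.val_eq_one] at h
    rw [h, orderOf_one] at hu
    exact (Fact.out : r.Prime).ne_one hu.symm
  have hur : (u : E) ^ r = 1 := by rw [← Units.val_pow_eq_pow_val, ← hu, pow_orderOf_eq_one, Units.val_one]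
  set P := minpoly F (u : E) with hPdef
  have hint : IsIntegral F (u : E) := Algebra.IsIntegral.isIntegral _
  have hP1 : P.eval 1 ≠ 0 := fun h => by
    have h2 : algebraMap F E (1 : F) = (u : E) := minpoly.root hint h
    rw [map_one] at h2
    exact hu1 h2.symm
  have hr1 : r - 1 + 1 = r := Nat.sub_add_cancel (Fact.out : r.Prime).one_le
  have hPinv : Polynomial.aeval ((u : E) ^ (r - 1)) P ≠ 0 := by
    intro h
    obtain ⟨φ, hφ⟩ := minpoly.exists_algEquiv_of_root' (K := F) (L := E) (Algebra.IsAlgebraic.isAlgebraic _) h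
    obtain ⟨s, hs⟩ := FiniteField.exists_forall_apply_eq_pow F p E φ
    rw [hs] at hφ
    have h1 : (u : E) ^ (Fintype.card F ^ (s : ℕ) + 1) = 1 := by
      rw [pow_succ, ← Nat.card_eq_fintype_card, hφ, ← pow_succ, hr1, hur]
    have h2 : r ∣ Fintype.card F ^ (s : ℕ) + 1 := by
      rw [← hu, ← orderOf_units]; exact orderOf_dvd_of_pow_eq_one h1
    have h3 : (Fintype.card F : ZMod r) ^ (s : ℕ) = -1 := by
      rw [eq_neg_iff_add_eq_zero, ← Nat.cast_pow, ← Nat.cast_one (R := ZMod r), ← Nat.cast_add]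
      exact (ZMod.natCast_eq_zero_iff _ _).2 h2
    have h4 : ((Fintype.card F : ZMod r) ^ (s : ℕ)) ^ o = (-1) ^ o := by rw [h3]
    rw [← pow_mul, mul_comm, pow_mul, hodef, pow_orderOf_eq_one, one_pow, ← hodef, ho.neg_one_pow] at h4
    haveI : Fact (2 < r) := ⟨lt_of_le_of_ne (Fact.out : r.Prime).two_le (Ne.symm hr2)⟩
    exact ZMod.neg_one_ne_one h4.symm
  -- the linear map
  have hfrE : finrank F E = o := FiniteField.finrank_extension F p o
  let L : (E × (Fin (d - o) → F)) ≃ₗ[F] (Fin d → F) := LinearEquiv.ofFinrankEq _ _ (by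
    rw [Module.finrank_prod, Module.finrank_pi, Module.finrank_pi, hfrE, Fintype.card_fin, Fintype.card_fin]
    omega)
  let ρ : E × F →ₐ[F] Module.End F (Fin d → F) :=
    (L.conjAlgEquiv F).toAlgHom.comp ((LinearMap.prodMapAlgHom F E (Fin (d - o) → F)).comp
      (((Algebra.lmul F E).comp (AlgHom.fst F E F)).prod ((Algebra.ofId F _).comp (AlgHom.snd F E F))))
  have hρ : ∀ (c : E × F) (v : E × (Fin (d - o) → F)), ρ c (L v) = L (c.1 * v.1, c.2 • v.2) := fun c v => by
    show L.conjAlgEquiv F _ (L v) = _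
    rw [LinearEquiv.conjAlgEquiv_apply]
    simp [Algebra.algebraMap_eq_smul_one]
  let τ : E × F →ₐ[F] Matrix (Fin d) (Fin d) F := LinearMap.toMatrixAlgEquiv'.toAlgHom.comp ρ
  have hτ : ∀ (c : E × F) (v : E × (Fin (d - o) → F)), τ c *ᵥ L v = L (c.1 * v.1, c.2 • v.2) := fun c v => by
    rw [← hρ]
    exact LinearMap.toMatrix'_mulVec (ρ c) (L v)
  have haev : ∀ c : E, Polynomial.aeval ((c, (1 : F)) : E × F) P = (Polynomial.aeval c P, P.eval 1) := fun c =>
    Prod.ext ((Polynomial.aeval_algHom_apply (AlgHom.fst F E F) (c, (1 : F)) P).symm) (by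
      refine ((Polynomial.aeval_algHom_apply (AlgHom.snd F E F) (c, (1 : F)) P).symm).trans ?_
      simp [Polynomial.aeval_def])
  set A := τ ((u : E), 1) with hA
  have hAr : A ^ r = 1 := by rw [hA, ← map_pow, Prod.pow_mk, hur, one_pow]; exact map_one τ
  have hAC : A ^ (r - 1) * A = 1 := by rw [← pow_succ, hr1, hAr]
  set x₀ := Matrix.fromBlocks A 0 0 (A ^ (r - 1))ᵀ with hx₀
  have hx0 : x₀ ∈ Matrix.symplecticGroup (Fin d) F := by
    rw [Linear.mem_symplecticGroup_iff]
    intro a b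
    have key : ∀ v w : Fin d → F, (A *ᵥ v) ⬝ᵥ ((A ^ (r - 1))ᵀ *ᵥ w) = v ⬝ᵥ w := fun v w => by
      rw [Matrix.dotProduct_mulVec, Matrix.vecMul_transpose, Matrix.mulVec_mulVec, hAC, Matrix.one_mulVec]
    have hsum : ∀ a b : Fin d ⊕ Fin d → F, Cfsg.sympForm d F a b =
        (fun i => a (Sum.inr i)) ⬝ᵥ (fun i => b (Sum.inl i)) - (fun i => a (Sum.inl i)) ⬝ᵥ (fun i => b (Sum.inr i)) :=
      fun a b => by rw [Linear.sympForm_eq_sum]; simp [dotProduct, Finset.sum_sub_distrib]
    rw [hsum, hsum, hx₀, Matrix.fromBlocks_mulVec, Matrix.fromBlocks_mulVec]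
    simp only [Matrix.zero_mulVec, add_zero, zero_add, Sum.elim_inl, Sum.elim_inr]
    rw [dotProduct_comm _ (A *ᵥ (b ∘ Sum.inl)), key, key, dotProduct_comm]
    rfl
  set x := Linear.spEquiv d F ⟨x₀, hx0⟩ with hx
  have hxv : (x.1 : Matrix (Fin d ⊕ Fin d) (Fin d ⊕ Fin d) F) = x₀ := rfl
  refine ⟨x.1, x.2, ?_, ?_, ?_⟩
  · apply Units.ext
    rw [Units.val_pow_eq_pow_val, hxv, hx₀, Matrix.fromBlocks_diagonal_pow, hAr, ← Matrix.transpose_pow, ← pow_mul,
      mul_comm, pow_mul, hAr, one_pow, Matrix.transpose_one, Matrix.fromBlocks_one, Units.val_one]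
  · intro z hz
    rw [hxv, hx₀, ← Matrix.fromBlocks_one, Matrix.fromBlocks_smul, Matrix.fromBlocks_inj] at hz
    obtain ⟨hz1, -, -, hz2⟩ := hz
    rw [hz1, _root_.smul_pow, one_pow, Matrix.transpose_smul, Matrix.transpose_one] at hz2
    haveI : Nonempty (Fin d) := ⟨⟨0, by have := NeZero.pos o; omega⟩⟩
    have hz2' : z ^ (r - 1) = z := smul_left_injective F (one_ne_zero (α := Matrix (Fin d) (Fin d) F)) hz2
    have hzr : z ^ r = 1 := by
      rw [hz1, _root_.smul_pow, one_pow] at hAr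
      exact smul_left_injective F (one_ne_zero (α := Matrix (Fin d) (Fin d) F)) (hAr.trans (one_smul _ _).symm)
    have hzz : z * z = 1 := by nth_rw 1 [← hz2']; rw [← pow_succ, hr1, hzr]
    have hz0 : z = 1 := by
      obtain ⟨m, hm⟩ := (Fact.out : r.Prime).odd_of_ne_two hr2
      rw [hm, pow_succ, pow_mul, pow_two, hzz, one_pow, one_mul] at hzr
      exact hzr
    have h := hτ ((u : E), 1) (1, 0)
    rw [← hA, hz1, hz0, one_smul, Matrix.one_mulVec, mul_one, smul_zero] at h
    exact hu1 (congrArg Prod.fst (L.injective h)).symm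
  intro J hJ hc
  rw [hxv] at hc
  have hcp : Commute J (Polynomial.aeval x₀ P) := by
    induction P using Polynomial.induction_on' with
    | add a b ha hb => rw [map_add]; exact ha.add_right hb
    | monomial n a =>
      rw [Polynomial.aeval_monomial, ← Algebra.smul_def]
      exact (Commute.pow_right (show Commute J x₀ from hc.symm) n).smul_right a
  set U := LinearMap.ker (Matrix.toLin' (Polynomial.aeval x₀ P)) with hU
  have hUinv : ∀ v ∈ U, J *ᵥ v ∈ U := fun v hv => by
    rw [hU, LinearMap.mem_ker, Matrix.toLin'_apply] at hv ⊢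
    rw [Matrix.mulVec_mulVec, ← hcp.eq, ← Matrix.mulVec_mulVec, hv, Matrix.mulVec_zero]
  let ε : E →ₗ[F] (Fin d ⊕ Fin d → F) :=
    { toFun := fun e => Sum.elim (L (e, 0)) 0
      map_add' := fun a b => by
        rw [show ((a + b, 0) : E × (Fin (d - o) → F)) = (a, 0) + (b, 0) by simp, map_add]
        funext s; rcases s with s | s <;> simp
      map_smul' := fun c a => by
        rw [RingHom.id_apply, show ((c • a, 0) : E × (Fin (d - o) → F)) = c • ((a, 0) : E × (Fin (d - o) → F)) by simp,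
          map_smul]
        funext s; rcases s with s | s <;> simp }
  have hεinj : Function.Injective ε := fun a b h => by
    have h1 : L (a, 0) = L (b, 0) := funext fun i => congrFun h (Sum.inl i)
    exact congrArg Prod.fst (L.injective h1)
  have hUe : U = LinearMap.range ε := by
    ext v
    rw [hU, LinearMap.mem_ker, Matrix.toLin'_apply, hx₀, aeval_fromBlocks, aeval_transpose, hA, ← map_pow,
      Prod.pow_mk, one_pow, Polynomial.aeval_algHom_apply, Polynomial.aeval_algHom_apply, haev, haev,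
      Matrix.fromBlocks_mulVec, LinearMap.mem_range]
    simp only [Matrix.zero_mulVec, add_zero, zero_add]
    constructor
    · intro h
      have h1 : τ (Polynomial.aeval (u : E) P, P.eval 1) *ᵥ (v ∘ Sum.inl) = 0 :=
        funext fun i => congrFun h (Sum.inl i)
      have h2 : (τ (Polynomial.aeval ((u : E) ^ (r - 1)) P, P.eval 1))ᵀ *ᵥ (v ∘ Sum.inr) = 0 :=
        funext fun i => congrFun h (Sum.inr i)
      have hun : IsUnit ((Polynomial.aeval ((u : E) ^ (r - 1)) P, P.eval 1) : E × F) := by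
        rw [Prod.isUnit_iff]; exact ⟨hPinv.isUnit, hP1.isUnit⟩
      have h3 : v ∘ Sum.inr = 0 := by
        apply Matrix.mulVec_injective_of_isUnit ((Matrix.isUnit_transpose _).mpr (hun.map τ))
        rw [Matrix.mulVec_zero]; exact h2
      obtain ⟨⟨e, w⟩, hew⟩ := L.surjective (v ∘ Sum.inl)
      rw [← hew, hτ, hPdef, minpoly.aeval, zero_mul, ← hPdef] at h1
      have h4 : P.eval 1 • w = 0 := congrArg Prod.snd (L.injective (h1.trans (map_zero L).symm))
      refine ⟨e, funext fun s => ?_⟩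
      rcases s with s | s
      · show L (e, 0) s = v (Sum.inl s)
        rw [← (smul_eq_zero.mp h4).resolve_left hP1, hew]; rfl
      · exact (congrFun h3 s).symm
    · rintro ⟨e, rfl⟩
      funext s
      rcases s with s | s
      · show (τ _ *ᵥ L (e, 0)) s = 0
        rw [hτ, hPdef, minpoly.aeval, zero_mul, smul_zero, Prod.mk_zero_zero, map_zero]
        rfl
      · show ((τ _)ᵀ *ᵥ (0 : Fin d → F)) s = 0
        rw [Matrix.mulVec_zero]; rfl
  have heven := even_finrank hν hJ.sq U hUinv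
  rw [hUe, LinearMap.finrank_range_of_inj hεinj] at heven
  rw [hfrE] at heven
  exact Nat.not_even_iff_odd.mpr ho heven

end Cfsg.Agent.PrimeOrderElt
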