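import Cfsg.Agent.S6000
import Cfsg.Agent.Lib.Linear.Symplectic
import Mathlib.Algebra.CharP.Lemmas
/-!
# Elements of order five of `Sp_4(p)` for `p` of order 4 modulo 5 (owner: helper43)

* `exists_conj_five` : they are all conjugate in `Sp_4(p)`
-/

set_option autoImplicit false

namespace Cfsg.Agent.PrimeOrderElt

open Module Matrix
open scoped MatrixGroups

variable {F : Type*} [Field F]

theorem spGL_gram {g : GL (Fin 2 ⊕ Fin 2) F} :
    g ∈ Cfsg.spGL 2 F ↔ g.1ᵀ * Matrix.J (Fin 2) F * g.1 = Matrix.J (Fin 2) F :=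
  (Linear.mem_symplecticGroup_iff (A := g.1)).symm.trans SymplecticGroup.mem_iff'

/-- In a cyclic group of order `(q²+1)(q²-1)`, the elements killed by `q²-1` are `(q²+1)`-th powers. -/
theorem exists_pow_of_pow_eq_one {G : Type*} [Group G] [Finite G] [IsCyclic G] {m n : ℕ} (hn : 0 < n)
    (hG : Nat.card G = m * n) {c : G} (hc : c ^ n = 1) : ∃ d : G, d ^ m = c := by
  obtain ⟨g, hg⟩ := IsCyclic.exists_generator (α := G)
  obtain ⟨k, hk⟩ := (mem_powers_iff_mem_zpowers (x := g)).mpr (hg c)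
  have hk' : g ^ k = c := hk
  have hord : orderOf g = m * n := by rw [← hG]; exact orderOf_eq_card_of_forall_mem_zpowers hg
  have hdvd : m * n ∣ k * n := by
    rw [← hord, orderOf_dvd_iff_pow_eq_one, pow_mul, hk', hc]
  obtain ⟨t, ht⟩ := Nat.dvd_of_mul_dvd_mul_right hn hdvd
  exact ⟨g ^ t, by rw [← pow_mul, mul_comm, ← ht, hk']⟩

/-- All elements of order five are conjugate. -/
theorem exists_conj_five [Fintype F] {p : ℕ} [Fact p.Prime] [CharP F p] (hF : Fintype.card F = p)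
    (hord : orderOf (p : ZMod 5) = 4) {x y : GL (Fin 2 ⊕ Fin 2) F} (hx : x ∈ Cfsg.spGL 2 F)
    (hy : y ∈ Cfsg.spGL 2 F) (hx5 : x ^ 5 = 1) (hy5 : y ^ 5 = 1) (hx1 : x ≠ 1) (hy1 : y ≠ 1) :
    ∃ g ∈ Cfsg.spGL 2 F, g⁻¹ * x * g = y := by
  classical
  have : Fact (Nat.Prime 5) := ⟨by norm_num⟩
  have hord' : orderOf (Fintype.card F : ZMod 5) = 4 := by rw [hF]; exact hord
  have hp5 : (5 : ℕ) ≠ p := fun h => by
    subst h
    rw [show ((5 : ℕ) : ZMod 5) = 0 from ZMod.natCast_self 5, orderOf_eq_zero_iff'.mpr] at hord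
    · norm_num at hord
    · intro n hn; rw [zero_pow (by omega)]; exact zero_ne_one
  have h50 : ((5 : ℕ) : F) ≠ 0 := natCast_ne_zero_of_ne (p := p) hp5
  set Jm := Matrix.J (Fin 2) F with hJm
  let X : Module.End F (Fin 2 ⊕ Fin 2 → F) := Matrix.toLin' x.1
  let Y : Module.End F (Fin 2 ⊕ Fin 2 → F) := Matrix.toLin' y.1
  have hV : finrank F (Fin 2 ⊕ Fin 2 → F) = 4 := by rw [Module.finrank_fintype_fun_eq_card]; rfl
  have hpow : ∀ (z : GL (Fin 2 ⊕ Fin 2) F), z ^ 5 = 1 →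
      (Matrix.toLin' z.1 : Module.End F (Fin 2 ⊕ Fin 2 → F)) ^ 5 = 1 := fun z hz => by
    rw [← Matrix.toLin'_pow, ← Units.val_pow_eq_pow_val, hz, Units.val_one, Matrix.toLin'_one]; rfl
  have hne : ∀ (z : GL (Fin 2 ⊕ Fin 2) F), z ≠ 1 →
      (Matrix.toLin' z.1 : Module.End F (Fin 2 ⊕ Fin 2 → F)) ≠ 1 := fun z hz h =>
    hz (Units.ext (Matrix.toLin'.injective (by rw [h, Units.val_one, Matrix.toLin'_one]; rfl)))
  obtain ⟨bx, hbx⟩ := S6000.exists_cols_five h50 hord' hV (Y := X) (hpow x hx5) (hne x hx1)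
  obtain ⟨by', hby⟩ := S6000.exists_cols_five h50 hord' hV (Y := Y) (hpow y hy5) (hne y hy1)
  -- the field of order p⁴
  let K := FiniteField.Extension F p 4
  let _ : Fintype K := Fintype.ofFinite K
  have hKcard : Fintype.card K = p ^ 4 := by
    rw [← Nat.card_eq_fintype_card, ← hF, ← Nat.card_eq_fintype_card]; exact FiniteField.natCard_extension F p 4
  have hp4 : (p : ZMod 5) ^ 4 = 1 := hord ▸ pow_orderOf_eq_one (p : ZMod 5)
  obtain ⟨u, hu⟩ := exists_prime_orderOf_dvd_card (G := Kˣ) 5 (by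
    rw [Fintype.card_units, hKcard, ← hF]; exact (dvd_pow_sub_one_iff 4).mpr (by rw [hord']))
  let L : K →ₐ[F] Module.End F K := Algebra.lmul F K
  have hu5' : (u : K) ^ 5 = 1 := by
    rw [← Units.val_pow_eq_pow_val, ← hu, pow_orderOf_eq_one, Units.val_one]
  have hu1 : L (u : K) ≠ 1 := fun h => by
    have h1 := LinearMap.congr_fun h 1
    have h2 : (u : K) = 1 := by simpa [L] using h1
    rw [Units.val_eq_one] at h2
    rw [h2, orderOf_one] at hu
    norm_num at hu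
  obtain ⟨bK, hbK⟩ := S6000.exists_cols_five h50 hord' (by exact FiniteField.finrank_extension F p 4)
    (Y := L (u : K)) (by rw [← map_pow, hu5', map_one]) hu1
  -- the embedding of the field in the commutant of y
  let e : K ≃ₗ[F] (Fin 2 ⊕ Fin 2 → F) := bK.equiv by' (Equiv.refl _)
  let Φ : K →ₐ[F] Matrix (Fin 2 ⊕ Fin 2) (Fin 2 ⊕ Fin 2) F :=
    (LinearMap.toMatrixAlgEquiv' (R := F)).toAlgHom.comp ((e.conjAlgEquiv F).toAlgHom.comp L)
  have he : ∀ i, e (bK i) = by' i := fun i => by simp [e]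
  have hΦv : ∀ (a b : K), (Φ a) *ᵥ (e b) = e (a * b) := by
    intro a b
    show LinearMap.toMatrix' (e.conj (L a)) *ᵥ (e b) = _
    rw [LinearMap.toMatrix'_mulVec, LinearEquiv.conj_apply_apply, LinearEquiv.symm_apply_apply]
    rfl
  have hΦu : Φ (u : K) = y.1 := by
    refine Matrix.toLin'.injective (by'.ext fun i => ?_)
    rw [Matrix.toLin'_apply, ← he, hΦv]
    show e (L (u : K) (bK i)) = _
    rw [hbK, map_sum, he]
    show _ = Y (by' i)
    rw [hby]
    exact Finset.sum_congr rfl fun j _ => by rw [map_smul, he]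
  have hΦinj : Function.Injective Φ := by
    intro a b h
    have h1 : e (a * 1) = e (b * 1) := by rw [← hΦv, ← hΦv, h]
    simpa using e.injective h1
  -- every element of the field is a polynomial in u
  have hgen : ∀ a : K, ∃ t : Fin 4 → F, a = ∑ i, t i • (u : K) ^ (i : ℕ) := by
    intro a
    have hb : ∀ i : Fin 4, bK i = (u : K) ^ (i : ℕ) * bK 0 := by
      have h := fun i => hbK i
      simp only [L, Algebra.lmul, AlgHom.coe_mk, Fin.sum_univ_four] at h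
      have h0 : (u : K) * bK 0 = bK 1 := by simpa [S6000.K5] using h 0
      have h1 : (u : K) * bK 1 = bK 2 := by simpa [S6000.K5] using h 1
      have h2 : (u : K) * bK 2 = bK 3 := by simpa [S6000.K5] using h 2
      intro i
      fin_cases i
      · simp
      · simpa using h0.symm
      · simp [← h1, ← h0, pow_two, mul_assoc]
      · simp [← h2, ← h1, ← h0, pow_succ, mul_assoc]
    refine ⟨fun i => bK.repr (a * bK 0) i, mul_right_cancel₀ (bK.ne_zero 0) ?_⟩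
    rw [Finset.sum_mul]
    conv_lhs => rw [← bK.sum_repr (a * bK 0)]
    exact Finset.sum_congr rfl fun i _ => by rw [Algebra.smul_mul_assoc, ← hb]
  -- transposition is the automorphism of order two
  have : CharP K p := charP_of_injective_algebraMap (algebraMap F K).injective p
  have hyJ : y.1ᵀ * Jm * y.1 = Jm := spGL_gram.mp hy
  have hu4 : (u : K) ^ (p ^ 2) = (u : K) ^ 4 := by
    have hmod : p ^ 2 % 5 = 4 := by
      have h1 : ((p : ZMod 5) ^ 2) ^ 2 = 1 := by rw [← pow_mul]; exact hp4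
      have h2 : (p : ZMod 5) ^ 2 = -1 := (sq_eq_one_iff.mp h1).resolve_left fun h => by
        have := orderOf_dvd_of_pow_eq_one h
        rw [hord] at this
        norm_num at this
      have h3 : ((p ^ 2 : ℕ) : ZMod 5) = ((4 : ℕ) : ZMod 5) := by rw [Nat.cast_pow, h2]; rfl
      rw [ZMod.natCast_eq_natCast_iff] at h3
      exact h3
    conv_lhs => rw [← Nat.div_add_mod (p ^ 2) 5, hmod, pow_add, pow_mul, hu5', one_pow, one_mul]
  have hy4 : y.1ᵀ * Jm = Jm * y.1 ^ 4 := by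
    have hy5' : y.1 * y.1 ^ 4 = 1 := by rw [← pow_succ', ← Units.val_pow_eq_pow_val, hy5, Units.val_one]
    calc y.1ᵀ * Jm = y.1ᵀ * Jm * (y.1 * y.1 ^ 4) := by rw [hy5', mul_one]
      _ = _ := by rw [← mul_assoc, hyJ]
  have htr : ∀ a : K, (Φ a)ᵀ * Jm = Jm * Φ (a ^ (p ^ 2)) := by
    intro a
    obtain ⟨t, rfl⟩ := hgen a
    have hp2 : (∑ i : Fin 4, t i • (u : K) ^ (i : ℕ)) ^ (p ^ 2) = ∑ i : Fin 4, t i • ((u : K) ^ 4) ^ (i : ℕ) := by
      rw [sum_pow_char_pow]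
      refine Finset.sum_congr rfl fun i _ => ?_
      rw [_root_.smul_pow, ← hu4, ← pow_mul, ← pow_mul, mul_comm]
      congr 1
      have := FiniteField.pow_card_pow 2 (t i)
      rwa [hF] at this
    rw [hp2, map_sum, map_sum, Matrix.transpose_sum, Finset.sum_mul, Finset.mul_sum]
    refine Finset.sum_congr rfl fun i _ => ?_
    rw [map_smul, map_smul, map_pow, map_pow, map_pow, hΦu, transpose_smul, Matrix.smul_mul, Matrix.mul_smul]
    congr 1
    rw [transpose_pow]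
    generalize (i : ℕ) = n
    induction n with
    | zero => simp
    | succ n ih => rw [pow_succ, mul_assoc, hy4, ← mul_assoc, ih, mul_assoc, ← pow_succ]
  -- the change of basis
  let T : (Fin 2 ⊕ Fin 2 → F) ≃ₗ[F] (Fin 2 ⊕ Fin 2 → F) := by'.equiv bx (Equiv.refl _)
  set S : Matrix (Fin 2 ⊕ Fin 2) (Fin 2 ⊕ Fin 2) F := LinearMap.toMatrix' T.toLinearMap with hS
  have hSv : ∀ i, S *ᵥ by' i = bx i := fun i => by rw [hS, LinearMap.toMatrix'_mulVec]; simp [T]
  have hSu : IsUnit S := by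
    rw [Matrix.isUnit_iff_isUnit_det, isUnit_iff_ne_zero]
    intro h0
    obtain ⟨v, hv, hv0⟩ := Matrix.exists_mulVec_eq_zero_iff.mpr h0
    rw [hS, LinearMap.toMatrix'_mulVec] at hv0
    exact hv (T.injective (hv0.trans (map_zero T).symm))
  have hxS : x.1 * S = S * y.1 := by
    refine Matrix.toLin'.injective (by'.ext fun i => ?_)
    simp only [Matrix.toLin'_apply, ← Matrix.mulVec_mulVec]
    rw [hSv, show y.1 *ᵥ by' i = Y (by' i) from rfl, hby, Matrix.mulVec_sum,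
      show x.1 *ᵥ bx i = X (bx i) from rfl, hbx]
    exact Finset.sum_congr rfl fun j _ => by rw [Matrix.mulVec_smul, hSv]
  have hxJ : x.1ᵀ * Jm * x.1 = Jm := spGL_gram.mp hx
  set H := Sᵀ * Jm * S with hH
  have hHy : y.1ᵀ * H * y.1 = H := by
    calc y.1ᵀ * H * y.1 = (S * y.1)ᵀ * Jm * (S * y.1) := by rw [hH, transpose_mul]; simp only [mul_assoc]
      _ = Sᵀ * (x.1ᵀ * Jm * x.1) * S := by rw [← hxS, transpose_mul]; simp only [mul_assoc]
      _ = H := by rw [hxJ]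
  have hJJ : Jm * Jm = -1 := Matrix.J_squared _ _
  have hJt : Jmᵀ = -Jm := Matrix.J_transpose _ _
  set M := -(Jm * H) with hM
  have hHM : H = Jm * M := by rw [hM, mul_neg, ← mul_assoc, hJJ, neg_mul, one_mul, neg_neg]
  have hJu : IsUnit Jm := ⟨⟨Jm, -Jm, by rw [mul_neg, hJJ, neg_neg], by rw [neg_mul, hJJ, neg_neg]⟩, rfl⟩
  have hMy : M * y.1 = y.1 * M := by
    have h1 : Jm * (M * y.1) = Jm * (y.1 * M) := by
      have e1 : y.1ᵀ * (Jm * y.1) = Jm := by rw [← mul_assoc, hyJ]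
      have e2 : y.1ᵀ * (Jm * (M * y.1)) = y.1ᵀ * (Jm * (y.1 * M)) := by
        rw [← mul_assoc Jm M, ← hHM, ← mul_assoc, hHy, hHM, ← mul_assoc Jm y.1, ← mul_assoc y.1ᵀ (Jm * y.1), e1]
      have hyu : IsUnit y.1ᵀ := (Matrix.isUnit_transpose y.1).mpr y.isUnit
      exact hyu.mul_left_cancel e2
    exact hJu.mul_left_cancel h1
  -- M lies in the field
  obtain ⟨c, hc⟩ : ∃ c : K, Φ c = M := by
    refine ⟨e.symm (M *ᵥ by' 0) * (bK 0)⁻¹, Matrix.toLin'.injective (by'.ext fun i => ?_)⟩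
    have h0 : Φ (e.symm (M *ᵥ by' 0) * (bK 0)⁻¹) *ᵥ by' 0 = M *ᵥ by' 0 := by
      rw [← he 0, hΦv, mul_assoc, inv_mul_cancel₀ (bK.ne_zero 0), mul_one, LinearEquiv.apply_symm_apply, he]
    generalize e.symm (M *ᵥ by' 0) * (bK 0)⁻¹ = c at h0
    have hcomm : ∀ v, Φ c *ᵥ v = M *ᵥ v → Φ c *ᵥ (y.1 *ᵥ v) = M *ᵥ (y.1 *ᵥ v) := by
      intro v hv
      rw [Matrix.mulVec_mulVec, Matrix.mulVec_mulVec, ← hΦu, ← map_mul, mul_comm, map_mul, hΦu, hMy,
        ← Matrix.mulVec_mulVec, ← Matrix.mulVec_mulVec, hv]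
    have hs : ∀ j, y.1 *ᵥ by' j = ∑ k, (S6000.K5 : Matrix (Fin 4) (Fin 4) F) k j • by' k := fun j => hby j
    have e0 : y.1 *ᵥ by' 0 = by' 1 := by rw [hs, Fin.sum_univ_four]; simp [S6000.K5]
    have e1 : y.1 *ᵥ by' 1 = by' 2 := by rw [hs, Fin.sum_univ_four]; simp [S6000.K5]
    have e2 : y.1 *ᵥ by' 2 = by' 3 := by rw [hs, Fin.sum_univ_four]; simp [S6000.K5]
    rw [Matrix.toLin'_apply, Matrix.toLin'_apply]
    fin_cases i
    · exact h0
    · exact e0 ▸ hcomm _ h0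
    · exact e1 ▸ hcomm _ (e0 ▸ hcomm _ h0)
    · exact e2 ▸ hcomm _ (e1 ▸ hcomm _ (e0 ▸ hcomm _ h0))
  -- it is fixed by the automorphism
  have hcfix : c ^ (p ^ 2) = c := by
    refine hΦinj (hJu.mul_left_cancel ?_)
    rw [← htr, hc, ← hHM, hM]
    have hHt : Hᵀ = -H := by
      rw [hH, transpose_mul, transpose_mul, transpose_transpose, hJt, neg_mul, mul_neg, ← mul_assoc]
    rw [transpose_neg, transpose_mul, hJt, hHt, neg_mul_neg, neg_mul, mul_assoc, hJJ, mul_neg, mul_one, neg_neg]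
  have hc0 : c ≠ 0 := by
    intro h0
    rw [h0, map_zero] at hc
    have hH0 : H = 0 := by rw [hHM, ← hc, mul_zero]
    exact ((((Matrix.isUnit_transpose S).mpr hSu).mul hJu).mul hSu).ne_zero hH0
  have hp2 : 1 ≤ p ^ 2 := Nat.one_le_pow _ _ (Fact.out : p.Prime).pos
  obtain ⟨d, hd⟩ : ∃ d : Kˣ, d ^ (p ^ 2 + 1) = Units.mk0 c hc0 := by
    refine exists_pow_of_pow_eq_one (n := p ^ 2 - 1) ?_ ?_ (Units.ext ?_)
    · have := Nat.pow_le_pow_left (Fact.out : p.Prime).two_le 2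
      omega
    · rw [Nat.card_eq_fintype_card, Fintype.card_units, hKcard, show p ^ 4 = (p ^ 2) ^ 2 by ring,
        show (p ^ 2) ^ 2 - 1 = (p ^ 2) ^ 2 - 1 ^ 2 by rw [one_pow], Nat.sq_sub_sq]
    · rw [Units.val_pow_eq_pow_val, Units.val_mk0, Units.val_one]
      refine mul_left_cancel₀ hc0 ?_
      rw [← pow_succ', Nat.sub_add_cancel hp2, hcfix, mul_one]
  have hd' : (d : K) ^ (p ^ 2) * (d : K) = c := by
    rw [← pow_succ, ← Units.val_pow_eq_pow_val, hd, Units.val_mk0]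
  let Z : GL (Fin 2 ⊕ Fin 2) F := Units.map Φ.toRingHom.toMonoidHom d
  have hZv : Z.1 = Φ (d : K) := rfl
  have hZH : Z.1ᵀ * Jm * Z.1 = H := by
    rw [hZv, htr, mul_assoc, ← map_mul, hd', hc, hHM]
  let g : GL (Fin 2 ⊕ Fin 2) F := hSu.unit * Z⁻¹
  refine ⟨g, spGL_gram.mpr ?_, ?_⟩
  · have hgv : g.1 = S * (Z⁻¹).1 := rfl
    calc g.1ᵀ * Jm * g.1 = (Z⁻¹).1ᵀ * (Sᵀ * Jm * S) * (Z⁻¹).1 := by
          rw [hgv, transpose_mul]; simp only [mul_assoc]
      _ = (Z.1 * (Z⁻¹).1)ᵀ * Jm * (Z.1 * (Z⁻¹).1) := by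
          rw [← hH, ← hZH, transpose_mul]; simp only [mul_assoc]
      _ = Jm := by rw [← Units.val_mul, mul_inv_cancel, Units.val_one, transpose_one, one_mul, mul_one]
  · have hZy : Z * y = y * Z := Units.ext (by
      rw [Units.val_mul, Units.val_mul, hZv, ← hΦu, ← map_mul, ← map_mul, mul_comm])
    have hxu : x * hSu.unit = hSu.unit * y := Units.ext (by
      rw [Units.val_mul, Units.val_mul, IsUnit.unit_spec]; exact hxS)
    show (hSu.unit * Z⁻¹)⁻¹ * x * (hSu.unit * Z⁻¹) = y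
    calc (hSu.unit * Z⁻¹)⁻¹ * x * (hSu.unit * Z⁻¹) = Z * hSu.unit⁻¹ * (x * hSu.unit) * Z⁻¹ := by
          simp only [_root_.mul_inv_rev, inv_inv, mul_assoc]
      _ = y := by rw [hxu, mul_assoc Z, inv_mul_cancel_left, hZy, mul_inv_cancel_right]

end Cfsg.Agent.PrimeOrderElt
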