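import Cfsg.Agent.Lib.PrimeOrderElt.Diag
import Cfsg.Agent.Lib.Aschbacher.SympType
/-
The 2-groups of symplectic type 4 ∘ 2^(1+4) in GL_4(F).
* `pauli_of_data`    : squares and commutators are ±1, the scalars are ⟨i⟩
* `exists_frame_four`: a basis in which the group is the group of tensor products of Pauli matrices
* `orbit_bound`      : the commutant of an element of odd prime order modulo scalars in the normaliser is small
-/

set_option autoImplicit false
set_option linter.style.haveILetI false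

namespace Cfsg.Agent.PrimeOrderElt

open Module
open scoped MatrixGroups commutatorElement

variable {F : Type*} [Field F]

/-- A scalar matrix as a unit. -/
noncomputable def scalarUnit (c : Fˣ) : GL (Fin 4) F := Aschbacher.sc (Fin 4) c

theorem scalarUnit_val (c : Fˣ) : ((scalarUnit c : GL (Fin 4) F) : Matrix (Fin 4) (Fin 4) F) = (c : F) • 1 :=
  Aschbacher.sc_val c

/-- The properties of 4 ∘ 2^(1+4) that are used. -/
structure IsPauliFour (R : Subgroup (GL (Fin 4) F)) : Prop where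
  card : Nat.card R = 64
  two_ne : (2 : F) ≠ 0
  sqrt_neg_one : ∃ i : F, i ^ 2 = -1
  scalar_mem : ∀ c : Fˣ, (c : F) ^ 4 = 1 → scalarUnit c ∈ R
  scalar_pow : ∀ (g : GL (Fin 4) F) (c : F), g ∈ R → (g : Matrix (Fin 4) (Fin 4) F) = c • 1 → c ^ 4 = 1
  sq : ∀ g ∈ R, ((g : Matrix (Fin 4) (Fin 4) F) * (g : Matrix (Fin 4) (Fin 4) F) = 1 ∨
    (g : Matrix (Fin 4) (Fin 4) F) * (g : Matrix (Fin 4) (Fin 4) F) = -1)
  comm : ∀ g ∈ R, ∀ h ∈ R, g * h = h * g ∨
    (g : Matrix (Fin 4) (Fin 4) F) * (h : Matrix (Fin 4) (Fin 4) F) = -((h : Matrix (Fin 4) (Fin 4) F) * (g : Matrix (Fin 4) (Fin 4) F))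
  center : ∀ M : Matrix (Fin 4) (Fin 4) F,
    (∀ g ∈ R, M * (g : Matrix (Fin 4) (Fin 4) F) = (g : Matrix (Fin 4) (Fin 4) F) * M) → ∃ c : F, M = c • 1
  card_center : Nat.card (Subgroup.center R) = 4

theorem smul_one_inj_four {a b : F} (h : a • (1 : Matrix (Fin 4) (Fin 4) F) = b • 1) : a = b := by
  simpa using congr_fun (congr_fun h 0) 0

theorem derived_le_center {G : Type*} [Group G] [Finite G] (hp : IsPGroup 2 G) (he : Monoid.exponent G ∣ 4)
    (hZ : Nat.card (Subgroup.center G) = 4)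
    (hchar : ∀ A : Subgroup G, A.Characteristic → IsMulCommutative A → IsCyclic A) :
    ∀ g h : G, ⁅g, h⁆ ∈ Subgroup.center G := by
  classical
  have : Fact (Nat.Prime 2) := ⟨Nat.prime_two⟩
  have : Group.IsNilpotent G := hp.isNilpotent
  set Z := Subgroup.center G with hZdef
  set D := commutator G with hD
  suffices h : D ≤ Z by
    intro g g'
    exact h (by rw [hD, commutator_def]; exact Subgroup.commutator_mem_commutator trivial trivial)
  by_contra hDZ
  have hex : ∃ k, Subgroup.lowerCentralSeries (G := G) ⊤ k ≤ Z :=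
    ⟨Group.nilpotencyClass G, by rw [Subgroup.lowerCentralSeries_nilpotencyClass]; exact bot_le⟩
  set k := Nat.find hex with hk
  have hk1 : 2 ≤ k := by
    by_contra hlt
    have h1 := Nat.find_spec hex
    rw [← hk] at h1
    refine hDZ (le_trans ?_ h1)
    rw [hD, ← Subgroup.top_lowerCentralSeries_one (G := G)]
    exact Subgroup.lowerCentralSeries_antitone ⊤ (by omega)
  obtain ⟨j, hj⟩ : ∃ j, k = j + 1 := ⟨k - 1, by omega⟩
  set L := Subgroup.lowerCentralSeries (G := G) ⊤ j with hL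
  have hLD : L ≤ D := by
    rw [hD, ← Subgroup.top_lowerCentralSeries_one (G := G)]
    exact Subgroup.lowerCentralSeries_antitone ⊤ (by omega)
  have hLZ : ¬ L ≤ Z := Nat.find_min hex (by omega)
  have hLnext : ⁅L, (⊤ : Subgroup G)⁆ ≤ Z := by
    have h1 : Subgroup.lowerCentralSeries (G := G) ⊤ k ≤ Z := Nat.find_spec hex
    rw [hj, Subgroup.lowerCentralSeries_succ] at h1
    exact h1
  have hbot : ∀ H : Subgroup G, H ≤ Z → ⁅H, (⊤ : Subgroup G)⁆ = ⊥ := fun H hH =>
    Subgroup.commutator_eq_bot_iff_le_centralizer.mpr (hH.trans (by rw [hZdef, Subgroup.coe_top, Subgroup.centralizer_univ]))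
  have hLc : L ≤ Subgroup.centralizer (D : Set G) := by
    rw [← Subgroup.commutator_eq_bot_iff_le_centralizer, Subgroup.commutator_comm]
    rw [hD, commutator_def]
    refine Subgroup.commutator_commutator_eq_bot_of_rotate ?_ ?_
    · rw [Subgroup.commutator_comm ⊤ L]; exact hbot _ hLnext
    · exact hbot _ hLnext
  set A := (D ⊔ Z) ⊓ Subgroup.centralizer (D : Set G) with hA
  have hAchar : A.Characteristic := by
    rw [Subgroup.characteristic_iff_le_map]
    intro φ x hx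
    refine ⟨φ.symm x, ?_, by simp⟩
    have hDc : D.Characteristic := inferInstanceAs (commutator G).Characteristic
    have hZc : Z.Characteristic := inferInstanceAs (Subgroup.center G).Characteristic
    have hsup : (D ⊔ Z).map φ.symm.toMonoidHom = D ⊔ Z := by
      rw [Subgroup.map_sup, Subgroup.characteristic_iff_map_eq.mp hDc, Subgroup.characteristic_iff_map_eq.mp hZc]
    refine ⟨hsup.le ⟨x, hx.1, rfl⟩, Subgroup.mem_centralizer_iff.mpr fun d hd => ?_⟩
    have hd' : φ d ∈ D := (Subgroup.characteristic_iff_map_eq.mp hDc φ).le ⟨d, hd, rfl⟩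
    have := congrArg φ.symm (Subgroup.mem_centralizer_iff.mp hx.2 (φ d) hd')
    simpa using this
  have hAcomm : IsMulCommutative A := ⟨⟨fun u v => Subtype.ext (by
    have hle : D ⊔ Z ≤ Subgroup.centralizer ({u.1} : Set G) := by
      refine sup_le (fun d hd => ?_) (fun z hz => ?_)
      · exact Subgroup.mem_centralizer_singleton_iff.mpr (Subgroup.mem_centralizer_iff.mp u.2.2 d hd)
      · exact Subgroup.mem_centralizer_singleton_iff.mpr ((Subgroup.mem_center_iff.mp hz u.1).symm)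
    exact (Subgroup.mem_centralizer_singleton_iff.mp (hle v.2.1)).symm)⟩⟩
  have hcyc : IsCyclic A := hchar A hAchar hAcomm
  have hAcard : Nat.card A ≤ 4 := by
    rw [← IsCyclic.exponent_eq_card]
    exact Nat.le_of_dvd (by norm_num)
      ((Monoid.exponent_dvd_of_monoidHom A.subtype Subtype.val_injective).trans he)
  have hZA : Z ≤ A := le_inf le_sup_right (fun z hz => Subgroup.mem_centralizer_iff.mpr fun d _ =>
    Subgroup.mem_center_iff.mp hz d)
  have hAZ : Z = A := Subgroup.eq_of_le_of_card_ge hZA (by rw [hZ]; exact hAcard)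
  exact hLZ fun x hx => hAZ.ge ⟨Subgroup.mem_sup_left (hLD hx), hLc hx⟩

theorem pauli_of_type [Fintype F] {p : ℕ} [CharP F p] (hp : Odd p) {R : Subgroup (GL (Fin 4) F)}
    (hs : Cfsg.Geo.IsSymplecticTypeGroup 2 R) (hirr : Cfsg.Geo.ActsAbsolutelyIrreducibly (Cfsg.Geo.matrixSet R))
    (hcard : Nat.card (Subgroup.center R) = 4) (hR6 : Nat.card R = 2 ^ 6) : IsPauliFour R := by
  classical
  have h2 : (2 : F) ≠ 0 := by
    intro h
    have h' : ((2 : ℕ) : F) = 0 := by simpa using h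
    have := (CharP.cast_eq_zero_iff F p 2).mp h'
    rcases (Nat.dvd_prime Nat.prime_two).mp this with rfl | rfl
    · exact CharP.char_ne_one F 1 rfl
    · exact absurd hp (by decide)
  have he : Monoid.exponent R = 4 := hs.exponent_eq
  have hexp : ∀ g ∈ R, (g : Matrix (Fin 4) (Fin 4) F) ^ 4 = 1 := fun g hg => by
    have h := Monoid.pow_exponent_eq_one (⟨g, hg⟩ : R)
    rw [he] at h
    have h' := congrArg (fun u : R => ((u : GL (Fin 4) F) : Matrix (Fin 4) (Fin 4) F)) h
    simpa using h'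
  have hcen : ∀ M : Matrix (Fin 4) (Fin 4) F,
      (∀ g ∈ R, M * (g : Matrix (Fin 4) (Fin 4) F) = (g : Matrix (Fin 4) (Fin 4) F) * M) → ∃ c : F, M = c • 1 :=
    fun M hM => hirr.2 M (by rintro _ ⟨g, hg, rfl⟩; exact hM g hg)
  have hpow : ∀ (g : GL (Fin 4) F) (c : F), g ∈ R → (g : Matrix (Fin 4) (Fin 4) F) = c • 1 → c ^ 4 = 1 := by
    intro g c hg hc
    have := hexp g hg
    rw [hc, _root_.smul_pow, one_pow] at this
    exact smul_one_inj_four (this.trans (one_smul F 1).symm)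
  have hcenScal : ∀ z : R, z ∈ Subgroup.center R → ∃ c : F, ((z : GL (Fin 4) F) : Matrix (Fin 4) (Fin 4) F) = c • 1 :=
    fun z hz => hcen _ fun g hg =>
      congrArg (fun u : R => ((u : GL (Fin 4) F) : Matrix (Fin 4) (Fin 4) F)) (Subgroup.mem_center_iff.mp hz ⟨g, hg⟩).symm
  choose f hf using fun z : Subgroup.center R => hcenScal z.1 z.2
  have hfinj : Function.Injective f := fun z z' h =>
    Subtype.ext (Subtype.ext (Units.ext (by rw [hf z, hf z', h])))
  have hf4 : ∀ z, f z ^ 4 = 1 := fun z => hpow _ _ z.1.2 (hf z)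
  obtain ⟨z₀, hz₀⟩ : ∃ z, f z ^ 2 = -1 := by
    by_contra hno
    push Not at hno
    have h12 : ∀ z, f z = 1 ∨ f z = -1 := fun z => by
      have h4 : (f z ^ 2) ^ 2 = 1 := by rw [← pow_mul]; exact hf4 z
      exact sq_eq_one_iff.mp ((sq_eq_one_iff.mp h4).resolve_right (hno z))
    letI : Fintype (Subgroup.center R) := Fintype.ofFinite _
    have hle : (Finset.univ.image f).card ≤ ({1, -1} : Finset F).card := Finset.card_le_card fun c hc => by
      obtain ⟨z, -, rfl⟩ := Finset.mem_image.mp hc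
      simpa using h12 z
    rw [Finset.card_image_of_injective _ hfinj, Finset.card_univ, ← Nat.card_eq_fintype_card, hcard] at hle
    have := Finset.card_le_two (a := (1 : F)) (b := -1)
    omega
  have hder := derived_le_center (G := R) hs.pGroup he.dvd hcard
    hs.cyclic_of_characteristic
  have htw : ∀ g ∈ R, ∀ h ∈ R, ∃ c : F, c ^ 4 = 1 ∧
      (g : Matrix (Fin 4) (Fin 4) F) * (h : Matrix (Fin 4) (Fin 4) F) = c • ((h : Matrix (Fin 4) (Fin 4) F) * (g : Matrix (Fin 4) (Fin 4) F)) := by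
    intro g hg h hh
    obtain ⟨c, hc⟩ := hcenScal _ (hder ⟨g, hg⟩ ⟨h, hh⟩)
    refine ⟨c, hpow _ c (SetLike.coe_mem _) hc, ?_⟩
    have e : g * h = ⁅g, h⁆ * (h * g) := by rw [commutatorElement_def]; group
    have e' := congrArg Units.val e
    rw [Units.val_mul, Units.val_mul, Units.val_mul] at e'
    rw [e', show ((⁅g, h⁆ : GL (Fin 4) F) : Matrix (Fin 4) (Fin 4) F) = c • 1 from hc, Matrix.smul_mul, Matrix.one_mul]
  have hsq1 : ∀ g ∈ R, ∀ h ∈ R, g * h = h * g ∨
      (g : Matrix (Fin 4) (Fin 4) F) * (h : Matrix (Fin 4) (Fin 4) F) = -((h : Matrix (Fin 4) (Fin 4) F) * (g : Matrix (Fin 4) (Fin 4) F)) := by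
    intro g hg h hh
    obtain ⟨c, hc4, hc⟩ := htw g hg h hh
    have h4 := Aschbacher.pow_mul_of_twisted hc 4
    rw [hexp g hg, hexp h hh, Matrix.one_mul, ← Units.val_mul, hexp _ (R.mul_mem hh hg),
      show Nat.choose 4 2 = 6 from rfl] at h4
    have hc2 : c ^ 2 = 1 := by
      have h6 : c ^ 6 = 1 := (smul_one_inj_four (((one_smul F (1 : Matrix (Fin 4) (Fin 4) F))).trans h4)).symm
      calc c ^ 2 = c ^ 4 * c ^ 2 := by rw [hc4, one_mul]
        _ = 1 := by rw [← pow_add, h6]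
    rcases sq_eq_one_iff.mp hc2 with rfl | rfl
    · exact Or.inl (Units.ext (by rw [Units.val_mul, Units.val_mul, hc, one_smul]))
    · exact Or.inr (by rw [hc, neg_one_smul])
  refine ⟨by rw [hR6]; norm_num, h2, ⟨f z₀, hz₀⟩, fun c hc => ?_, hpow, fun g hg => ?_, hsq1, hcen, hcard⟩
  · have hmem : ∃ m : ℕ, (c : F) = f z₀ ^ m := by
      have h4 : ((c : F) ^ 2) ^ 2 = 1 := by rw [← pow_mul]; exact hc
      rcases sq_eq_one_iff.mp h4 with h | h
      · rcases sq_eq_one_iff.mp h with h' | h'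
        · exact ⟨0, by rw [h', pow_zero]⟩
        · exact ⟨2, by rw [h', hz₀]⟩
      · rcases sq_eq_sq_iff_eq_or_eq_neg.mp (h.trans hz₀.symm) with h' | h'
        · exact ⟨1, by rw [h', pow_one]⟩
        · exact ⟨3, by rw [h', pow_succ (f z₀) 2, hz₀, neg_one_mul]⟩
    obtain ⟨m, hm⟩ := hmem
    rw [show scalarUnit c = ((z₀.1 : GL (Fin 4) F)) ^ m from Units.ext (by
      rw [scalarUnit_val, Units.val_pow_eq_pow_val, hf z₀, _root_.smul_pow, one_pow, hm])]
    exact R.pow_mem z₀.1.2 m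
  · obtain ⟨c, hc⟩ := hcen ((g : Matrix (Fin 4) (Fin 4) F) * (g : Matrix (Fin 4) (Fin 4) F)) fun h hh => by
      rcases hsq1 g hg h hh with e | e
      · have e' := congrArg Units.val e
        rw [Units.val_mul, Units.val_mul] at e'
        rw [Matrix.mul_assoc, e', ← Matrix.mul_assoc, e', Matrix.mul_assoc]
      · rw [Matrix.mul_assoc, e, Matrix.mul_neg, ← Matrix.mul_assoc, e, Matrix.neg_mul, neg_neg, Matrix.mul_assoc]
    have hc2 : c ^ 2 = 1 := by
      have h4 : ((g : Matrix (Fin 4) (Fin 4) F) * (g : Matrix (Fin 4) (Fin 4) F)) ^ 2 = 1 := by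
        rw [← pow_two (g : Matrix (Fin 4) (Fin 4) F), ← pow_mul]; exact hexp g hg
      rw [hc, _root_.smul_pow, one_pow] at h4
      exact smul_one_inj_four (h4.trans (one_smul F 1).symm)
    rcases sq_eq_one_iff.mp hc2 with rfl | rfl
    · exact Or.inl (hc.trans (one_smul _ _))
    · exact Or.inr (hc.trans (neg_one_smul _ _))

theorem pauli_of_data [Fintype F] {p : ℕ} [CharP F p] (hp : Odd p) {R : Subgroup (GL (Fin 4) F)}
    (hR : Cfsg.Geo.IsLinearSymplecticTypeData 2 R) (hR6 : Nat.card R = 2 ^ 6) : IsPauliFour R :=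
  pauli_of_type hp hR.symplecticType hR.absIrred (by
    obtain ⟨p', e, -, -, h⟩ := hR.field
    rcases h with ⟨h, -⟩ | ⟨-, -, h, -⟩ | ⟨-, -, h, -⟩
    · exact absurd h (by decide)
    · exact h
    · exact absurd h (by simp)) hR6

namespace IsPauliFour

variable {R : Subgroup (GL (Fin 4) F)}

theorem scalar_of_mem_center (hP : IsPauliFour R) {z : R} (hz : z ∈ Subgroup.center R) :
    ∃ c : F, ((z : GL (Fin 4) F) : Matrix (Fin 4) (Fin 4) F) = c • 1 :=
  hP.center _ fun g hg =>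
    congrArg (fun u : R => ((u : GL (Fin 4) F) : Matrix (Fin 4) (Fin 4) F)) (Subgroup.mem_center_iff.mp hz ⟨g, hg⟩).symm

theorem exists_anticommute (hP : IsPauliFour R) {g : GL (Fin 4) F} (hg : g ∈ R)
    (hns : ∀ c : F, (g : Matrix (Fin 4) (Fin 4) F) ≠ c • 1) :
    ∃ h ∈ R, g * h ≠ h * g ∧
      (g : Matrix (Fin 4) (Fin 4) F) * (h : Matrix (Fin 4) (Fin 4) F) = -((h : Matrix (Fin 4) (Fin 4) F) * (g : Matrix (Fin 4) (Fin 4) F)) := by
  by_contra hno
  push Not at hno
  obtain ⟨c, hc⟩ := hP.center (g : Matrix (Fin 4) (Fin 4) F) fun h hh => by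
    by_contra hne
    rcases hP.comm g hg h hh with e | e
    · exact hne (by rw [← Units.val_mul, e, Units.val_mul])
    · exact hno h hh (fun e' => hne (by rw [← Units.val_mul, e', Units.val_mul])) e
  exact hns c hc

theorem trace_eq_zero (hP : IsPauliFour R) {g : GL (Fin 4) F} (hg : g ∈ R)
    (hns : ∀ c : F, (g : Matrix (Fin 4) (Fin 4) F) ≠ c • 1) : (g : Matrix (Fin 4) (Fin 4) F).trace = 0 := by
  obtain ⟨h, -, -, e⟩ := hP.exists_anticommute hg hns
  have h1 : ((g : Matrix (Fin 4) (Fin 4) F) * (h : Matrix (Fin 4) (Fin 4) F) * ((h⁻¹ : GL (Fin 4) F) : Matrix (Fin 4) (Fin 4) F)).trace =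
      (g : Matrix (Fin 4) (Fin 4) F).trace := by
    rw [Matrix.mul_assoc, Units.mul_inv, Matrix.mul_one]
  rw [e, Matrix.neg_mul, Matrix.trace_neg, Matrix.trace_mul_comm, ← Matrix.mul_assoc, Units.inv_mul, Matrix.one_mul] at h1
  have h2 : (2 : F) * (g : Matrix (Fin 4) (Fin 4) F).trace = 0 := by linear_combination -h1
  exact (mul_eq_zero.mp h2).resolve_left hP.two_ne

/-- An element squaring to one in every coset of the scalars. -/
theorem exists_involution (hP : IsPauliFour R) {g : GL (Fin 4) F} (hg : g ∈ R) :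
    ∃ (c : F) (a : GL (Fin 4) F), c ≠ 0 ∧ a ∈ R ∧ (a : Matrix (Fin 4) (Fin 4) F) = c • (g : Matrix (Fin 4) (Fin 4) F) ∧
      (a : Matrix (Fin 4) (Fin 4) F) * (a : Matrix (Fin 4) (Fin 4) F) = 1 := by
  rcases hP.sq g hg with h | h
  · exact ⟨1, g, one_ne_zero, hg, (one_smul _ _).symm, h⟩
  · obtain ⟨i, hi⟩ := hP.sqrt_neg_one
    have hi0 : i ≠ 0 := fun h0 => by rw [h0, zero_pow two_ne_zero] at hi; exact neg_ne_zero.mpr one_ne_zero hi.symm
    have hmem : scalarUnit (Units.mk0 i hi0) ∈ R := hP.scalar_mem _ (by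
      rw [Units.val_mk0, show (4 : ℕ) = 2 * 2 from rfl, pow_mul, hi, neg_one_sq])
    have hv : ((scalarUnit (Units.mk0 i hi0) * g : GL (Fin 4) F) : Matrix (Fin 4) (Fin 4) F) = i • (g : Matrix (Fin 4) (Fin 4) F) := by
      rw [Units.val_mul, scalarUnit_val, Units.val_mk0, Matrix.smul_mul, Matrix.one_mul]
    refine ⟨i, _, hi0, R.mul_mem hmem hg, hv, ?_⟩
    rw [hv, Matrix.smul_mul, Matrix.mul_smul, smul_smul, ← pow_two, hi, h, neg_one_smul, neg_neg]

end IsPauliFour

/-- Z ⊗ 1. -/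
abbrev pA : Matrix (Fin 4) (Fin 4) F := Matrix.diagonal ![1, 1, -1, -1]
/-- X ⊗ 1. -/
abbrev pB : Matrix (Fin 4) (Fin 4) F := !![0, 0, 1, 0; 0, 0, 0, 1; 1, 0, 0, 0; 0, 1, 0, 0]
/-- 1 ⊗ Z. -/
abbrev pC : Matrix (Fin 4) (Fin 4) F := Matrix.diagonal ![1, -1, 1, -1]
/-- 1 ⊗ X. -/
abbrev pD : Matrix (Fin 4) (Fin 4) F := !![0, 1, 0, 0; 1, 0, 0, 0; 0, 0, 0, 1; 0, 0, 1, 0]

theorem scalar_of_commute_pauli (h2 : (2 : F) ≠ 0) {M : Matrix (Fin 4) (Fin 4) F} (hA : M * pA = pA * M)
    (hB : M * pB = pB * M) (hC : M * pC = pC * M) (hD : M * pD = pD * M) : ∃ c : F, M = c • 1 := by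
  have eA := fun i j => congr_fun (congr_fun hA i) j
  have eC := fun i j => congr_fun (congr_fun hC i) j
  simp only [Matrix.mul_diagonal, Matrix.diagonal_mul] at eA eC
  have hz : ∀ x : F, x * -1 = 1 * x → x = 0 := fun x h =>
    (mul_eq_zero.mp (show (2 : F) * x = 0 by linear_combination -h)).resolve_left h2
  have hz' : ∀ x : F, x * 1 = -1 * x → x = 0 := fun x h =>
    (mul_eq_zero.mp (show (2 : F) * x = 0 by linear_combination h)).resolve_left h2
  have z01 := hz _ (eC 0 1); have z10 := hz' _ (eC 1 0)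
  have z02 := hz _ (eA 0 2); have z20 := hz' _ (eA 2 0)
  have z03 := hz _ (eA 0 3); have z30 := hz' _ (eA 3 0)
  have z12 := hz _ (eA 1 2); have z21 := hz' _ (eA 2 1)
  have z13 := hz _ (eA 1 3); have z31 := hz' _ (eA 3 1)
  have z23 := hz _ (eC 2 3); have z32 := hz' _ (eC 3 2)
  have b20 := congr_fun (congr_fun hB 2) 0
  have b31 := congr_fun (congr_fun hB 3) 1
  have d10 := congr_fun (congr_fun hD 1) 0
  simp [Matrix.mul_apply, Fin.sum_univ_four] at b20 b31 d10
  refine ⟨M 0 0, ?_⟩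
  ext i j
  fin_cases i <;> fin_cases j <;>
    simp [z01, z10, z02, z20, z03, z30, z12, z21, z13, z31, z23, z32, b20, b31, d10]

/-- A Pauli frame. -/
structure IsPauliFrame (R : Subgroup (GL (Fin 4) F)) (a b c d C : GL (Fin 4) F) : Prop where
  ha : a ∈ R
  hb : b ∈ R
  hc : c ∈ R
  hd : d ∈ R
  haC : (a : Matrix (Fin 4) (Fin 4) F) * (C : Matrix (Fin 4) (Fin 4) F) = (C : Matrix (Fin 4) (Fin 4) F) * pA
  hbC : (b : Matrix (Fin 4) (Fin 4) F) * (C : Matrix (Fin 4) (Fin 4) F) = (C : Matrix (Fin 4) (Fin 4) F) * pB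
  hcC : (c : Matrix (Fin 4) (Fin 4) F) * (C : Matrix (Fin 4) (Fin 4) F) = (C : Matrix (Fin 4) (Fin 4) F) * pC
  hdC : (d : Matrix (Fin 4) (Fin 4) F) * (C : Matrix (Fin 4) (Fin 4) F) = (C : Matrix (Fin 4) (Fin 4) F) * pD
  gen : ∀ g ∈ R, ∃ (z : GL (Fin 4) F) (e : F) (m1 m2 m3 m4 : Bool), z ∈ R ∧ (z : Matrix (Fin 4) (Fin 4) F) = e • 1 ∧
    g = z * ((bif m1 then a else 1) * (bif m2 then b else 1) * (bif m3 then c else 1) * (bif m4 then d else 1))

theorem IsPauliFour.exists_frame [Finite F] {R : Subgroup (GL (Fin 4) F)} (hP : IsPauliFour R) :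
    ∃ a b c d C : GL (Fin 4) F, IsPauliFrame R a b c d C := by
  classical
  have h2 := hP.two_ne
  obtain ⟨g₀, hg₀, hg₀s⟩ : ∃ g ∈ R, ∀ c : F, (g : Matrix (Fin 4) (Fin 4) F) ≠ c • 1 := by
    by_contra hno
    push Not at hno
    have htop : Subgroup.center R = ⊤ := by
      refine eq_top_iff.mpr fun z _ => Subgroup.mem_center_iff.mpr fun h => Subtype.ext (Units.ext ?_)
      obtain ⟨c, hc⟩ := hno z.1 z.2
      show (h.1 : Matrix (Fin 4) (Fin 4) F) * (z.1 : Matrix (Fin 4) (Fin 4) F) = _ * _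
      rw [hc, Matrix.mul_smul, Matrix.smul_mul, Matrix.mul_one, Matrix.one_mul]
    have := hP.card_center
    rw [htop, Subgroup.card_top, hP.card] at this
    omega
  obtain ⟨ca, a, hca, ha, hav, haa⟩ := hP.exists_involution hg₀
  have hans : ∀ c : F, (a : Matrix (Fin 4) (Fin 4) F) ≠ c • 1 := fun c hc => hg₀s (ca⁻¹ * c) (by
    rw [mul_smul, ← hc, hav, smul_smul, inv_mul_cancel₀ hca, one_smul])
  obtain ⟨b₀, hb₀, -, hab₀⟩ := hP.exists_anticommute ha hans
  obtain ⟨cb, b, hcb, hb, hbv, hbb⟩ := hP.exists_involution hb₀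
  have hab : (a : Matrix (Fin 4) (Fin 4) F) * (b : Matrix (Fin 4) (Fin 4) F) = -((b : Matrix (Fin 4) (Fin 4) F) * (a : Matrix (Fin 4) (Fin 4) F)) := by
    rw [hbv, Matrix.mul_smul, hab₀, Matrix.smul_mul, smul_neg]
  -- every element can be corrected to commute with an anticommuting pair
  have hfix : ∀ (u v : GL (Fin 4) F), u ∈ R → v ∈ R →
      (u : Matrix (Fin 4) (Fin 4) F) * (v : Matrix (Fin 4) (Fin 4) F) = -((v : Matrix (Fin 4) (Fin 4) F) * (u : Matrix (Fin 4) (Fin 4) F)) →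
      ∀ g ∈ R, ∃ (m1 m2 : Bool) (g' : GL (Fin 4) F), g' ∈ R ∧ g = ((bif m1 then u else 1) * (bif m2 then v else 1)) * g' ∧
        g' * u = u * g' ∧ g' * v = v * g' := by
    intro u v hu hv huv g hg
    have hu0 : ∀ (x y : GL (Fin 4) F), (x : Matrix (Fin 4) (Fin 4) F) * (y : Matrix (Fin 4) (Fin 4) F) =
        -((y : Matrix (Fin 4) (Fin 4) F) * (x : Matrix (Fin 4) (Fin 4) F)) →
        ((x⁻¹ : GL (Fin 4) F) : Matrix (Fin 4) (Fin 4) F) * (y : Matrix (Fin 4) (Fin 4) F) =
          -((y : Matrix (Fin 4) (Fin 4) F) * ((x⁻¹ : GL (Fin 4) F) : Matrix (Fin 4) (Fin 4) F)) := by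
      intro x y h
      calc ((x⁻¹ : GL (Fin 4) F) : Matrix (Fin 4) (Fin 4) F) * (y : Matrix (Fin 4) (Fin 4) F)
          = ((x⁻¹ : GL (Fin 4) F) : Matrix (Fin 4) (Fin 4) F) * ((y : Matrix (Fin 4) (Fin 4) F) * (x : Matrix (Fin 4) (Fin 4) F)) *
              ((x⁻¹ : GL (Fin 4) F) : Matrix (Fin 4) (Fin 4) F) := by
            simp only [Matrix.mul_assoc, Units.mul_inv, Matrix.mul_one]
        _ = _ := by
            rw [show (y : Matrix (Fin 4) (Fin 4) F) * (x : Matrix (Fin 4) (Fin 4) F) =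
              -((x : Matrix (Fin 4) (Fin 4) F) * (y : Matrix (Fin 4) (Fin 4) F)) by rw [h, neg_neg],
              Matrix.mul_neg, ← Matrix.mul_assoc, Units.inv_mul, Matrix.one_mul, Matrix.neg_mul]
    have hvu : (v : Matrix (Fin 4) (Fin 4) F) * (u : Matrix (Fin 4) (Fin 4) F) = -((u : Matrix (Fin 4) (Fin 4) F) * (v : Matrix (Fin 4) (Fin 4) F)) := by
      rw [huv, neg_neg]
    -- `v⁻¹` flips the sign against `u`, and `u⁻¹` the sign against `v`
    have step : ∀ (x y : GL (Fin 4) F), x ∈ R →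
        (x : Matrix (Fin 4) (Fin 4) F) * (y : Matrix (Fin 4) (Fin 4) F) = -((y : Matrix (Fin 4) (Fin 4) F) * (x : Matrix (Fin 4) (Fin 4) F)) →
        ∀ g ∈ R, y ∈ R → ∃ (m : Bool) (g' : GL (Fin 4) F), g' ∈ R ∧ g = (bif m then x else 1) * g' ∧ g' * y = y * g' ∧
          (g * x = x * g → g' * x = x * g') := by
      intro x y hx hxy g hg hy
      rcases hP.comm g hg y hy with e | e
      · exact ⟨false, g, hg, (one_mul g).symm, e, id⟩
      · refine ⟨true, x⁻¹ * g, R.mul_mem (R.inv_mem hx) hg, (mul_inv_cancel_left x g).symm, Units.ext ?_, fun h => ?_⟩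
        · simp only [Units.val_mul]
          rw [Matrix.mul_assoc, e, Matrix.mul_neg, ← Matrix.mul_assoc,
            hu0 x y hxy, Matrix.neg_mul, neg_neg, Matrix.mul_assoc]
        · calc x⁻¹ * g * x = x⁻¹ * (g * x) := mul_assoc _ _ _
            _ = x * (x⁻¹ * g) := by rw [h, inv_mul_cancel_left, mul_inv_cancel_left]
    obtain ⟨m1, g1, hg1, hgg1, hg1v, -⟩ := step u v hu huv g hg hv
    obtain ⟨m2, g2, hg2, hgg2, hg2u, hg2v⟩ := step v u hv hvu g1 hg1 hu
    exact ⟨m1, m2, g2, hg2, by rw [hgg1, hgg2, mul_assoc], hg2u, hg2v hg1v⟩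
  obtain ⟨c₀, hc₀, hc₀a, hc₀b, d₀, hd₀, hd₀a, hd₀b, hcd₀⟩ : ∃ c ∈ R, c * a = a * c ∧ c * b = b * c ∧ ∃ d ∈ R,
      d * a = a * d ∧ d * b = b * d ∧ (c : Matrix (Fin 4) (Fin 4) F) * (d : Matrix (Fin 4) (Fin 4) F) =
        -((d : Matrix (Fin 4) (Fin 4) F) * (c : Matrix (Fin 4) (Fin 4) F)) := by
    by_contra hno
    have habel : ∀ x ∈ R, x * a = a * x → x * b = b * x → ∀ y ∈ R, y * a = a * y → y * b = b * y → x * y = y * x :=
      fun x hx h1 h2 y hy h3 h4 => (hP.comm x hx y hy).resolve_right fun e => hno ⟨x, hx, h1, h2, y, hy, h3, h4, e⟩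
    let ψ : Bool × Bool × Subgroup.center R → R := fun t =>
      (bif t.1 then ⟨a, ha⟩ else 1) * (bif t.2.1 then ⟨b, hb⟩ else 1) * t.2.2.1
    have hψ : Function.Surjective ψ := by
      intro g
      obtain ⟨m1, m2, g', hg', hgg', hga, hgb⟩ := hfix a b ha hb hab g.1 g.2
      have hz : (⟨g', hg'⟩ : R) ∈ Subgroup.center R := by
        refine Subgroup.mem_center_iff.mpr fun h => Subtype.ext ?_
        obtain ⟨k1, k2, h', hh', hhh', hha, hhb⟩ := hfix a b ha hb hab h.1 h.2
        show h.1 * g' = g' * h.1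
        have e := habel g' hg' hga hgb h' hh' hha hhb
        rw [hhh']
        cases k1 <;> cases k2 <;>
          simp only [cond_true, cond_false, one_mul, mul_one] <;>
          simp only [mul_assoc, ← e] <;>
          simp only [← mul_assoc, hga, hgb]
        simp only [mul_assoc, hgb]
      refine ⟨(m1, m2, ⟨⟨g', hg'⟩, hz⟩), Subtype.ext ?_⟩
      rw [hgg']
      cases m1 <;> cases m2 <;> rfl
    have := Nat.card_le_card_of_surjective ψ hψ
    rw [Nat.card_prod, Nat.card_prod, hP.card, hP.card_center] at this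
    simp at this
  obtain ⟨cc, c, hcc, hc, hcv, hcc'⟩ := hP.exists_involution hc₀
  obtain ⟨cd, d, hcd', hd, hdv, hdd⟩ := hP.exists_involution hd₀
  have hswap : ∀ (k : F) (x x₀ y : GL (Fin 4) F), (x : Matrix (Fin 4) (Fin 4) F) = k • (x₀ : Matrix (Fin 4) (Fin 4) F) →
      x₀ * y = y * x₀ → (x : Matrix (Fin 4) (Fin 4) F) * (y : Matrix (Fin 4) (Fin 4) F) = (y : Matrix (Fin 4) (Fin 4) F) * (x : Matrix (Fin 4) (Fin 4) F) :=
    fun k x x₀ y hx e => by
      rw [hx, Matrix.smul_mul, Matrix.mul_smul, ← Units.val_mul, e, Units.val_mul]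
  have hca_ := hswap cc c c₀ a hcv hc₀a
  have hcb_ := hswap cc c c₀ b hcv hc₀b
  have hda_ := hswap cd d d₀ a hdv hd₀a
  have hdb_ := hswap cd d d₀ b hdv hd₀b
  have hcd : (c : Matrix (Fin 4) (Fin 4) F) * (d : Matrix (Fin 4) (Fin 4) F) = -((d : Matrix (Fin 4) (Fin 4) F) * (c : Matrix (Fin 4) (Fin 4) F)) := by
    rw [hcv, hdv, Matrix.smul_mul, Matrix.mul_smul, hcd₀, Matrix.smul_mul, Matrix.mul_smul, smul_neg, smul_neg, smul_smul,
      smul_smul, mul_comm]
  -- a common fixed vector of a and c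
  set A := (a : Matrix (Fin 4) (Fin 4) F)
  set B := (b : Matrix (Fin 4) (Fin 4) F)
  set Cm := (c : Matrix (Fin 4) (Fin 4) F)
  set D := (d : Matrix (Fin 4) (Fin 4) F)
  have happ : ∀ {M N : Matrix (Fin 4) (Fin 4) F} (w : Fin 4 → F), M * N = 1 → M.mulVec (N.mulVec w) = w := fun w h => by
    rw [Matrix.mulVec_mulVec, h, Matrix.one_mulVec]
  have hmove : ∀ {M N : Matrix (Fin 4) (Fin 4) F} (w : Fin 4 → F), M * N = N * M →
      M.mulVec (N.mulVec w) = N.mulVec (M.mulVec w) := fun w h => by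
    rw [Matrix.mulVec_mulVec, h, ← Matrix.mulVec_mulVec]
  have hanti : ∀ {M N : Matrix (Fin 4) (Fin 4) F} (w : Fin 4 → F), M * N = -(N * M) →
      M.mulVec (N.mulVec w) = -(N.mulVec (M.mulVec w)) := fun w h => by
    rw [Matrix.mulVec_mulVec, h, Matrix.neg_mulVec, ← Matrix.mulVec_mulVec]
  obtain ⟨u, hu0, hau⟩ : ∃ u : Fin 4 → F, u ≠ 0 ∧ A.mulVec u = u := by
    by_contra hno
    push Not at hno
    refine hans (-1) (Matrix.ext_iff_mulVec.2 fun w => ?_)
    have h1 : A.mulVec (w + A.mulVec w) = w + A.mulVec w := by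
      rw [Matrix.mulVec_add, happ w haa, add_comm]
    by_cases h0 : w + A.mulVec w = 0
    · rw [Matrix.smul_mulVec, Matrix.one_mulVec, neg_one_smul]
      exact eq_neg_of_add_eq_zero_right h0
    · exact absurd h1 (hno _ h0)
  obtain ⟨v, hv0, hav', hcv'⟩ : ∃ v : Fin 4 → F, v ≠ 0 ∧ A.mulVec v = v ∧ Cm.mulVec v = v := by
    by_cases h0 : u + Cm.mulVec u = 0
    · have hcu : Cm.mulVec u = -u := eq_neg_of_add_eq_zero_right h0
      refine ⟨D.mulVec u, fun h => hu0 ?_, ?_, ?_⟩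
      · have := congrArg D.mulVec h
        rwa [happ u hdd, Matrix.mulVec_zero] at this
      · rw [hmove u hda_.symm, hau]
      · rw [hanti u hcd, hcu, Matrix.mulVec_neg, neg_neg]
    · refine ⟨_, h0, ?_, ?_⟩
      · rw [Matrix.mulVec_add, hmove u hca_.symm, hau]
      · rw [Matrix.mulVec_add, happ u hcc', add_comm]
  let col : Fin 4 → (Fin 4 → F) := ![v, D.mulVec v, B.mulVec v, B.mulVec (D.mulVec v)]
  have hA' : ∀ i, A.mulVec (col i) = (![1, 1, -1, -1] : Fin 4 → F) i • col i := by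
    have e1 : A.mulVec (D.mulVec v) = D.mulVec v := by rw [hmove v hda_.symm, hav']
    intro i
    fin_cases i
    · show A.mulVec v = (1 : F) • v
      rw [hav', one_smul]
    · show A.mulVec (D.mulVec v) = (1 : F) • D.mulVec v
      rw [e1, one_smul]
    · show A.mulVec (B.mulVec v) = (-1 : F) • B.mulVec v
      rw [hanti v hab, hav', neg_one_smul]
    · show A.mulVec (B.mulVec (D.mulVec v)) = (-1 : F) • B.mulVec (D.mulVec v)
      rw [hanti _ hab, e1, neg_one_smul]
  have hC' : ∀ i, Cm.mulVec (col i) = (![1, -1, 1, -1] : Fin 4 → F) i • col i := by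
    have e1 : Cm.mulVec (D.mulVec v) = -(D.mulVec v) := by rw [hanti v hcd, hcv']
    intro i
    fin_cases i
    · show Cm.mulVec v = (1 : F) • v
      rw [hcv', one_smul]
    · show Cm.mulVec (D.mulVec v) = (-1 : F) • D.mulVec v
      rw [e1, neg_one_smul]
    · show Cm.mulVec (B.mulVec v) = (1 : F) • B.mulVec v
      rw [hmove v hcb_, hcv', one_smul]
    · show Cm.mulVec (B.mulVec (D.mulVec v)) = (-1 : F) • B.mulVec (D.mulVec v)
      rw [hmove _ hcb_, e1, Matrix.mulVec_neg, neg_one_smul]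
  have hne : ∀ i, col i ≠ 0 := by
    have e1 : D.mulVec v ≠ 0 := fun h => hv0 (by rw [← happ v hdd, h, Matrix.mulVec_zero])
    intro i
    fin_cases i
    · exact hv0
    · exact e1
    · exact fun h => hv0 (by rw [← happ v hbb, show B.mulVec v = 0 from h, Matrix.mulVec_zero])
    · exact fun h => e1 (by rw [← happ (D.mulVec v) hbb, show B.mulVec (D.mulVec v) = 0 from h, Matrix.mulVec_zero])
  have hind : LinearIndependent F col := by
    refine Fintype.linearIndependent_iff.mpr fun x hx => ?_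
    have s0 : x 0 • col 0 + x 1 • col 1 + x 2 • col 2 + x 3 • col 3 = 0 := by rw [← hx, Fin.sum_univ_four]
    have sA := congrArg A.mulVec s0
    simp only [Matrix.mulVec_add, Matrix.mulVec_smul, Matrix.mulVec_zero, hA'] at sA
    have sC := congrArg Cm.mulVec s0
    simp only [Matrix.mulVec_add, Matrix.mulVec_smul, Matrix.mulVec_zero, hC'] at sC
    have sAC := congrArg Cm.mulVec sA
    simp only [Matrix.mulVec_add, Matrix.mulVec_smul, Matrix.mulVec_zero, hC'] at sAC
    simp at sA sC sAC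
    have h4 : (4 : F) ≠ 0 := by rw [show (4 : F) = 2 * 2 by norm_num]; exact mul_ne_zero h2 h2
    have key : ∀ i, (4 * x i) • col i = 0 → x i = 0 := fun i h =>
      (mul_eq_zero.mp ((smul_eq_zero.mp h).resolve_right (hne i))).resolve_left h4
    intro i
    fin_cases i
    · exact key 0 (by linear_combination (norm := module) s0 + sA + sC + sAC)
    · exact key 1 (by linear_combination (norm := module) s0 + sA - sC - sAC)
    · exact key 2 (by linear_combination (norm := module) s0 - sA + sC - sAC)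
    · exact key 3 (by linear_combination (norm := module) s0 - sA - sC + sAC)
  let Q : Matrix (Fin 4) (Fin 4) F := Matrix.of fun k i => col i k
  have hQ : IsUnit Q := Matrix.linearIndependent_cols_iff_isUnit.mp (hind : LinearIndependent F Q.col)
  have hdiag : ∀ (M : Matrix (Fin 4) (Fin 4) F) (w : Fin 4 → F), (∀ i, M.mulVec (col i) = w i • col i) →
      M * Q = Q * Matrix.diagonal w := fun M w h => Matrix.ext fun k i => by
    rw [Matrix.mul_diagonal]
    have := congrFun (h i) k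
    rw [Pi.smul_apply, smul_eq_mul, mul_comm] at this
    exact this
  have hperm : ∀ (M P : Matrix (Fin 4) (Fin 4) F), (∀ i, M.mulVec (col i) = ∑ j, P j i • col j) → M * Q = Q * P :=
    fun M P h => Matrix.ext fun k i => by
      have := congrFun (h i) k
      rw [Finset.sum_apply] at this
      refine this.trans ?_
      rw [Matrix.mul_apply]
      exact Finset.sum_congr rfl fun j _ => mul_comm _ _
  have hQA : A * Q = Q * pA := hdiag A _ hA'
  have hQC : Cm * Q = Q * pC := hdiag Cm _ hC'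
  have hQB : B * Q = Q * pB := by
    refine hperm B pB fun i => ?_
    rw [Fin.sum_univ_four]
    fin_cases i <;> simp [pB, col, happ _ hbb, -Matrix.mulVec_mulVec]
  have hQD : D * Q = Q * pD := by
    refine hperm D pD fun i => ?_
    rw [Fin.sum_univ_four]
    fin_cases i <;> simp [pD, col, happ _ hdd, hmove _ hdb_, -Matrix.mulVec_mulVec]
  refine ⟨a, b, c, d, hQ.unit, ha, hb, hc, hd, hQA, hQB, hQC, hQD, fun g hg => ?_⟩
  obtain ⟨m1, m2, g', hg', hgg', hga, hgb⟩ := hfix a b ha hb hab g hg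
  obtain ⟨m3, m4, g'', hg'', hgg'', hgc, hgd⟩ := hfix c d hc hd hcd g' hg'
  have hin : ∀ y : GL (Fin 4) F, g' * y = y * g' → c * y = y * c → d * y = y * d → g'' * y = y * g'' := by
    intro y h1 h3 h4
    have e : g'' = ((bif m3 then c else 1) * (bif m4 then d else 1))⁻¹ * g' := by rw [hgg'', inv_mul_cancel_left]
    have hc3 : Commute (bif m3 then c else 1) y := by cases m3; exacts [Commute.one_left y, h3]
    have hc4 : Commute (bif m4 then d else 1) y := by cases m4; exacts [Commute.one_left y, h4]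
    rw [e]
    exact ((hc3.mul_left hc4).inv_left).mul_left h1
  have hga' := hin a hga (Units.ext hca_) (Units.ext hda_)
  have hgb' := hin b hgb (Units.ext hcb_) (Units.ext hdb_)
  have hconj : ∀ (y : GL (Fin 4) F) (P : Matrix (Fin 4) (Fin 4) F), g'' * y = y * g'' →
      (y : Matrix (Fin 4) (Fin 4) F) * Q = Q * P →
      ((hQ.unit⁻¹ * g'' * hQ.unit : GL (Fin 4) F) : Matrix (Fin 4) (Fin 4) F) * P =
        P * ((hQ.unit⁻¹ * g'' * hQ.unit : GL (Fin 4) F) : Matrix (Fin 4) (Fin 4) F) := by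
    intro y P e hy
    have hP' : P = ((hQ.unit⁻¹ * y * hQ.unit : GL (Fin 4) F) : Matrix (Fin 4) (Fin 4) F) := by
      rw [Units.val_mul, Units.val_mul, IsUnit.unit_spec, Matrix.mul_assoc, hy, ← Matrix.mul_assoc,
        IsUnit.val_inv_mul, Matrix.one_mul]
    rw [hP', ← Units.val_mul, ← Units.val_mul]
    congr 1
    calc hQ.unit⁻¹ * g'' * hQ.unit * (hQ.unit⁻¹ * y * hQ.unit) = hQ.unit⁻¹ * (g'' * y) * hQ.unit := by group
      _ = _ := by rw [e]; group
  obtain ⟨e, he⟩ := scalar_of_commute_pauli h2 (hconj a pA hga' hQA) (hconj b pB hgb' hQB) (hconj c pC hgc hQC)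
    (hconj d pD hgd hQD)
  have hge : (g'' : Matrix (Fin 4) (Fin 4) F) = e • 1 := by
    rw [show g'' = hQ.unit * (hQ.unit⁻¹ * g'' * hQ.unit) * hQ.unit⁻¹ by group, Units.val_mul, Units.val_mul, he,
      Matrix.mul_smul, Matrix.smul_mul, Matrix.mul_one, ← Units.val_mul, mul_inv_cancel, Units.val_one]
  refine ⟨g'', e, m1, m2, m3, m4, hg'', hge, ?_⟩
  rw [hgg', hgg'']
  have hz : ∀ y : GL (Fin 4) F, g'' * y = y * g'' := fun y => Units.ext (by
    rw [Units.val_mul, Units.val_mul, hge, Matrix.smul_mul, Matrix.mul_smul, Matrix.one_mul, Matrix.mul_one])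
  rw [hz]
  simp only [mul_assoc]

end Cfsg.Agent.PrimeOrderElt
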