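import Cfsg.Agent.Lib.PrimeOrderElt.SymplecticFour
import Mathlib.GroupTheory.Perm.Cycle.Type
/-
The normaliser of 4 ∘ 2^(1+4) in GL_4(F).
* `mem_normalizer_frame` : a criterion in a Pauli frame
* `fixed_count`          : for an element of odd prime order r modulo scalars, the number F of fixed cosets
* `orbit_bound`          : r · dim(commutant) ≤ 16 + (r - 1) · F
-/

set_option autoImplicit false
set_option linter.style.haveILetI false

namespace Cfsg.Agent.PrimeOrderElt

open Module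
open scoped MatrixGroups

variable {F : Type*} [Field F]

/-- A matrix of R in the frame C. -/
def InFrame (R : Subgroup (GL (Fin 4) F)) (C : GL (Fin 4) F) (P : Matrix (Fin 4) (Fin 4) F) : Prop :=
  ∃ h ∈ R, (h : Matrix (Fin 4) (Fin 4) F) * (C : Matrix (Fin 4) (Fin 4) F) = (C : Matrix (Fin 4) (Fin 4) F) * P

theorem InFrame.mul {R : Subgroup (GL (Fin 4) F)} {C : GL (Fin 4) F} {P Q : Matrix (Fin 4) (Fin 4) F}
    (hP : InFrame R C P) (hQ : InFrame R C Q) : InFrame R C (P * Q) := by
  obtain ⟨h, hh, eh⟩ := hP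
  obtain ⟨k, hk, ek⟩ := hQ
  exact ⟨h * k, R.mul_mem hh hk, by
    rw [Units.val_mul, Matrix.mul_assoc, ek, ← Matrix.mul_assoc, eh, Matrix.mul_assoc]⟩

theorem InFrame.smul {R : Subgroup (GL (Fin 4) F)} {C : GL (Fin 4) F} (hP : IsPauliFour R)
    {P : Matrix (Fin 4) (Fin 4) F} (h : InFrame R C P) {l : F} (hl : l ^ 4 = 1) : InFrame R C (l • P) := by
  obtain ⟨h', hh, eh⟩ := h
  have hl0 : l ≠ 0 := fun h0 => by rw [h0, zero_pow (by norm_num)] at hl; exact zero_ne_one hl
  refine ⟨scalarUnit (Units.mk0 l hl0) * h', R.mul_mem (hP.scalar_mem _ hl) hh, ?_⟩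
  rw [Units.val_mul, scalarUnit_val, Units.val_mk0, Matrix.smul_mul, Matrix.one_mul, Matrix.smul_mul, eh, Matrix.mul_smul]

theorem scalar_central (c : Fˣ) (g : GL (Fin 4) F) : g * scalarUnit c = scalarUnit c * g :=
  Units.ext (by rw [Units.val_mul, Units.val_mul, scalarUnit_val, Matrix.mul_smul, Matrix.smul_mul, Matrix.one_mul, Matrix.mul_one])

theorem mem_normalizer_of_conj [Finite F] {R : Subgroup (GL (Fin 4) F)} {g : GL (Fin 4) F}
    (h : ∀ x ∈ R, g * x * g⁻¹ ∈ R) : g ∈ Cfsg.Geo.subgroupNormalizer R := by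
  have hmap : R.map (MulAut.conj g).toMonoidHom ≤ R := by
    rintro _ ⟨x, hx, rfl⟩
    exact h x hx
  have heq : R.map (MulAut.conj g).toMonoidHom = R :=
    Subgroup.eq_of_le_of_card_ge hmap (Nat.card_congr (R.equivMapOfInjective _ (MulAut.conj g).injective).toEquiv).le
  refine Subgroup.mem_normalizer_iff.mpr fun x => ⟨h x, fun hx => ?_⟩
  obtain ⟨y, hy, e⟩ := heq.ge hx
  have : y = x := (MulAut.conj g).injective e
  exact this ▸ hy

/-- Membership of the normaliser, read in the frame. -/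
theorem mem_normalizer_frame [Finite F] {R : Subgroup (GL (Fin 4) F)} {a b c d C : GL (Fin 4) F}
    (hf : IsPauliFrame R a b c d C) {g : GL (Fin 4) F} {W PA PB PC PD : Matrix (Fin 4) (Fin 4) F}
    (hg : (g : Matrix (Fin 4) (Fin 4) F) * (C : Matrix (Fin 4) (Fin 4) F) = (C : Matrix (Fin 4) (Fin 4) F) * W)
    (hPA : InFrame R C PA) (hA : W * pA = PA * W) (hPB : InFrame R C PB) (hB : W * pB = PB * W)
    (hPC : InFrame R C PC) (hC : W * pC = PC * W) (hPD : InFrame R C PD) (hD : W * pD = PD * W) :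
    g ∈ Cfsg.Geo.subgroupNormalizer R := by
  have key : ∀ (x : GL (Fin 4) F) (G P : Matrix (Fin 4) (Fin 4) F),
      (x : Matrix (Fin 4) (Fin 4) F) * (C : Matrix (Fin 4) (Fin 4) F) = (C : Matrix (Fin 4) (Fin 4) F) * G →
      InFrame R C P → W * G = P * W → g * x * g⁻¹ ∈ R := by
    intro x G P hx hP hW
    obtain ⟨h, hh, eh⟩ := hP
    have e : g * x = h * g := by
      refine mul_right_cancel (b := C) (Units.ext ?_)
      simp only [Units.val_mul]
      rw [Matrix.mul_assoc, hx, ← Matrix.mul_assoc, hg, Matrix.mul_assoc, hW, ← Matrix.mul_assoc, ← eh, Matrix.mul_assoc,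
        ← hg, ← Matrix.mul_assoc]
    rw [e, mul_inv_cancel_right]
    exact hh
  have ka := key a _ PA hf.haC hPA hA
  have kb := key b _ PB hf.hbC hPB hB
  have kc := key c _ PC hf.hcC hPC hC
  have kd := key d _ PD hf.hdC hPD hD
  refine mem_normalizer_of_conj fun x hx => ?_
  obtain ⟨z, e, m1, m2, m3, m4, hz, hze, rfl⟩ := hf.gen x hx
  have hzg : g * z = z * g := Units.ext (by
    rw [Units.val_mul, Units.val_mul, hze, Matrix.mul_smul, Matrix.smul_mul, Matrix.one_mul, Matrix.mul_one])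
  have hone : ∀ (m : Bool) (u : GL (Fin 4) F), g * u * g⁻¹ ∈ R → g * (bif m then u else 1) * g⁻¹ ∈ R := by
    intro m u hu
    cases m
    · simp
    · exact hu
  have hsplit : ∀ u v : GL (Fin 4) F, g * u * g⁻¹ ∈ R → g * v * g⁻¹ ∈ R → g * (u * v) * g⁻¹ ∈ R := fun u v hu hv => by
    rw [show g * (u * v) * g⁻¹ = (g * u * g⁻¹) * (g * v * g⁻¹) by group]
    exact R.mul_mem hu hv
  exact hsplit _ _ (by rw [hzg, mul_inv_cancel_right]; exact hz)
    (hsplit _ _ (hsplit _ _ (hsplit _ _ (hone m1 a ka) (hone m2 b kb)) (hone m3 c kc)) (hone m4 d kd))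

variable [Fintype F]

open Classical in
/-- The commutant of a matrix. -/
def commutant (M : Matrix (Fin 4) (Fin 4) F) : Submodule F (Matrix (Fin 4) (Fin 4) F) where
  carrier := {X | X * M = M * X}
  add_mem' := fun {X Y} hX hY => by
    simp only [Set.mem_setOf_eq] at *
    rw [Matrix.add_mul, Matrix.mul_add, hX, hY]
  zero_mem' := by simp
  smul_mem' := fun c X hX => by
    simp only [Set.mem_setOf_eq] at *
    rw [Matrix.smul_mul, Matrix.mul_smul, hX]

omit [Fintype F] in
theorem mem_commutant {M X : Matrix (Fin 4) (Fin 4) F} : X ∈ commutant M ↔ X * M = M * X := Iff.rfl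

omit [Fintype F] in
theorem commutant_conj_finrank (x g : GL (Fin 4) F) :
    finrank F (commutant ((g⁻¹ * x * g : GL (Fin 4) F) : Matrix (Fin 4) (Fin 4) F)) =
      finrank F (commutant (x : Matrix (Fin 4) (Fin 4) F)) := by
  let φ : Matrix (Fin 4) (Fin 4) F ≃ₗ[F] Matrix (Fin 4) (Fin 4) F :=
    { toFun := fun X => (g : Matrix (Fin 4) (Fin 4) F) * X * ((g⁻¹ : GL (Fin 4) F) : Matrix (Fin 4) (Fin 4) F)
      invFun := fun X => ((g⁻¹ : GL (Fin 4) F) : Matrix (Fin 4) (Fin 4) F) * X * (g : Matrix (Fin 4) (Fin 4) F)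
      map_add' := fun X Y => by rw [Matrix.mul_add, Matrix.add_mul]
      map_smul' := fun c X => by rw [Matrix.mul_smul, Matrix.smul_mul]; rfl
      left_inv := fun X => by simp [Matrix.mul_assoc]
      right_inv := fun X => by simp [Matrix.mul_assoc] }
  have hmap : (commutant ((g⁻¹ * x * g : GL (Fin 4) F) : Matrix (Fin 4) (Fin 4) F)).map (φ : _ →ₗ[F] _) =
      commutant (x : Matrix (Fin 4) (Fin 4) F) := by
    ext Y
    obtain ⟨X, rfl⟩ := φ.surjective Y
    rw [Submodule.mem_map_equiv, LinearEquiv.symm_apply_apply, mem_commutant, mem_commutant]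
    show _ ↔ (g : Matrix (Fin 4) (Fin 4) F) * X * ((g⁻¹ : GL (Fin 4) F) : Matrix (Fin 4) (Fin 4) F) * (x : Matrix (Fin 4) (Fin 4) F) =
      (x : Matrix (Fin 4) (Fin 4) F) * ((g : Matrix (Fin 4) (Fin 4) F) * X * ((g⁻¹ : GL (Fin 4) F) : Matrix (Fin 4) (Fin 4) F))
    simp only [Units.val_mul]
    constructor
    · intro h
      have h' := congrArg (fun Z => (g : Matrix (Fin 4) (Fin 4) F) * Z * ((g⁻¹ : GL (Fin 4) F) : Matrix (Fin 4) (Fin 4) F)) h
      simpa [Matrix.mul_assoc] using h'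
    · intro h
      have h' := congrArg (fun Z => ((g⁻¹ : GL (Fin 4) F) : Matrix (Fin 4) (Fin 4) F) * Z * (g : Matrix (Fin 4) (Fin 4) F)) h
      simpa [Matrix.mul_assoc] using h'
  rw [← hmap, LinearEquiv.finrank_map_eq φ]

/-- Main count for an element of odd prime order modulo scalars normalising R. -/
theorem orbit_bound {R : Subgroup (GL (Fin 4) F)} (hP : IsPauliFour R) {r : ℕ} [Fact r.Prime] (hr : r ≠ 2)
    {y : GL (Fin 4) F} (hy : y ∈ Cfsg.Geo.subgroupNormalizer R)
    (hyr : ∃ c : F, ((y ^ r : GL (Fin 4) F) : Matrix (Fin 4) (Fin 4) F) = c • 1)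
    (hns : ∀ c : F, (y : Matrix (Fin 4) (Fin 4) F) ≠ c • 1) :
    ∃ f : ℕ, f ∣ 16 ∧ f < 16 ∧ (f : ℕ) ≡ 16 [MOD r] ∧ (r = 7 → f ≠ 2) ∧
      r * finrank F (commutant (y : Matrix (Fin 4) (Fin 4) F)) ≤ 16 + (r - 1) * f := by
  classical
  obtain ⟨c₀, hc₀⟩ := hyr
  let φ : MulAut R :=
    { toFun := fun h => ⟨y * h * y⁻¹, (Subgroup.mem_normalizer_iff.mp hy h).mp h.2⟩
      invFun := fun h => ⟨y⁻¹ * h * y, (Subgroup.mem_normalizer_iff.mp hy _).mpr (by
        show y * (y⁻¹ * h * y) * y⁻¹ ∈ R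
        simp [mul_assoc])⟩
      left_inv := fun h => Subtype.ext (by simp [mul_assoc])
      right_inv := fun h => Subtype.ext (by simp [mul_assoc])
      map_mul' := fun u v => Subtype.ext (by simp [mul_assoc]) }
  have hφr : ∀ h : R, (φ^[r]) h = h := by
    have hk : ∀ (k : ℕ) (h : R), (((φ^[k]) h : R) : GL (Fin 4) F) = y ^ k * h * (y ^ k)⁻¹ := by
      intro k
      induction k with
      | zero => intro h; simp
      | succ k ih =>
        intro h
        rw [Function.iterate_succ_apply']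
        show y * (((φ^[k]) h : R) : GL (Fin 4) F) * y⁻¹ = _
        rw [ih, pow_succ']
        group
    intro h
    refine Subtype.ext ?_
    rw [hk, mul_inv_eq_iff_eq_mul]
    refine Units.ext ?_
    rw [Units.val_mul, Units.val_mul, hc₀, Matrix.smul_mul, Matrix.mul_smul, Matrix.one_mul, Matrix.mul_one]
  set Z := Subgroup.center R with hZ
  have hZmap : Z.map φ.toMonoidHom = Z :=
    Subgroup.characteristic_iff_map_eq.mp (inferInstanceAs Z.Characteristic) φ
  let σ : (R ⧸ Z) ≃* (R ⧸ Z) := QuotientGroup.congr Z Z φ hZmap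
  have hσmk : ∀ h : R, σ (h : R ⧸ Z) = ((φ h : R) : R ⧸ Z) := fun h => rfl
  have hσr : ∀ u : R ⧸ Z, (σ^[r]) u = u := by
    intro u
    obtain ⟨h, rfl⟩ := QuotientGroup.mk_surjective u
    have hk : ∀ k : ℕ, (σ^[k]) (h : R ⧸ Z) = (((φ^[k]) h : R) : R ⧸ Z) := by
      intro k
      induction k with
      | zero => rfl
      | succ k ih => rw [Function.iterate_succ_apply', Function.iterate_succ_apply', ih, hσmk]
    rw [hk, hφr]
  have hQ : Nat.card (R ⧸ Z) = 16 := by
    have h := Subgroup.card_eq_card_quotient_mul_card_subgroup Z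
    rw [hP.card, hP.card_center] at h
    omega
  letI : Fintype (R ⧸ Z) := Fintype.ofFinite _
  have hQ' : Fintype.card (R ⧸ Z) = 16 := by rw [← Nat.card_eq_fintype_card, hQ]
  let β : R ⧸ Z → GL (Fin 4) F := fun u => (Quotient.out u : R)
  have hβR : ∀ u, β u ∈ R := fun u => (Quotient.out u : R).2
  have hβ : ∀ h : R, ∃ l : F, l ≠ 0 ∧
      ((h : GL (Fin 4) F) : Matrix (Fin 4) (Fin 4) F) = l • (β (h : R ⧸ Z) : Matrix (Fin 4) (Fin 4) F) := by
    intro h
    obtain ⟨z, hz⟩ := QuotientGroup.mk_out_eq_mul Z h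
    obtain ⟨e, he⟩ := hP.scalar_of_mem_center (z := z.1⁻¹) (Z.inv_mem z.2)
    refine ⟨e, fun h0 => ?_, ?_⟩
    · rw [h0, zero_smul] at he
      exact (Matrix.isUnit_iff_isUnit_det _).mp ((z.1⁻¹ : R) : GL (Fin 4) F).isUnit |>.ne_zero (by rw [he]; simp)
    · have h1 : (h : GL (Fin 4) F) = β (h : R ⧸ Z) * ((z.1⁻¹ : R) : GL (Fin 4) F) := by
        show (h : GL (Fin 4) F) = ((Quotient.out (h : R ⧸ Z) : R) : GL (Fin 4) F) * _
        rw [hz]
        simp
      rw [h1, Units.val_mul, he, Matrix.mul_smul, Matrix.mul_one]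
  have hscal : ∀ (h : R) (e : F), ((h : GL (Fin 4) F) : Matrix (Fin 4) (Fin 4) F) = e • 1 → h ∈ Z := fun h e he =>
    Subgroup.mem_center_iff.mpr fun u => Subtype.ext (Units.ext (by
      show ((u : GL (Fin 4) F) : Matrix (Fin 4) (Fin 4) F) * _ = ((h : GL (Fin 4) F) : Matrix (Fin 4) (Fin 4) F) * (u : GL (Fin 4) F).val
      rw [he, Matrix.mul_smul, Matrix.smul_mul, Matrix.one_mul, Matrix.mul_one]))
  -- orthogonality of the representatives
  have hli : LinearIndependent F (fun u => (β u : Matrix (Fin 4) (Fin 4) F)) := by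
    refine Fintype.linearIndependent_iff.mpr fun x hx u => ?_
    have h := congrArg (fun M => ((((β u)⁻¹ : GL (Fin 4) F) : Matrix (Fin 4) (Fin 4) F) * M).trace) hx
    simp only [Matrix.mul_sum, Matrix.mul_smul, Matrix.trace_sum, Matrix.trace_smul, Matrix.mul_zero, Matrix.trace_zero,
      smul_eq_mul] at h
    rw [Finset.sum_eq_single u ?_ (by simp)] at h
    · rw [Units.inv_mul, Matrix.trace_one, Fintype.card_fin] at h
      refine (mul_eq_zero.mp h).resolve_right ?_
      rw [show ((4 : ℕ) : F) = 2 * 2 by norm_num]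
      exact mul_ne_zero hP.two_ne hP.two_ne
    · intro v _ hv
      rw [← Units.val_mul, hP.trace_eq_zero (R.mul_mem (R.inv_mem (hβR u)) (hβR v)), mul_zero]
      intro e he
      refine hv ?_
      have h1 : (⟨(β u)⁻¹ * β v, R.mul_mem (R.inv_mem (hβR u)) (hβR v)⟩ : R) ∈ Z := hscal _ e he
      have h2 : (Quotient.out u : R)⁻¹ * (Quotient.out v : R) ∈ Z := h1
      have h3 : ((Quotient.out u : R) : R ⧸ Z) = ((Quotient.out v : R) : R ⧸ Z) := QuotientGroup.eq.mpr h2
      rw [QuotientGroup.out_eq', QuotientGroup.out_eq'] at h3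
      exact h3.symm
  have hspan : Submodule.span F (Set.range fun u => (β u : Matrix (Fin 4) (Fin 4) F)) = ⊤ :=
    hli.span_eq_top_of_card_eq_finrank (by
      rw [hQ', Module.finrank_matrix, Module.finrank_self, Fintype.card_fin])
  let bas : Basis (R ⧸ Z) F (Matrix (Fin 4) (Fin 4) F) := Basis.mk hli hspan.ge
  have hbas : ∀ u, bas u = (β u : Matrix (Fin 4) (Fin 4) F) := fun u => Basis.mk_apply _ _ u
  -- the action of y
  set Y := (y : Matrix (Fin 4) (Fin 4) F) with hY
  set Y' := ((y⁻¹ : GL (Fin 4) F) : Matrix (Fin 4) (Fin 4) F) with hY'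
  have hact : ∀ u, ∃ l : F, l ≠ 0 ∧ Y * bas u * Y' = l • bas (σ u) := by
    intro u
    obtain ⟨l, hl, e⟩ := hβ (φ (Quotient.out u : R))
    refine ⟨l, hl, ?_⟩
    rw [hbas, hbas, show σ u = ((φ (Quotient.out u : R) : R) : R ⧸ Z) by rw [← hσmk, QuotientGroup.out_eq'],
      ← e, hY, hY', ← Units.val_mul, ← Units.val_mul]
    rfl
  choose lam hlam0 hlam using hact
  have hco : ∀ M ∈ commutant Y, ∀ u, bas.repr M (σ u) = lam u * bas.repr M u := by
    intro M hM u
    have h1 : Y * M * Y' = M := by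
      rw [← mem_commutant.mp hM, Matrix.mul_assoc, hY, hY', Units.mul_inv, Matrix.mul_one]
    have h2 : Y * M * Y' = ∑ v, (lam v * bas.repr M v) • bas (σ v) := by
      conv_lhs => rw [← bas.sum_repr M]
      rw [Matrix.mul_sum, Matrix.sum_mul]
      exact Finset.sum_congr rfl fun v _ => by
        rw [Matrix.mul_smul, Matrix.smul_mul, hlam, smul_smul, mul_comm]
    have h3 := congrArg (fun N => bas.repr N (σ u)) (h1.symm.trans h2)
    simp only [map_sum, map_smul, Finsupp.coe_finsetSum, Finset.sum_apply, Finsupp.coe_smul, Pi.smul_apply,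
      Basis.repr_self, smul_eq_mul] at h3
    rw [h3, Finset.sum_eq_single u (fun v _ hv => by
      rw [Finsupp.single_apply, if_neg (fun e => hv (σ.injective e)), mul_zero]) (by simp), Finsupp.single_eq_same, mul_one]
  -- orbits
  let s : Equiv.Perm (R ⧸ Z) := σ.toEquiv
  have hs : ∀ u, s u = σ u := fun _ => rfl
  have hspow : ∀ (k : ℕ) u, (s ^ k) u = (σ^[k]) u := fun k u => by rw [← Equiv.Perm.iterate_eq_pow]; rfl
  letI : Setoid (R ⧸ Z) := Equiv.Perm.SameCycle.setoid s
  let O := Quotient (Equiv.Perm.SameCycle.setoid s)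
  let res : commutant Y →ₗ[F] (O → F) :=
    { toFun := fun M o => bas.repr M.1 o.out
      map_add' := fun M N => funext fun o => by simp
      map_smul' := fun c M => funext fun o => by simp }
  have hres : Function.Injective res := by
    rw [← LinearMap.ker_eq_bot, LinearMap.ker_eq_bot']
    intro M hM
    refine Subtype.ext (bas.repr.injective (Finsupp.ext fun u => ?_))
    have h0 : bas.repr M.1 (⟦u⟧ : O).out = 0 := congrFun hM ⟦u⟧
    have hcyc : s.SameCycle (⟦u⟧ : O).out u := Quotient.exact (Quotient.out_eq (⟦u⟧ : O))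
    obtain ⟨k, -, -, hk⟩ := hcyc.exists_pow_eq''
    have hiter : ∀ k : ℕ, bas.repr M.1 ((σ^[k]) (⟦u⟧ : O).out) = 0 := by
      intro k
      induction k with
      | zero => exact h0
      | succ k ih => rw [Function.iterate_succ_apply', hco M.1 M.2, ih, mul_zero]
    rw [← hk, hspow, hiter]
    simp
  have hdim : finrank F (commutant Y) ≤ Fintype.card O := by
    have := LinearMap.finrank_le_finrank_of_injective hres
    rwa [Module.finrank_pi] at this
  let Fix := {u : R ⧸ Z // σ u = u}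
  set f := Fintype.card Fix with hf
  have horb : r * Fintype.card O ≤ 16 + (r - 1) * f := by
    let g : O → Finset (R ⧸ Z) := fun o => Finset.univ.filter fun u => (⟦u⟧ : O) = o
    have hsum : ∑ o : O, (g o).card = 16 := by
      rw [← hQ', ← Finset.card_univ]
      exact (Finset.card_eq_sum_card_fiberwise (t := Finset.univ) (fun _ _ => Finset.mem_univ _)).symm
    have hge : ∀ o : O, r ≤ (g o).card + (r - 1) * (if σ o.out = o.out then 1 else 0) := by
      intro o
      split_ifs with hfix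
      · have h1 : 1 ≤ (g o).card := Finset.card_pos.mpr ⟨o.out, Finset.mem_filter.mpr ⟨Finset.mem_univ _, Quotient.out_eq o⟩⟩
        omega
      · rw [Nat.mul_zero, Nat.add_zero]
        have hper : Function.minimalPeriod σ o.out = r :=
          Function.minimalPeriod_eq_prime (hσr _) hfix
        have hinj : Set.InjOn (fun k => (σ^[k]) o.out) (Set.Iio r) := hper ▸ Function.iterate_injOn_Iio_minimalPeriod
        calc r = ((Finset.range r).image fun k => (σ^[k]) o.out).card := by
              rw [Finset.card_image_of_injOn (by rwa [Finset.coe_range]), Finset.card_range]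
          _ ≤ _ := Finset.card_le_card fun u hu => by
              obtain ⟨k, -, rfl⟩ := Finset.mem_image.mp hu
              refine Finset.mem_filter.mpr ⟨Finset.mem_univ _, ?_⟩
              conv_rhs => rw [← Quotient.out_eq o]
              refine Quotient.sound ?_
              show s.SameCycle _ o.out
              rw [← hspow]
              exact Equiv.Perm.sameCycle_pow_left.mpr (Equiv.Perm.SameCycle.refl s _)
    have hfixcard : ∑ o : O, (if σ o.out = o.out then 1 else 0) ≤ f := by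
      rw [Finset.sum_boole, Nat.cast_id, hf, ← Fintype.card_subtype]
      exact Fintype.card_le_of_injective (fun o => (⟨o.1.out, o.2⟩ : Fix)) fun o o' e =>
        Subtype.ext (Quotient.out_injective (congrArg Subtype.val e))
    calc r * Fintype.card O = ∑ _o : O, r := by rw [Finset.sum_const, Finset.card_univ, smul_eq_mul, mul_comm]
      _ ≤ ∑ o : O, ((g o).card + (r - 1) * (if σ o.out = o.out then 1 else 0)) := Finset.sum_le_sum fun o _ => hge o
      _ ≤ _ := by rw [Finset.sum_add_distrib, hsum, ← Finset.mul_sum]; exact Nat.add_le_add_left (Nat.mul_le_mul_left _ hfixcard) _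
  -- the fixed subgroup
  let K := MonoidHom.eqLocus σ.toMonoidHom (MonoidHom.id (R ⧸ Z))
  have hK : Nat.card K = f := by
    rw [hf, ← Nat.card_eq_fintype_card]
    exact Nat.card_congr (Equiv.subtypeEquivRight fun u => Iff.rfl)
  have hf16 : f ∣ 16 := by rw [← hK, ← hQ]; exact Subgroup.card_subgroup_dvd_card K
  have hsr : s ^ r ^ 1 = 1 := Equiv.ext fun u => by rw [pow_one, hspow, hσr]; rfl
  have hmod : f ≡ 16 [MOD r] := by
    have h := Equiv.Perm.card_compl_support_modEq (p := r) hsr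
    rw [hQ'] at h
    have e : s.supportᶜ.card = f := by
      rw [hf, ← Fintype.card_coe]
      exact Fintype.card_congr (Equiv.subtypeEquivRight fun u => by
        rw [Finset.mem_compl, Equiv.Perm.notMem_support, hs])
    rwa [e] at h
  have hlt : f < 16 := by
    refine lt_of_le_of_ne (Nat.le_of_dvd (by norm_num) hf16) fun hf' => ?_
    have hall : ∀ u, σ u = u := by
      have : Fintype.card Fix = Fintype.card (R ⧸ Z) := by rw [← hf, hf', hQ']
      have hb : Function.Bijective (Subtype.val : Fix → R ⧸ Z) :=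
        (Fintype.bijective_iff_injective_and_card _).mpr ⟨Subtype.val_injective, this⟩
      intro u
      obtain ⟨v, rfl⟩ := hb.2 u
      exact v.2
    have hfixR : ∀ h ∈ R, Y * (h : Matrix (Fin 4) (Fin 4) F) = (h : Matrix (Fin 4) (Fin 4) F) * Y := by
      intro h hh
      have h1 : ((φ ⟨h, hh⟩ : R) : R ⧸ Z) = ((⟨h, hh⟩ : R) : R ⧸ Z) := by rw [← hσmk, hall]
      obtain ⟨e, he⟩ := hP.scalar_of_mem_center (QuotientGroup.eq.mp h1.symm)
      have he4 : e ^ 4 = 1 := hP.scalar_pow _ e (SetLike.coe_mem _) he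
      have hstep : Y * (h : Matrix (Fin 4) (Fin 4) F) = e • ((h : Matrix (Fin 4) (Fin 4) F) * Y) := by
        have e1 : y * h = h * ((h⁻¹ * (y * h * y⁻¹))) * y := by group
        have e2 := congrArg Units.val e1
        rw [Units.val_mul, Units.val_mul, Units.val_mul] at e2
        rw [hY, e2, show ((h⁻¹ * (y * h * y⁻¹) : GL (Fin 4) F) : Matrix (Fin 4) (Fin 4) F) = e • 1 from he,
          Matrix.mul_smul, Matrix.mul_one, Matrix.smul_mul]
      have hk : ∀ k : ℕ, Y ^ k * (h : Matrix (Fin 4) (Fin 4) F) = e ^ k • ((h : Matrix (Fin 4) (Fin 4) F) * Y ^ k) := by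
        intro k
        induction k with
        | zero => simp
        | succ k ih =>
          rw [pow_succ', Matrix.mul_assoc, ih, Matrix.mul_smul, ← Matrix.mul_assoc, hstep, Matrix.smul_mul, smul_smul,
            Matrix.mul_assoc, pow_succ e]
      have her : e ^ r = 1 := by
        have h2 := hk r
        rw [hY, ← Units.val_pow_eq_pow_val, hc₀, Matrix.smul_mul, Matrix.mul_smul, Matrix.one_mul, Matrix.mul_one,
          smul_smul] at h2
        have hc0 : c₀ ≠ 0 := fun h0 => by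
          rw [h0, zero_smul] at hc₀
          exact ((Matrix.isUnit_iff_isUnit_det _).mp (y ^ r).isUnit).ne_zero (by rw [hc₀]; simp)
        have hh0 : (h : Matrix (Fin 4) (Fin 4) F) ≠ 0 := fun h0 =>
          ((Matrix.isUnit_iff_isUnit_det _).mp h.isUnit).ne_zero (by rw [h0]; simp)
        have h3 : c₀ = e ^ r * c₀ := smul_left_injective F hh0 h2
        exact mul_right_cancel₀ hc0 (h3.symm.trans (one_mul c₀).symm)
      have he1 : e = 1 := by
        have hg : Nat.gcd 4 r = 1 := by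
          rw [show (4 : ℕ) = 2 * 2 from rfl]
          exact Nat.Coprime.mul_left ((Nat.coprime_primes Nat.prime_two Fact.out).mpr hr.symm)
            ((Nat.coprime_primes Nat.prime_two Fact.out).mpr hr.symm)
        have := pow_gcd_eq_one.mpr ⟨he4, her⟩
        rwa [hg, pow_one] at this
      rw [hstep, he1, one_smul]
    obtain ⟨e, he⟩ := hP.center Y hfixR
    exact hns e he
  refine ⟨f, hf16, hlt, hmod, fun hr7 hf2 => ?_, le_trans (Nat.mul_le_mul_left r hdim) horb⟩
  subst hr7
  -- a single fixed non-trivial coset is impossible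
  obtain ⟨h₀, hh₀, hh₀fix⟩ : ∃ h : R, h ∉ Z ∧ σ (h : R ⧸ Z) = (h : R ⧸ Z) := by
    by_contra hno
    push Not at hno
    have hle : f ≤ 1 := by
      rw [hf]
      refine Fintype.card_le_one_iff_subsingleton.mpr ⟨fun u v => ?_⟩
      have h1 : ∀ u : Fix, u.1 = 1 := by
        intro u
        obtain ⟨h, hh⟩ := QuotientGroup.mk_surjective u.1
        by_contra h0
        have := hno h (fun hZh => h0 (hh ▸ (QuotientGroup.eq_one_iff h).mpr hZh))
        exact this (by rw [hh]; exact u.2)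
      exact Subtype.ext ((h1 u).trans (h1 v).symm)
    omega
  obtain ⟨g₁, hg₁, -, hg₁a⟩ := hP.exists_anticommute h₀.2 (fun e he => hh₀ (hscal h₀ e he))
  set H₀ := ((h₀ : GL (Fin 4) F) : Matrix (Fin 4) (Fin 4) F) with hH₀
  let C8 : R ⧸ Z → Prop := fun u => (β u : Matrix (Fin 4) (Fin 4) F) * H₀ = H₀ * (β u : Matrix (Fin 4) (Fin 4) F)
  have hC8 : ∀ h : R, C8 (h : R ⧸ Z) ↔ ((h : GL (Fin 4) F) : Matrix (Fin 4) (Fin 4) F) * H₀ = H₀ * ((h : GL (Fin 4) F) : Matrix (Fin 4) (Fin 4) F) := by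
    intro h
    obtain ⟨l, hl, e⟩ := hβ h
    rw [e, Matrix.smul_mul, Matrix.mul_smul, (smul_right_injective (Matrix (Fin 4) (Fin 4) F) hl).eq_iff]
  have h2ne : ∀ M : Matrix (Fin 4) (Fin 4) F, M = -M → M = 0 := fun M e => by
    have h' : (2 : F) • M = 0 := by rw [two_smul]; nth_rewrite 2 [e]; exact add_neg_cancel M
    exact (smul_eq_zero.mp h').resolve_left hP.two_ne
  have hflip : ∀ h : R, C8 ((h * ⟨g₁, hg₁⟩ : R) : R ⧸ Z) ↔ ¬ C8 (h : R ⧸ Z) := by
    intro h
    rw [hC8, hC8]
    show ((h : GL (Fin 4) F) * g₁ : GL (Fin 4) F).val * H₀ = H₀ * ((h : GL (Fin 4) F) * g₁ : GL (Fin 4) F).val ↔ _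
    have hu0 : ∀ u : GL (Fin 4) F, (u : Matrix (Fin 4) (Fin 4) F) ≠ 0 := fun u h0 =>
      ((Matrix.isUnit_iff_isUnit_det _).mp u.isUnit).ne_zero (by rw [h0]; simp)
    have hga : (g₁ : Matrix (Fin 4) (Fin 4) F) * H₀ = -(H₀ * (g₁ : Matrix (Fin 4) (Fin 4) F)) := by rw [hg₁a, neg_neg]
    rw [Units.val_mul, Matrix.mul_assoc, hga, Matrix.mul_neg, ← Matrix.mul_assoc, ← Matrix.mul_assoc]
    rcases hP.comm h.1 h.2 h₀.1 h₀.2 with e | e
    · have e' : (h.1 : Matrix (Fin 4) (Fin 4) F) * H₀ = H₀ * (h.1 : Matrix (Fin 4) (Fin 4) F) := by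
        rw [hH₀, ← Units.val_mul, e, Units.val_mul]
      refine iff_of_false (fun e2 => ?_) (fun e2 => e2 e')
      rw [e'] at e2
      have := h2ne _ e2.symm
      rw [hH₀, ← Units.val_mul, ← Units.val_mul] at this
      exact hu0 _ this
    · refine iff_of_true (by rw [e, Matrix.neg_mul, neg_neg]) fun e2 => ?_
      rw [e] at e2
      have := h2ne _ e2.symm
      rw [← Units.val_mul] at this
      exact hu0 _ this
  let C : Type _ := {u : R ⧸ Z // C8 u}
  have hC : Fintype.card C = 8 := by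
    have hflip' : ∀ u : R ⧸ Z, C8 (u * ((⟨g₁, hg₁⟩ : R) : R ⧸ Z)) ↔ ¬ C8 u := by
      intro u
      obtain ⟨h, rfl⟩ := QuotientGroup.mk_surjective u
      exact hflip h
    have h1 : Fintype.card C = Fintype.card {u : R ⧸ Z // ¬ C8 u} :=
      (Fintype.card_congr ((Equiv.mulRight ((⟨g₁, hg₁⟩ : R) : R ⧸ Z)).subtypeEquiv (p := fun u => ¬ C8 u) (q := C8)
        fun u => (hflip' u).symm)).symm
    have h2 := Fintype.card_subtype_compl C8
    have h3 : Fintype.card {u : R ⧸ Z // C8 u} ≤ 16 := hQ' ▸ Fintype.card_subtype_le _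
    rw [hQ', ← h1] at h2
    change Fintype.card C ≤ 16 at h3
    change Fintype.card C = 16 - Fintype.card C at h2
    omega
  obtain ⟨e₀, he₀⟩ := hP.scalar_of_mem_center (QuotientGroup.eq.mp (show ((h₀ : R) : R ⧸ Z) = ((φ h₀ : R) : R ⧸ Z) by
    rw [← hσmk, hh₀fix]))
  have hinv : ∀ u, C8 (σ u) ↔ C8 u := by
    intro u
    obtain ⟨h, rfl⟩ := QuotientGroup.mk_surjective u
    rw [hσmk, hC8, hC8]
    have e1 : ((φ h₀ : R) : GL (Fin 4) F).val = e₀ • H₀ := by
      have : ((φ h₀ : R) : GL (Fin 4) F) = h₀.1 * ((h₀⁻¹ * φ h₀ : R) : GL (Fin 4) F) := by simp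
      rw [this, Units.val_mul, he₀, Matrix.mul_smul, Matrix.mul_one]
    have he0 : e₀ ≠ 0 := fun h0 => by
      rw [h0, zero_smul] at he₀
      exact ((Matrix.isUnit_iff_isUnit_det _).mp ((h₀⁻¹ * φ h₀ : R) : GL (Fin 4) F).isUnit).ne_zero (by rw [he₀]; simp)
    have e2 : ((φ h : R) : GL (Fin 4) F).val * ((φ h₀ : R) : GL (Fin 4) F).val =
        ((φ h₀ : R) : GL (Fin 4) F).val * ((φ h : R) : GL (Fin 4) F).val ↔ h.1.val * H₀ = H₀ * h.1.val := by
      rw [hH₀, ← Units.val_mul, ← Units.val_mul, ← Units.val_mul, ← Units.val_mul, Units.val_inj, Units.val_inj,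
        ← Subgroup.coe_mul, ← Subgroup.coe_mul, Subtype.coe_inj, ← map_mul, ← map_mul, φ.injective.eq_iff,
        ← Subgroup.coe_mul, ← Subgroup.coe_mul, Subtype.coe_inj]
    rw [← e2, e1, Matrix.mul_smul, Matrix.smul_mul, (smul_right_injective (Matrix (Fin 4) (Fin 4) F) he0).eq_iff]
  let sC : Equiv.Perm C := s.subtypePerm hinv
  have hsC : sC ^ 7 ^ 1 = 1 := by
    refine Equiv.ext fun u => Subtype.ext ?_
    rw [Equiv.Perm.subtypePerm_pow]
    show (s ^ 7 ^ 1) u.1 = u.1
    rw [hsr]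
    rfl
  have hmod8 := Equiv.Perm.card_compl_support_modEq (p := 7) hsC
  rw [hC] at hmod8
  have hfixC : sC.supportᶜ.card = 2 := by
    rw [← hf2, hf, ← Fintype.card_coe]
    have h1 : ∀ v : Fix, C8 v.1 := by
      intro v
      have h01 : ((h₀ : R) : R ⧸ Z) ≠ 1 := fun e => hh₀ ((QuotientGroup.eq_one_iff h₀).mp e)
      have hv : v.1 = 1 ∨ v.1 = ((h₀ : R) : R ⧸ Z) := by
        by_contra hcon
        push Not at hcon
        have h3 : ({⟨1, map_one σ⟩, ⟨_, hh₀fix⟩, v} : Finset Fix).card = 3 := by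
          rw [Finset.card_eq_three]
          exact ⟨_, _, _, fun e => h01 (congrArg Subtype.val e).symm, fun e => hcon.1 (congrArg Subtype.val e).symm,
            fun e => hcon.2 (congrArg Subtype.val e).symm, rfl⟩
        have := Finset.card_le_univ ({⟨1, map_one σ⟩, ⟨_, hh₀fix⟩, v} : Finset Fix)
        rw [h3, ← hf, hf2] at this
        omega
      rcases hv with e | e <;> rw [e]
      · rw [← QuotientGroup.mk_one, hC8]
        simp
      · rw [hC8]
    refine Fintype.card_congr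
      { toFun := fun u => ⟨u.1.1, ?_⟩
        invFun := fun v => ⟨⟨v.1, h1 v⟩, ?_⟩
        left_inv := fun _ => rfl
        right_inv := fun _ => rfl }
    · have := u.2
      rw [Finset.mem_compl, Equiv.Perm.notMem_support] at this
      exact congrArg Subtype.val this
    · rw [Finset.mem_compl, Equiv.Perm.notMem_support]
      exact Subtype.ext v.2
  rw [hfixC] at hmod8
  exact absurd hmod8 (by decide)

end Cfsg.Agent.PrimeOrderElt
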