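import Cfsg.Agent.S2587
import Cfsg.Agent.S5979
import Cfsg.Agent.Lib.PrimeOrderElt.SymplecticFourNormalizer
import Cfsg.Agent.Lib.PrimeOrderElt.Construct
import Cfsg.Agent.Lib.Unitary.Group
/-!
# Elements of prime order of `GU_4(p)` and `4 ∘ 2^{1+4}` (owner: helper43)

* `exists_unitary_frame` : a Pauli frame of a unitary group can be taken unitary
* `conj_su`              : GL-conjugate unitary elements are SU-conjugate when the centraliser has every determinant
* `exists_model_three`, `exists_model_five` : normal forms of unitary elements of order 3, 5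
* `centraliser_det_*`    : every norm one scalar is a determinant of a centralising unitary element
-/

set_option autoImplicit false
set_option linter.unusedSectionVars false

namespace Cfsg.Agent.PrimeOrderElt.UFour

open Matrix Module
open scoped MatrixGroups
open Cfsg.Agent.UnitaryConj (adj)

variable {F : Type*} [Field F] [Fintype F] {p : ℕ} (hF : Fintype.card F = p ^ 2)

theorem adj_apply (M : Matrix (Fin 4) (Fin 4) F) (i j : Fin 4) : adj hF M i j = (M j i) ^ p := rfl

theorem adj_smul (c : F) (M : Matrix (Fin 4) (Fin 4) F) : adj hF (c • M) = c ^ p • adj hF M := by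
  ext i j
  simp only [adj_apply, Matrix.smul_apply, smul_eq_mul, mul_pow]

theorem adj_sub (A B : Matrix (Fin 4) (Fin 4) F) : adj hF (A - B) = adj hF A - adj hF B := by
  have h := UnitaryConj.adj_add hF (A - B) B
  rw [sub_add_cancel] at h
  rw [h, add_sub_cancel_right]

include hF in
theorem mem_GU {g : GL (Fin 4) F} : g ∈ Cfsg.GU 4 F p ↔ adj hF g.1 * g.1 = 1 := UnitaryConj.mem_GU_iff_adj hF g

include hF in
theorem det_norm {g : GL (Fin 4) F} (hg : g ∈ Cfsg.GU 4 F p) : g.1.det ^ (p + 1) = 1 :=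
  Unitary.IsUnitary.det_norm hF ((Unitary.mem_GU_iff g).mp hg)

theorem det_ne_zero (g : GL (Fin 4) F) : g.1.det ≠ 0 := ((Matrix.isUnit_iff_isUnit_det _).mp g.isUnit).ne_zero

/-- A unit from a matrix with unitary columns. -/
theorem exists_gu {M : Matrix (Fin 4) (Fin 4) F} (h : adj hF M * M = 1) :
    ∃ g ∈ Cfsg.GU 4 F p, g.1 = M := by
  refine ⟨⟨M, adj hF M, mul_eq_one_comm.mp h, h⟩, (mem_GU hF).mpr h, rfl⟩

include hF in
/-- An element of norm one is a `(1-p)`-th power. -/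
theorem exists_hilbert {μ : F} (hμ : μ ^ (p + 1) = 1) : ∃ d : F, d ≠ 0 ∧ d ^ p * μ = d := by
  have hp := Unitary.two_le_q hF
  have hμ0 : μ ≠ 0 := fun h0 => by rw [h0, zero_pow (by omega)] at hμ; exact zero_ne_one hμ
  obtain ⟨g, hg⟩ := IsCyclic.exists_generator (α := Fˣ)
  obtain ⟨k, hk⟩ := (mem_powers_iff_mem_zpowers (x := g)).mpr (hg (Units.mk0 μ hμ0)⁻¹)
  have hk' : g ^ k = (Units.mk0 μ hμ0)⁻¹ := hk
  have hord : orderOf g = (p + 1) * (p - 1) := by
    rw [orderOf_eq_card_of_forall_mem_zpowers hg, Unitary.card_units hF,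
      show p ^ 2 - 1 = (p + 1) * (p - 1) by simpa using Nat.sq_sub_sq p 1]
  have hdvd : (p + 1) * (p - 1) ∣ k * (p + 1) := by
    rw [← hord, orderOf_dvd_iff_pow_eq_one, pow_mul, hk', inv_pow, inv_eq_one]
    exact Units.ext (by simpa using hμ)
  rw [mul_comm k] at hdvd
  obtain ⟨t, rfl⟩ := Nat.dvd_of_mul_dvd_mul_left (by omega) hdvd
  refine ⟨(g : F) ^ t, pow_ne_zero _ g.ne_zero, ?_⟩
  have h := congrArg (fun u : Fˣ => (u : F)) hk'
  simp only [Units.val_pow_eq_pow_val, Units.val_inv_eq_inv_val, Units.val_mk0] at h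
  calc ((g : F) ^ t) ^ p * μ = (g : F) ^ t * ((g : F) ^ ((p - 1) * t) * μ) := by
        rw [← mul_assoc, ← pow_add, ← pow_mul]
        congr 2
        obtain ⟨m, rfl⟩ := Nat.exists_eq_add_of_le (show 1 ≤ p by omega)
        simp; ring
    _ = _ := by rw [h, inv_mul_cancel₀ hμ0, mul_one]

theorem pow_i {ι : F} (hι : ι * ι = -1) (hp4 : p % 4 = 3) : ι ^ p = -ι := by
  conv_lhs => rw [← Nat.div_add_mod p 4, hp4, pow_add, pow_mul, show ι ^ 4 = (ι * ι) * (ι * ι) by ring, hι,
    neg_mul_neg, one_mul, one_pow, one_mul, pow_succ, pow_two, hι, neg_one_mul]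

include hF in
/-- A unitary group of type `4 ∘ 2^{1+4}` has a unitary frame. -/
theorem exists_unitary_frame {R : Subgroup (GL (Fin 4) F)} (h2 : (2 : F) ≠ 0) (hRU : R ≤ Cfsg.GU 4 F p)
    {a b c d C : GL (Fin 4) F} (hf : IsPauliFrame R a b c d C) :
    ∃ C' : GL (Fin 4) F, C' ∈ Cfsg.GU 4 F p ∧ IsPauliFrame R a b c d C' := by
  set H := adj hF C.1 * C.1 with hH
  have key : ∀ (x : GL (Fin 4) F) (P : Matrix (Fin 4) (Fin 4) F), x ∈ R → x.1 * C.1 = C.1 * P → adj hF P = P →
      P * P = 1 → H * P = P * H := by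
    intro x P hx hxC hP hPP
    have h1 : adj hF P * H * P = H := by
      calc adj hF P * H * P = adj hF (C.1 * P) * (C.1 * P) := by
            rw [hH, UnitaryConj.adj_mul]; simp only [mul_assoc]
        _ = adj hF C.1 * (adj hF x.1 * x.1) * C.1 := by
            rw [← hxC, UnitaryConj.adj_mul]; simp only [mul_assoc]
        _ = H := by rw [(mem_GU hF).mp (hRU hx), mul_one]
    rw [hP] at h1
    calc H * P = P * P * (H * P) := by rw [hPP, one_mul]
      _ = P * (P * H * P) := by simp only [mul_assoc]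
      _ = P * H := by rw [h1]
  obtain ⟨e, he⟩ := scalar_of_commute_pauli h2
    (key a pA hf.ha hf.haC
      (by ext i j; fin_cases i <;> fin_cases j <;> simp [adj, -Unitary.conjHom_apply])
      (by ext i j; fin_cases i <;> fin_cases j <;> simp))
    (key b pB hf.hb hf.hbC
      (by ext i j; fin_cases i <;> fin_cases j <;> simp [adj, -Unitary.conjHom_apply])
      (by ext i j; fin_cases i <;> fin_cases j <;> simp [Matrix.mul_apply, Fin.sum_univ_four]))
    (key c pC hf.hc hf.hcC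
      (by ext i j; fin_cases i <;> fin_cases j <;> simp [adj, -Unitary.conjHom_apply])
      (by ext i j; fin_cases i <;> fin_cases j <;> simp))
    (key d pD hf.hd hf.hdC
      (by ext i j; fin_cases i <;> fin_cases j <;> simp [adj, -Unitary.conjHom_apply])
      (by ext i j; fin_cases i <;> fin_cases j <;> simp [Matrix.mul_apply, Fin.sum_univ_four]))
  have he0 : e ≠ 0 := fun h0 => by
    have hu : IsUnit H := (UnitaryConj.isUnit_adj hF C.isUnit).mul C.isUnit
    rw [he, h0, zero_smul] at hu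
    exact hu.ne_zero rfl
  have hep : e ^ p = e := by
    have h := UnitaryConj.adj_mul hF (adj hF C.1) C.1
    rw [UnitaryConj.adj_adj, ← hH, he, adj_smul, UnitaryConj.adj_one] at h
    simpa using congr_fun (congr_fun h 0) 0
  obtain ⟨l, hl⟩ := Unitary.exists_norm_eq hF hep
  have hl0 : l ≠ 0 := fun h0 => he0 (by rw [← hl, h0, zero_pow (Nat.succ_ne_zero p)])
  let C' : GL (Fin 4) F := scalarUnit (Units.mk0 l⁻¹ (inv_ne_zero hl0)) * C
  have hv : C'.1 = l⁻¹ • C.1 := by
    show (scalarUnit _ * C).1 = _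
    rw [Units.val_mul, scalarUnit_val, Units.val_mk0, Matrix.smul_mul, one_mul]
  refine ⟨C', (mem_GU hF).mpr ?_, ⟨hf.ha, hf.hb, hf.hc, hf.hd, ?_, ?_, ?_, ?_, hf.gen⟩⟩
  · rw [hv, adj_smul, Matrix.smul_mul, Matrix.mul_smul, ← hH, he, smul_smul, smul_smul, ← pow_succ, inv_pow, hl,
      inv_mul_cancel₀ he0, one_smul]
  · rw [hv, Matrix.mul_smul, hf.haC, Matrix.smul_mul]
  · rw [hv, Matrix.mul_smul, hf.hbC, Matrix.smul_mul]
  · rw [hv, Matrix.mul_smul, hf.hcC, Matrix.smul_mul]
  · rw [hv, Matrix.mul_smul, hf.hdC, Matrix.smul_mul]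

include hF in
/-- Conjugacy under `SU_4`. -/
theorem conj_su {y w C : GL (Fin 4) F} (hy : y ∈ Cfsg.GU 4 F p) (hw : w ∈ Cfsg.GU 4 F p) (hC : C ∈ Cfsg.GU 4 F p)
    (hconj : ∃ S : Matrix (Fin 4) (Fin 4) F, S.det ≠ 0 ∧ y.1 * S = S * w.1)
    (hz : ∀ μ : F, μ ^ (p + 1) = 1 → ∃ z ∈ Cfsg.GU 4 F p, z.1 * w.1 = w.1 * z.1 ∧ z.1.det = μ) :
    ∃ g ∈ Cfsg.GU 4 F p, g.1.det = 1 ∧ g⁻¹ * y * g = C * w * C⁻¹ := by
  obtain ⟨S, hS, hyS⟩ := hconj
  have hc : IsConj ((⟨w, hw⟩ : Cfsg.GU 4 F p) : GL (Fin 4) F) ((⟨y, hy⟩ : Cfsg.GU 4 F p) : GL (Fin 4) F) := by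
    refine isConj_iff.mpr ⟨Matrix.GeneralLinearGroup.mkOfDetNeZero S hS, mul_inv_eq_iff_eq_mul.mpr (Units.ext ?_)⟩
    rw [Units.val_mul, Units.val_mul]
    exact hyS.symm
  obtain ⟨u, hu⟩ := isConj_iff.mp ((S2587.result hF _ _).mpr hc)
  have hu' : u.1 * w * u.1⁻¹ = y := congrArg Subtype.val hu
  obtain ⟨z, hzU, hzw, hzd⟩ := hz (C.1.det / u.1.1.det) (by rw [div_pow, det_norm hF hC, det_norm hF u.2, div_one])
  have hzw' : z * w = w * z := Units.ext (by rw [Units.val_mul, Units.val_mul, hzw])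
  refine ⟨u.1 * z * C⁻¹, mul_mem (mul_mem u.2 hzU) (inv_mem hC), ?_, ?_⟩
  · have hCi : (C⁻¹).1.det = C.1.det⁻¹ := eq_inv_of_mul_eq_one_left (by
      rw [← Matrix.det_mul, Units.inv_mul, Matrix.det_one])
    rw [Units.val_mul, Units.val_mul, Matrix.det_mul, Matrix.det_mul, hzd, hCi,
      mul_div_cancel₀ _ (det_ne_zero u.1), mul_inv_cancel₀ (det_ne_zero C)]
  · calc (u.1 * z * C⁻¹)⁻¹ * y * (u.1 * z * C⁻¹) = C * (z⁻¹ * (u.1⁻¹ * (u.1 * w * u.1⁻¹) * u.1) * z) * C⁻¹ := by
          rw [hu']; simp only [_root_.mul_inv_rev, inv_inv, mul_assoc]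
      _ = C * (z⁻¹ * (w * z)) * C⁻¹ := by simp only [mul_assoc, inv_mul_cancel_left, inv_mul_cancel, mul_one]
      _ = _ := by rw [← hzw', inv_mul_cancel_left]

/-- Matrices with one normal form are conjugate. -/
theorem conj_of_models {X Y P Q K : Matrix (Fin 4) (Fin 4) F} (hP : P.det ≠ 0) (hQ : Q.det ≠ 0)
    (hX : X * P = P * K) (hY : Y * Q = Q * K) :
    ∃ S : Matrix (Fin 4) (Fin 4) F, S.det ≠ 0 ∧ X * S = S * Y := by
  have hQu : IsUnit Q.det := isUnit_iff_ne_zero.mpr hQ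
  refine ⟨P * Q⁻¹, ?_, ?_⟩
  · rw [Matrix.det_mul]
    exact mul_ne_zero hP (Matrix.isUnit_nonsing_inv_det Q hQu).ne_zero
  · have h : Q⁻¹ * Y = K * Q⁻¹ := by
      calc Q⁻¹ * Y = Q⁻¹ * (Y * Q) * Q⁻¹ := by
            simp only [mul_assoc, Matrix.mul_nonsing_inv _ hQu, mul_one]
        _ = _ := by rw [hY, ← mul_assoc Q⁻¹, Matrix.nonsing_inv_mul _ hQu, one_mul]
    rw [← mul_assoc, hX, mul_assoc, mul_assoc, h]

theorem exists_perm_model {y B : Matrix (Fin 4) (Fin 4) F} (hB : B.det ≠ 0) {e pat : Fin 4 → F}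
    (hy : y * B = B * Matrix.diagonal e) (σ : Equiv.Perm (Fin 4)) (h : ∀ i, e (σ i) = pat i) :
    ∃ Q : Matrix (Fin 4) (Fin 4) F, Q.det ≠ 0 ∧ y * Q = Q * Matrix.diagonal pat := by
  refine ⟨B.submatrix id σ, ?_, ?_⟩
  · rw [Matrix.det_permute']
    exact mul_ne_zero (by rcases Int.units_eq_one_or (Equiv.Perm.sign σ) with e | e <;> simp [e]) hB
  · ext i j
    have := congr_fun (congr_fun hy i) (σ j)
    rw [Matrix.mul_diagonal] at this ⊢
    rw [Matrix.mul_apply] at this ⊢
    simp only [Matrix.submatrix_apply, id]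
    rw [this, h]

theorem trace_eq_of_model {y Q K : Matrix (Fin 4) (Fin 4) F} (hQ : Q.det ≠ 0) (h : y * Q = Q * K) :
    y.trace = K.trace := by
  have hQu : IsUnit Q.det := isUnit_iff_ne_zero.mpr hQ
  calc y.trace = (y * Q * Q⁻¹).trace := by rw [mul_assoc, Matrix.mul_nonsing_inv _ hQu, mul_one]
    _ = (Q⁻¹ * (Q * K)).trace := by rw [h, Matrix.trace_mul_comm]
    _ = K.trace := by rw [← mul_assoc, Matrix.nonsing_inv_mul _ hQu, one_mul]

section Three

include hF in
/-- The classes of elements of order three. -/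
theorem exists_model_three [CharP F p] (hp3 : p % 3 = 1) (hp7 : 7 ≤ p) {ω : F} (hω : ω * ω + ω + 1 = 0)
    {y : Matrix (Fin 4) (Fin 4) F} (hy : adj hF y * y = 1) (hy3 : y * y * y = 1) (hns : ∀ c : F, y ≠ c • 1) :
    ∃ Q : Matrix (Fin 4) (Fin 4) F, Q.det ≠ 0 ∧
      ((y * Q = Q * Matrix.diagonal ![1, 1, ω, ω * ω] ∧ y.trace = 1) ∨
       (y * Q = Q * Matrix.diagonal ![ω, ω, ω * ω, ω * ω] ∧ y.trace = -2)) := by
  classical
  have : Fact (Nat.Prime 3) := ⟨Nat.prime_three⟩
  have hr1 : 3 ∣ Fintype.card F - 1 := by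
    have h : p ^ 2 % 3 = 1 := by rw [Nat.pow_mod, hp3]
    rw [hF]; omega
  have h30 : ((3 : ℕ) : F) ≠ 0 := by
    rw [Ne, CharP.cast_eq_zero_iff F p 3]
    intro h
    have := Nat.le_of_dvd (by norm_num) h
    omega
  have hω3 : ω ^ 3 = 1 := by linear_combination (ω - 1) * hω
  have hω0 : ω ≠ 0 := fun h0 => by simp [h0] at hω
  have hω1 : ω ≠ 1 := fun h1 => h30 (by rw [h1] at hω; push_cast; linear_combination hω)
  obtain ⟨B, e, hB, he, hyB⟩ := exists_diag (r := 3) hr1 h30 y (by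
    rw [← pow_toLin', pow_succ, pow_two, hy3, Matrix.toLin'_one]; rfl)
  have hcases : ∀ i, e i = 1 ∨ e i = ω ∨ e i = ω * ω := by
    intro i
    have h : (e i - 1) * ((e i - ω) * (e i - ω * ω)) = 0 := by
      linear_combination he i + (-(e i) ^ 2 + e i) * hω + (e i - 1) * hω3
    rcases mul_eq_zero.mp h with h' | h'
    · exact Or.inl (sub_eq_zero.mp h')
    · rcases mul_eq_zero.mp h' with h'' | h''
      · exact Or.inr (Or.inl (sub_eq_zero.mp h''))
      · exact Or.inr (Or.inr (sub_eq_zero.mp h''))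
  let ev : Fin 3 → F := ![1, ω, ω * ω]
  have hf : ∀ i, ∃ k : Fin 3, e i = ev k := fun i => by
    rcases hcases i with h | h | h
    exacts [⟨0, h⟩, ⟨1, h⟩, ⟨2, h⟩]
  choose f hf using hf
  have hev : ∀ i, e i = ev (f i) := hf
  -- the trace is fixed by the automorphism
  have hωp : ω ^ p = ω := by
    conv_lhs => rw [← Nat.div_add_mod p 3, hp3, pow_add, pow_mul, hω3, one_pow, one_mul, pow_one]
  have hy2 : adj hF y = y * y := by
    calc adj hF y = adj hF y * (y * y * y) := by rw [hy3, mul_one]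
      _ = _ := by rw [← mul_assoc, ← mul_assoc, hy, one_mul]
  have htr : y.trace = ∑ i, e i := by rw [trace_eq_of_model hB hyB, Matrix.trace_diagonal]
  have htr2 : (y * y).trace = ∑ i, e i * e i := by
    rw [trace_eq_of_model hB (show y * y * B = B * Matrix.diagonal fun i => e i * e i by
      rw [mul_assoc, hyB, ← mul_assoc, hyB, mul_assoc, Matrix.diagonal_mul_diagonal]), Matrix.trace_diagonal]
  have hsum : ∑ i, e i * e i = ∑ i, e i := by
    have h1 : (adj hF y).trace = (y.trace) ^ p := by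
      show (∑ i, (adj hF y) i i) = (∑ i, y i i) ^ p
      rw [Unitary.sum_pow_q hF]
      rfl
    rw [hy2, htr2, htr, Unitary.sum_pow_q hF] at h1
    rw [h1]
    refine Finset.sum_congr rfl fun i _ => ?_
    rcases hcases i with h | h | h <;> rw [h]
    · exact one_pow _
    · exact hωp
    · rw [mul_pow, hωp]
  set n1 := (Finset.univ.filter fun i => f i = 1).card
  set n2 := (Finset.univ.filter fun i => f i = 2).card
  have hval : ∀ k : Fin 3, ev k * ev k - ev k = ((if k = 1 then 1 else 0) - (if k = 2 then 1 else 0)) * (ω * ω - ω) := by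
    intro k
    fin_cases k
    · simp [ev]
    · simp [ev]
    · simp [ev]; linear_combination ω * (ω - 1) * hω
  have hn : (n1 : F) = n2 := by
    have h0 : ((n1 : F) - n2) * (ω * ω - ω) = 0 := by
      have h : ∑ i, (e i * e i - e i) = 0 := by rw [Finset.sum_sub_distrib, hsum, sub_self]
      rw [Finset.sum_congr rfl (fun i _ => show e i * e i - e i = _ by rw [hev i, hval]), ← Finset.sum_mul,
        Finset.sum_sub_distrib, Finset.sum_boole, Finset.sum_boole] at h
      exact h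
    refine sub_eq_zero.mp ((mul_eq_zero.mp h0).resolve_right fun h => ?_)
    exact mul_ne_zero hω0 (sub_ne_zero.mpr hω1) (by linear_combination h)
  have hn' : n1 = n2 := by
    have hb : ∀ s : Finset (Fin 4), s.card < p := fun s => lt_of_le_of_lt (Finset.card_le_univ s) (by simp; omega)
    exact CharP.natCast_injOn_Iio F p (hb _) (hb _) hn
  have hkey : ∀ f : Fin 4 → Fin 3, (Finset.univ.filter fun i => f i = 1).card = (Finset.univ.filter fun i => f i = 2).card →
      (∃ i, f i ≠ 0) → ∃ σ : Equiv.Perm (Fin 4), (∀ i, f (σ i) = ![0, 0, 1, 2] i) ∨ (∀ i, f (σ i) = ![1, 1, 2, 2] i) := by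
    decide +kernel
  obtain ⟨σ, hσ⟩ := hkey f hn' (by
    by_contra hall
    push Not at hall
    refine hns 1 ?_
    rw [one_smul]
    have h1 : Matrix.diagonal e = 1 := by
      rw [← Matrix.diagonal_one']
      congr 1
      funext i
      rw [hev i, hall i]
      rfl
    rw [h1, mul_one] at hyB
    exact ((Matrix.isUnit_iff_isUnit_det B).mpr (isUnit_iff_ne_zero.mpr hB)).mul_right_cancel (by rw [one_mul, hyB]))
  rcases hσ with h | h
  · obtain ⟨Q, hQ, hyQ⟩ := exists_perm_model hB hyB σ (pat := ![1, 1, ω, ω * ω]) fun i => by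
      rw [hev, h]; fin_cases i <;> simp [ev]
    refine ⟨Q, hQ, Or.inl ⟨hyQ, ?_⟩⟩
    rw [trace_eq_of_model hQ hyQ, Matrix.trace_diagonal, Fin.sum_univ_four]
    simp
    linear_combination hω
  · obtain ⟨Q, hQ, hyQ⟩ := exists_perm_model hB hyB σ (pat := ![ω, ω, ω * ω, ω * ω]) fun i => by
      rw [hev, h]; fin_cases i <;> simp [ev]
    refine ⟨Q, hQ, Or.inr ⟨hyQ, ?_⟩⟩
    rw [trace_eq_of_model hQ hyQ, Matrix.trace_diagonal, Fin.sum_univ_four]
    simp
    linear_combination (2 : F) * hω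

end Three

section Five

/-- The normal form of an element of order five. -/
abbrev B5 (t t' : F) : Matrix (Fin 4) (Fin 4) F := !![0, -1, 0, 0; 1, t, 0, 0; 0, 0, 0, -1; 0, 0, 1, t']

/-- Its inverse. -/
abbrev B5' (t t' : F) : Matrix (Fin 4) (Fin 4) F := !![t, 1, 0, 0; -1, 0, 0, 0; 0, 0, t', 1; 0, 0, -1, 0]

include hF in
/-- The class of elements of order five. -/
theorem exists_model_five (hnd : ¬ 5 ∣ Fintype.card F - 1) {t : F} (ht : t * t + t - 1 = 0) (htp : t ^ p = -1 - t)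
    (hne : t ≠ -1 - t) (ht2 : t ≠ 2 ∧ -1 - t ≠ 2) {y : Matrix (Fin 4) (Fin 4) F} (hy : adj hF y * y = 1) (hy5 : y ^ 5 = 1) (h1 : y ≠ 1) :
    ∃ Q : Matrix (Fin 4) (Fin 4) F, Q.det ≠ 0 ∧ y * Q = Q * B5 t (-1 - t) := by
  classical
  have : Fact (Nat.Prime 5) := ⟨by norm_num⟩
  set t' := -1 - t with ht'
  have htp' : t' ^ p = t := by rw [← htp, Unitary.pow_q_pow_q hF]
  set Y' := adj hF y with hY'
  have hyY : y * Y' = 1 := mul_eq_one_comm.mp hy
  have hY4 : Y' = y ^ 4 := by
    calc Y' = Y' * y ^ 5 := by rw [hy5, mul_one]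
      _ = _ := by rw [pow_succ' y 4, ← mul_assoc, hy, one_mul]
  set S := y + Y' with hS
  have hScomm : Commute S y := by
    rw [hS, hY4]; exact (Commute.refl y).add_left ((Commute.refl y).pow_left 4)
  have hSS : (S - t • 1) * (S - t' • 1) * (y - 1) = 0 := by
    have e1 : (S - t • 1) * (S - t' • 1) = S * S + S - (1 : Matrix (Fin 4) (Fin 4) F) := by
      rw [sub_mul, mul_sub, mul_sub, Matrix.mul_smul, Matrix.smul_mul, Matrix.smul_mul, mul_one, one_mul, one_mul,
        smul_smul, show t * t' = -1 by rw [ht']; linear_combination -ht]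
      rw [ht', sub_smul, neg_smul, one_smul]
      module
    have e2 : y * y * (S * S + S - 1) = y ^ 4 + y ^ 3 + y ^ 2 + y + 1 := by
      have h1 : y * S = y * y + 1 := by rw [hS, mul_add, hyY]
      have h2 : y * y * (S * S) = (y * S) * (y * S) := by
        rw [mul_assoc y S, ← mul_assoc S y, hScomm.eq]; simp only [mul_assoc]
      rw [mul_sub, mul_add, h2, mul_assoc y y S, h1, mul_one]
      simp only [pow_succ, pow_zero, one_mul]
      noncomm_ring
    have e3 : y * y * ((S - t • 1) * (S - t' • 1) * (y - 1)) = 0 := by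
      rw [e1, ← mul_assoc, e2]
      have : (y ^ 4 + y ^ 3 + y ^ 2 + y + 1) * (y - 1) = y ^ 5 - 1 := by noncomm_ring
      rw [this, hy5, sub_self]
    calc _ = (Y' * Y') * (y * y * ((S - t • 1) * (S - t' • 1) * (y - 1))) := by
          rw [← mul_assoc (Y' * Y'), mul_assoc Y' Y', ← mul_assoc Y' y y, hy, one_mul, hy, one_mul]
      _ = 0 := by rw [e3, mul_zero]
  have hSS' : (S - t' • 1) * (S - t • 1) * (y - 1) = 0 := by
    have hc : Commute (S - t' • 1) (S - t • (1 : Matrix (Fin 4) (Fin 4) F)) :=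
      ((Commute.refl S).sub_right ((Commute.one_right S).smul_right t)).sub_left
        ((Commute.one_left _).smul_left t')
    rw [hc.eq, hSS]
  have hSadj : adj hF S = S := by
    rw [hS, UnitaryConj.adj_add, hY', UnitaryConj.adj_adj, add_comm]
  have hboth : ∀ a b : F, a ^ p = b → b ^ p = a → a ≠ b → (S - a • 1) * (y - 1) ≠ 0 := by
    intro a b hab hba hne' h0
    have h := congrArg (adj hF) h0
    rw [UnitaryConj.adj_mul, adj_sub, adj_sub, adj_smul, hSadj, UnitaryConj.adj_one, hab, UnitaryConj.adj_zero,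
      ← hY'] at h
    have hcy : Commute (S - b • 1) y := hScomm.sub_left ((Commute.one_left y).smul_left b)
    have h2 : (S - b • 1) * (y - 1) = 0 := by
      calc (S - b • 1) * (y - 1) = (y - 1) * (S - b • 1) := by rw [mul_sub, hcy.eq, mul_one, sub_mul y, one_mul]
        _ = -(y * ((Y' - 1) * (S - b • 1))) := by
            rw [← mul_assoc, mul_sub y, hyY, mul_one, ← neg_mul, neg_sub]
        _ = 0 := by rw [h, mul_zero, neg_zero]
    have h3 : (b - a) • (y - 1) = 0 := by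
      rw [sub_smul]
      calc b • (y - 1) - a • (y - 1) = (S - a • 1) * (y - 1) - (S - b • 1) * (y - 1) := by
            simp only [sub_mul, Matrix.smul_mul, one_mul]; module
        _ = 0 := by rw [h0, h2, sub_zero]
    exact h1 (sub_eq_zero.mp ((smul_eq_zero.mp h3).resolve_left (sub_ne_zero.mpr hne'.symm)))
  have hvec : ∀ a b : F, (S - a • 1) * (S - b • 1) * (y - 1) = 0 → (S - b • 1) * (y - 1) ≠ 0 →
      ∃ v : Fin 4 → F, v ≠ 0 ∧ S *ᵥ v = a • v := by
    intro a b hab hne'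
    obtain ⟨u, hu⟩ : ∃ u : Fin 4 → F, ((S - b • 1) * (y - 1)) *ᵥ u ≠ 0 := by
      by_contra hall
      push Not at hall
      exact hne' (Matrix.ext_iff_mulVec.2 fun u => by rw [hall u, Matrix.zero_mulVec])
    refine ⟨_, hu, ?_⟩
    have : (S - a • 1) *ᵥ (((S - b • 1) * (y - 1)) *ᵥ u) = 0 := by
      rw [Matrix.mulVec_mulVec, ← mul_assoc, hab, Matrix.zero_mulVec]
    rw [Matrix.sub_mulVec, Matrix.smul_mulVec, Matrix.one_mulVec, sub_eq_zero] at this
    exact this
  obtain ⟨v, hv0, hv⟩ := hvec t t' hSS (hboth t' t htp' htp hne.symm)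
  obtain ⟨v', hv0', hv'⟩ := hvec t' t hSS' (hboth t t' htp htp' hne)
  have hrel : ∀ (a : F) (v : Fin 4 → F), S *ᵥ v = a • v → y *ᵥ (y *ᵥ v) = a • (y *ᵥ v) - v := by
    intro a v h
    have h' := congrArg (y *ᵥ ·) h
    simp only [hS, Matrix.add_mulVec, Matrix.mulVec_add, Matrix.mulVec_smul, Matrix.mulVec_mulVec, hyY,
      Matrix.one_mulVec] at h'
    rw [Matrix.mulVec_mulVec]
    exact eq_sub_of_add_eq h'
  have hpair : ∀ (a : F) (v : Fin 4 → F), a ≠ 2 → v ≠ 0 → S *ᵥ v = a • v → ∀ x₀ x₁ : F,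
      x₀ • v + x₁ • (y *ᵥ v) = 0 → x₀ = 0 ∧ x₁ = 0 := by
    intro a v ha hv hS' x₀ x₁ hx
    have hx1 : x₁ = 0 := by
      by_contra hx1
      set e := -(x₁⁻¹ * x₀) with he
      have hye : y *ᵥ v = e • v := by
        rw [he, neg_smul, mul_smul, ← smul_neg]
        rw [show -(x₀ • v) = x₁ • (y *ᵥ v) by linear_combination (norm := module) -hx, smul_smul,
          inv_mul_cancel₀ hx1, one_smul]
      have hk : ∀ k : ℕ, (y ^ k) *ᵥ v = e ^ k • v := by
        intro k
        induction k with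
        | zero => simp
        | succ k ih => rw [pow_succ, ← Matrix.mulVec_mulVec, hye, Matrix.mulVec_smul, ih, smul_smul, ← pow_succ']
      have he5 : e ^ 5 = 1 := by
        have := hk 5
        rw [hy5, Matrix.one_mulVec] at this
        exact (smul_left_injective F hv ((one_smul F v).trans this)).symm
      have he1 : e = 1 := by
        by_contra hne1
        refine hnd ?_
        have he0 : e ≠ 0 := fun h0 => by rw [h0, zero_pow (by norm_num)] at he5; exact zero_ne_one he5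
        rw [← Fintype.card_units, ← orderOf_eq_prime (x := Units.mk0 e he0) (p := 5) (Units.ext (by simpa using he5))
          (fun h => hne1 (by simpa using congrArg Units.val h))]
        exact orderOf_dvd_card
      have h := hrel a v hS'
      rw [hye, he1, one_smul, hye, he1, one_smul] at h
      refine ha (smul_left_injective F hv (show a • v = (2 : F) • v from ?_))
      linear_combination (norm := module) -h
    rw [hx1, zero_smul, add_zero] at hx
    exact ⟨(smul_eq_zero.mp hx).resolve_right hv, hx1⟩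
  let col : Fin 4 → Fin 4 → F := ![v, y *ᵥ v, v', y *ᵥ v']
  let Q : Matrix (Fin 4) (Fin 4) F := Matrix.of fun k i => col i k
  have hind : LinearIndependent F col := by
    refine Fintype.linearIndependent_iff.mpr fun x hx => ?_
    rw [Fin.sum_univ_four] at hx
    change x 0 • v + x 1 • (y *ᵥ v) + x 2 • v' + x 3 • (y *ᵥ v') = 0 at hx
    have hSy : ∀ w, S *ᵥ (y *ᵥ w) = y *ᵥ (S *ᵥ w) := fun w => by
      rw [Matrix.mulVec_mulVec, hScomm.eq, ← Matrix.mulVec_mulVec]
    have h := congrArg (S *ᵥ ·) hx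
    simp only [Matrix.mulVec_add, Matrix.mulVec_smul, Matrix.mulVec_zero, hSy, hv, hv'] at h
    have hA : (t - t') • (x 0 • v + x 1 • (y *ᵥ v)) = 0 := by linear_combination (norm := module) h - t' • hx
    have hA' := (smul_eq_zero.mp hA).resolve_left (sub_ne_zero.mpr hne)
    obtain ⟨h0, h1'⟩ := hpair t v ht2.1 hv0 hv _ _ hA'
    obtain ⟨h2, h3⟩ := hpair t' v' ht2.2 hv0' hv' (x 2) (x 3) (by linear_combination (norm := module) hx - hA')
    intro i
    fin_cases i
    exacts [h0, h1', h2, h3]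
  refine ⟨Q, ?_, ?_⟩
  · exact ((Matrix.isUnit_iff_isUnit_det _).mp
      (Matrix.linearIndependent_cols_iff_isUnit.mp (hind : LinearIndependent F Q.col))).ne_zero
  · have key : ∀ i, y *ᵥ col i = ∑ j, B5 t t' j i • col j := by
      intro i
      rw [Fin.sum_univ_four]
      fin_cases i
      · simp [col, B5]
      · simp [col, B5, hrel t v hv, -Matrix.mulVec_mulVec]; module
      · simp [col, B5]
      · simp [col, B5, hrel t' v' hv', -Matrix.mulVec_mulVec]; module
    refine Matrix.ext fun k i => ?_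
    have := congrFun (key i) k
    rw [Finset.sum_apply] at this
    refine this.trans ?_
    rw [Matrix.mul_apply]
    exact Finset.sum_congr rfl fun j _ => mul_comm _ _

set_option maxHeartbeats 2000000 in
include hF in
/-- Determinants in the centraliser of an element of order five. -/
theorem centraliser_det_five (hq : Fintype.card F % 2 = 1) (h2 : (2 : F) ≠ 0) {t : F} (htp : t ^ p = -1 - t)
    (hne : t ≠ -1 - t) (hdisc : t * t - 4 ≠ 0) {w Q : Matrix (Fin 4) (Fin 4) F} (hw : adj hF w * w = 1) (hQ : Q.det ≠ 0)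
    (hwQ : w * Q = Q * B5 t (-1 - t)) :
    ∀ μ : F, μ ^ (p + 1) = 1 → ∃ z ∈ Cfsg.GU 4 F p, z.1 * w = w * z.1 ∧ z.1.det = μ := by
  intro μ hμ
  set t' := -1 - t with ht'
  have htp' : t' ^ p = t := by rw [← htp, Unitary.pow_q_pow_q hF]
  obtain ⟨N, hN0, hN⟩ := exists_hilbert hF hμ
  -- a² + t a b + b² = N
  obtain ⟨u, b, hub⟩ : ∃ u b : F, u ^ 2 - (t * t - 4) / 4 * b ^ 2 = N := by
    obtain ⟨u, b, h⟩ := S5979.exists_quadratic_norm hq (z := (t * t - 4) / 4) (div_ne_zero hdisc (by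
      rw [show (4 : F) = 2 * 2 by norm_num]; exact mul_ne_zero h2 h2)) N
    exact ⟨u, b, by rw [← h]⟩
  set a := u - t * b / 2 with ha
  have hab : a * a + t * a * b + b * b = N := by
    have h4 : (4 : F) ≠ 0 := by rw [show (4 : F) = 2 * 2 by norm_num]; exact mul_ne_zero h2 h2
    rw [← hub, ha]
    field_simp
    ring
  have hab' : a ^ p * a ^ p + t' * a ^ p * b ^ p + b ^ p * b ^ p = N ^ p := by
    rw [← hab, Unitary.add_pow_q hF, Unitary.add_pow_q hF]
    simp only [mul_pow, htp]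
  have hNp : N ^ p ≠ 0 := pow_ne_zero _ hN0
  set k := (N ^ p)⁻¹ with hk
  have hkp : k ^ p = N⁻¹ := by rw [hk, inv_pow, Unitary.pow_q_pow_q hF]
  set Y' := adj hF w with hY'
  have hQu : IsUnit Q.det := isUnit_iff_ne_zero.mpr hQ
  have hBB : B5 t t' * B5' t t' = 1 := by
    ext i j; fin_cases i <;> fin_cases j <;> simp [B5, B5', Matrix.mul_apply, Fin.sum_univ_four]
  have hY'Q : Y' * Q = Q * B5' t t' := by
    calc Y' * Q = Y' * (Q * (B5 t t' * B5' t t')) := by rw [hBB, mul_one]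
      _ = Y' * w * Q * B5' t t' := by rw [← mul_assoc Q, ← hwQ]; simp only [mul_assoc]
      _ = _ := by rw [hw, one_mul]
  set c := (t - t')⁻¹ with hc
  have hd : t - t' ≠ 0 := sub_ne_zero.mpr hne
  have hcp : c ^ p = -c := by
    rw [hc, inv_pow, Unitary.sub_pow_q hF, htp, htp', ← neg_sub t t', inv_neg]
  set P := c • (w + Y' - t' • 1) with hP
  have hPadj : adj hF P = 1 - P := by
    rw [hP, adj_smul, adj_sub, UnitaryConj.adj_add, adj_smul, UnitaryConj.adj_one, hY', UnitaryConj.adj_adj, hcp,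
      htp', ← hY']
    have : c * (t - t') = 1 := inv_mul_cancel₀ hd
    calc -c • (Y' + w - t • 1) = (c * (t - t')) • (1 : Matrix (Fin 4) (Fin 4) F) - c • (w + Y' - t' • 1) := by module
      _ = _ := by rw [this, one_smul]
  let Pb : Matrix (Fin 4) (Fin 4) F := Matrix.diagonal ![1, 1, 0, 0]
  have hPQ : P * Q = Q * Pb := by
    have e : c • (B5 t t' + B5' t t' - t' • 1) = Pb := by
      have hcd : c * (t - t') = 1 := inv_mul_cancel₀ hd
      ext i j
      fin_cases i <;> fin_cases j <;> simp [B5, B5', Pb] <;> linear_combination hcd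
    rw [hP, ← e, Matrix.smul_mul, sub_mul, add_mul, hwQ, hY'Q, Matrix.mul_smul, mul_sub, mul_add, Matrix.smul_mul,
      Matrix.mul_smul, one_mul, mul_one]
  -- transfer of polynomials in w
  let z : Matrix (Fin 4) (Fin 4) F := P * (a • 1 + b • w) + (1 - P) * (k • (a ^ p • 1 + b ^ p • w))
  let zb : Matrix (Fin 4) (Fin 4) F := Pb * (a • 1 + b • B5 t t') + (1 - Pb) * (k • (a ^ p • 1 + b ^ p • B5 t t'))
  let zb' : Matrix (Fin 4) (Fin 4) F :=
    (a ^ p • 1 + b ^ p • B5' t t') * (1 - Pb) + (k ^ p • (a • 1 + b • B5' t t')) * Pb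
  have tmul : ∀ {A A' X X' : Matrix (Fin 4) (Fin 4) F}, A * Q = Q * A' → X * Q = Q * X' → A * X * Q = Q * (A' * X') :=
    fun h h' => by rw [mul_assoc, h', ← mul_assoc, h, mul_assoc]
  have tadd : ∀ {A A' X X' : Matrix (Fin 4) (Fin 4) F}, A * Q = Q * A' → X * Q = Q * X' → (A + X) * Q = Q * (A' + X') :=
    fun h h' => by rw [add_mul, h, h', mul_add]
  have tsmul : ∀ (e : F) {A A' : Matrix (Fin 4) (Fin 4) F}, A * Q = Q * A' → (e • A) * Q = Q * (e • A') :=
    fun e _ _ h => by rw [Matrix.smul_mul, h, Matrix.mul_smul]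
  have tone : (1 : Matrix (Fin 4) (Fin 4) F) * Q = Q * 1 := by rw [one_mul, mul_one]
  have tP' : (1 - P) * Q = Q * (1 - Pb) := by rw [sub_mul, hPQ, one_mul, mul_sub, mul_one]
  have hzQ : z * Q = Q * zb :=
    tadd (tmul hPQ (tadd (tsmul a tone) (tsmul b hwQ))) (tmul tP' (tsmul k (tadd (tsmul _ tone) (tsmul _ hwQ))))
  have hzadj : adj hF z = (a ^ p • 1 + b ^ p • Y') * (1 - P) + (k ^ p • (a • 1 + b • Y')) * P := by
    have h1P : adj hF (1 - P) = P := by rw [adj_sub, UnitaryConj.adj_one, hPadj, sub_sub_cancel]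
    simp only [z, UnitaryConj.adj_add, UnitaryConj.adj_mul, adj_smul, UnitaryConj.adj_one, hPadj, h1P,
      Unitary.pow_q_pow_q hF, ← hY']
  have hz'Q : adj hF z * Q = Q * zb' := by
    rw [hzadj]
    exact tadd (tmul (tadd (tsmul _ tone) (tsmul _ hY'Q)) tP') (tmul (tsmul _ (tadd (tsmul a tone) (tsmul b hY'Q))) hPQ)
  have hzb : zb = !![a, -b, 0, 0; b, a + b * t, 0, 0; 0, 0, k * a ^ p, -(k * b ^ p); 0, 0, k * b ^ p, k * (a ^ p + b ^ p * t')] := by
    ext i j
    fin_cases i <;> fin_cases j <;> simp [zb, Pb, B5, Matrix.one_apply, Matrix.mul_apply, Fin.sum_univ_four]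
    ring1
  have hzb' : zb' = !![k ^ p * (a + b * t), k ^ p * b, 0, 0; -(k ^ p * b), k ^ p * a, 0, 0; 0, 0, a ^ p + b ^ p * t', b ^ p; 0, 0, -(b ^ p), a ^ p] := by
    ext i j
    fin_cases i <;> fin_cases j <;> simp [zb', Pb, B5', Matrix.one_apply, Matrix.mul_apply, Fin.sum_univ_four]
    ring1
  have hkk : k ^ p * N = 1 := by rw [hkp, inv_mul_cancel₀ hN0]
  have hkk' : k * N ^ p = 1 := inv_mul_cancel₀ hNp
  have hprod : zb' * zb = 1 := by
    rw [hzb, hzb']
    ext i j
    fin_cases i <;> fin_cases j <;> simp [Matrix.mul_apply, Fin.sum_univ_four] <;>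
      first
        | ring1
        | linear_combination hkk + k ^ p * hab
        | linear_combination hkk' + k * hab'
  have hzU : adj hF z * z = 1 := by
    have h : adj hF z * z * Q = 1 * Q := by rw [mul_assoc, hzQ, ← mul_assoc, hz'Q, mul_assoc, hprod, mul_one, one_mul]
    exact ((Matrix.isUnit_iff_isUnit_det Q).mpr hQu).mul_right_cancel h
  obtain ⟨g, hg, hgz⟩ := exists_gu hF hzU
  refine ⟨g, hg, ?_, ?_⟩
  · have hzB : zb * B5 t t' = B5 t t' * zb := by
      rw [hzb]
      ext i j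
      fin_cases i <;> fin_cases j <;> simp [B5, Matrix.mul_apply, Fin.sum_univ_four] <;> ring
    rw [hgz]
    exact ((Matrix.isUnit_iff_isUnit_det Q).mpr hQu).mul_right_cancel (by rw [tmul hzQ hwQ, tmul hwQ hzQ, hzB])
  · have hd : z.det = zb.det := by
      have := congrArg Matrix.det hzQ
      rw [Matrix.det_mul, Matrix.det_mul, mul_comm] at this
      exact mul_left_cancel₀ hQ this
    rw [hgz, hd, hzb, Matrix.det_succ_row_zero, Fin.sum_univ_four]
    simp [Matrix.det_fin_three, Fin.succAbove]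
    linear_combination (k * k * N) * hab' + (k * k * (a ^ p * a ^ p + t' * a ^ p * b ^ p + b ^ p * b ^ p)) * hab +
      (k * N) * hkk' - k * hN + μ * hkk'

end Five

section Models

/-- `T ⊗ 1` up to the factor `α`. -/
abbrev W1 (ι : F) : Matrix (Fin 4) (Fin 4) F := !![1, 0, ι, 0; 0, 1, 0, ι; 1, 0, -ι, 0; 0, 1, 0, -ι]
/-- `1 ⊗ T` up to the factor `α`. -/
abbrev W1' (ι : F) : Matrix (Fin 4) (Fin 4) F := !![1, ι, 0, 0; 1, -ι, 0, 0; 0, 0, 1, ι; 0, 0, 1, -ι]
/-- The swap of the factors. -/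
abbrev W2 : Matrix (Fin 4) (Fin 4) F := !![1, 0, 0, 0; 0, 0, 1, 0; 0, 1, 0, 0; 0, 0, 0, 1]
/-- An element inducing an element of order five, up to a scalar. -/
abbrev W5 (ι : F) : Matrix (Fin 4) (Fin 4) F := !![1, 0, 0, ι; 0, ι, -1, 0; 1, 0, 0, -ι; 0, ι, 1, 0]

variable {ι : F}

theorem adj_W1 (hι : ι * ι = -1) (hc : ι ^ p = -ι) :
    adj hF (W1 ι) * W1 ι = (2 : F) • 1 ∧ adj hF (W1' ι) * W1' ι = (2 : F) • 1 ∧
      adj hF W2 * (W2 : Matrix (Fin 4) (Fin 4) F) = 1 ∧ adj hF (W5 ι) * W5 ι = (2 : F) • 1 := by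
  have hz := Unitary.zero_pow_q hF
  have hn : ∀ x : F, (-x) ^ p = -x ^ p := Unitary.neg_pow_q hF
  have ha : ∀ (M : Matrix (Fin 4) (Fin 4) F) i j, adj hF M i j = (M j i) ^ p := adj_apply hF
  refine ⟨?_, ?_, ?_, ?_⟩ <;> ext i j <;> fin_cases i <;> fin_cases j <;>
    simp [Matrix.mul_apply, Fin.sum_univ_four, ha, hz, hn, hc, hι, -Unitary.conjHom_apply] <;> ring

theorem adj_smul_mul {M : Matrix (Fin 4) (Fin 4) F} {c e : F} (h : adj hF M * M = e • 1) (hce : c ^ p * c * e = 1) :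
    adj hF (c • M) * (c • M) = 1 := by
  rw [adj_smul, Matrix.smul_mul, Matrix.mul_smul, h, smul_smul, smul_smul, hce, one_smul]

theorem cube_T (h2 : (2 : F) ≠ 0) (hι : ι * ι = -1) :
    let α := -(1 + ι) / 2
    (α • W1 ι) * (α • W1 ι) * (α • W1 ι) = 1 ∧ (α • W1' ι) * (α • W1' ι) * (α • W1' ι) = 1 := by
  intro α
  have hα : 2 * α = -(1 + ι) := by simp only [α]; field_simp
  have hα3 : 4 * (α * α * α) = 1 - ι := by
    refine mul_left_cancel₀ h2 ?_
    linear_combination ((2 * α) ^ 2 - (2 * α) * (1 + ι) + (1 + ι) ^ 2) * hα - (ι + 3) * hι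
  have hw : W1 ι * W1 ι * W1 ι = (2 * (1 + ι)) • (1 : Matrix (Fin 4) (Fin 4) F) ∧
      W1' ι * W1' ι * W1' ι = (2 * (1 + ι)) • (1 : Matrix (Fin 4) (Fin 4) F) := by
    constructor <;> ext i j <;> fin_cases i <;> fin_cases j <;>
      simp [Matrix.mul_apply, Fin.sum_univ_four] <;>
      first
        | ring1
        | linear_combination hι
        | linear_combination -hι
        | linear_combination ι * hι
        | linear_combination -ι * hι
        | linear_combination (3 : F) * hι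
        | linear_combination -(3 : F) * hι
        | linear_combination (2 + ι) * hι
        | linear_combination -(2 + ι) * hι
  have hsc : α * α * α * (2 * (1 + ι)) = 1 := by
    refine mul_left_cancel₀ h2 ?_
    linear_combination (1 + ι) * hα3 - hι
  constructor <;> simp only [Matrix.smul_mul, Matrix.mul_smul, smul_smul]
  · rw [hw.1, smul_smul, show α * (α * α) * (2 * (1 + ι)) = 1 by linear_combination hsc, one_smul]
  · rw [hw.2, smul_smul, show α * (α * α) * (2 * (1 + ι)) = 1 by linear_combination hsc, one_smul]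

include hF in
/-- Determinants in the centraliser of a diagonal involution or the swap. -/
theorem centraliser_det_corner {W : Matrix (Fin 4) (Fin 4) F}
    (hW : ∀ μ : F, Matrix.diagonal ![μ, 1, 1, 1] * W = W * Matrix.diagonal ![μ, 1, 1, 1]) :
    ∀ μ : F, μ ^ (p + 1) = 1 → ∃ z ∈ Cfsg.GU 4 F p, z.1 * W = W * z.1 ∧ z.1.det = μ := by
  intro μ hμ
  have h : adj hF (Matrix.diagonal ![μ, 1, 1, 1]) * Matrix.diagonal ![μ, 1, 1, 1] = 1 := by
    ext i j
    fin_cases i <;> fin_cases j <;>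
      simp [Matrix.mul_apply, Fin.sum_univ_four, adj_apply, Unitary.zero_pow_q hF, ← pow_succ, hμ]
  obtain ⟨g, hg, hgz⟩ := exists_gu hF h
  exact ⟨g, hg, by rw [hgz, hW], by rw [hgz, Matrix.det_diagonal, Fin.prod_univ_four]; simp⟩

include hF in
/-- Determinants in the centraliser of an element of order three with fixed points. -/
theorem centraliser_det_TT (h2 : (2 : F) ≠ 0) (c : F) :
    ∀ μ : F, μ ^ (p + 1) = 1 →
      ∃ z ∈ Cfsg.GU 4 F p, z.1 * (c • (W1 ι * W1' ι)) = (c • (W1 ι * W1' ι)) * z.1 ∧ z.1.det = μ := by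
  intro μ hμ
  set u := (1 + μ) / 2 with hu
  set v := (1 - μ) / 2 with hv
  have huv : u + v = 1 := by rw [hu, hv]; field_simp; ring
  have huv' : u - v = μ := by rw [hu, hv]; field_simp; ring
  have hup : u ^ p + v ^ p = 1 := by rw [← Unitary.add_pow_q hF, huv, one_pow]
  have hup' : u ^ p - v ^ p = μ ^ p := by rw [← Unitary.sub_pow_q hF, huv']
  have hμ' : μ ^ p * μ = 1 := by rw [← pow_succ, hμ]
  let Z : Matrix (Fin 4) (Fin 4) F := !![1, 0, 0, 0; 0, u, v, 0; 0, v, u, 0; 0, 0, 0, 1]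
  have hd : u ^ p * u + v ^ p * v = 1 ∧ u ^ p * v + v ^ p * u = 0 := by
    constructor <;> refine mul_left_cancel₀ h2 ?_
    · linear_combination (u + v) * hup + huv + (u - v) * hup' + μ ^ p * huv' + hμ'
    · linear_combination (u + v) * hup + huv - (u - v) * hup' - μ ^ p * huv' - hμ'
  have h : adj hF Z * Z = 1 := by
    ext i j
    fin_cases i <;> fin_cases j <;>
      simp [Z, Matrix.mul_apply, Fin.sum_univ_four, adj_apply, Unitary.zero_pow_q hF] <;>
      first | linear_combination hd.1 | linear_combination hd.2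
  obtain ⟨g, hg, hgz⟩ := exists_gu hF h
  refine ⟨g, hg, ?_, ?_⟩
  · rw [hgz, Matrix.mul_smul, Matrix.smul_mul]
    congr 1
    have hv' : v = 1 - u := by linear_combination huv
    ext i j
    fin_cases i <;> fin_cases j <;> simp [Z, hv', Matrix.mul_apply, Fin.sum_univ_four] <;> ring
  · rw [hgz, Matrix.det_succ_row_zero, Fin.sum_univ_four]
    simp [Z, Matrix.det_fin_three, Fin.succAbove]
    linear_combination (u - v) * huv + huv'

include hF in
/-- Determinants in the centraliser of an element of order three without fixed points. -/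
theorem centraliser_det_T (h2 : (2 : F) ≠ 0) (hι : ι * ι = -1) {ω : F} (hω : ω * ω + ω + 1 = 0) (hωp : ω ^ p = ω)
    (h3 : (3 : F) ≠ 0) (hc : ι ^ p = -ι) :
    ∀ μ : F, μ ^ (p + 1) = 1 → ∃ z ∈ Cfsg.GU 4 F p,
      z.1 * ((-(1 + ι) / 2) • W1 ι) = ((-(1 + ι) / 2) • W1 ι) * z.1 ∧ z.1.det = μ := by
  intro μ hμ
  obtain ⟨α, hα⟩ : ∃ α, α = -(1 + ι) / 2 := ⟨_, rfl⟩
  rw [← hα]
  have hα2 : 2 * α = -(1 + ι) := by rw [hα]; field_simp
  have hαp2 : 2 * α ^ p = -(1 - ι) := by
    have h := congrArg (· ^ p) hα2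
    rw [mul_pow, Unitary.neg_pow_q hF, Unitary.add_pow_q hF, one_pow, hc,
      show (2 : F) = 1 + 1 by norm_num, Unitary.add_pow_q hF, one_pow] at h
    linear_combination h
  have haa : 2 * α ^ p * (2 * α) = 2 := by rw [hα2, hαp2]; linear_combination -hι
  obtain ⟨d, hd0, hd⟩ := exists_hilbert hF hμ
  obtain ⟨e, he⟩ : ∃ e, e = μ / d := ⟨_, rfl⟩
  have hde : d * e = μ := by rw [he]; field_simp
  have hed : e ^ p * d = 1 := by
    rw [he, div_pow, div_mul_eq_mul_div, div_eq_one_iff_eq (pow_ne_zero _ hd0)]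
    calc μ ^ p * d = μ ^ p * (d ^ p * μ) := by rw [hd]
      _ = μ ^ (p + 1) * d ^ p := by ring
      _ = d ^ p := by rw [hμ, one_mul]
  have hde' : d ^ p * e = 1 := by
    have h := congrArg (· ^ p) hed
    simp only [mul_pow, Unitary.pow_q_pow_q hF, one_pow] at h
    linear_combination h
  have hω3 : ω * ω * ω = 1 := by linear_combination (ω - 1) * hω
  have hωd : ω - ω * ω ≠ 0 := by
    intro h0
    refine h3 ?_
    have h1 : ω = 1 := by
      refine sub_eq_zero.mp ((mul_eq_zero.mp (show ω * (ω - 1) = 0 by linear_combination -h0)).resolve_left ?_)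
      intro hz
      simp [hz] at hω
    rw [h1] at hω
    linear_combination hω
  obtain ⟨s, hsd⟩ : ∃ s, s * (ω - ω * ω) = d - e := ⟨(d - e) / (ω - ω * ω), div_mul_cancel₀ _ hωd⟩
  have hsp : s ^ p * (ω - ω * ω) = d ^ p - e ^ p := by
    have h := congrArg (· ^ p) hsd
    simp only [mul_pow, Unitary.sub_pow_q hF, hωp] at h
    exact h
  have hes : e * s ^ p = e ^ p * s :=
    mul_right_cancel₀ hωd (by linear_combination e * hsp - e ^ p * hsd + hde' - hed)
  obtain ⟨u, hu⟩ : ∃ u, u = e - s * (ω * ω) := ⟨_, rfl⟩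
  have hup : u ^ p = e ^ p - s ^ p * (ω * ω) := by rw [hu, Unitary.sub_pow_q hF, mul_pow, mul_pow, hωp]
  have h1 : u ^ p * u + s ^ p * s - u * s ^ p = 1 := by
    linear_combination u * hup + (e ^ p + s ^ p * ω) * hu - u * s ^ p * hω - s ^ p * s * hω3 + ω * hes + e ^ p * hsd +
      hed
  have h2' : u ^ p * s - u * s ^ p = 0 := by linear_combination s * hup - s ^ p * hu - hes
  let Z : Matrix (Fin 4) (Fin 4) F :=
    !![u + s * α, 0, s * α * ι, 0; 0, 1, 0, 0; s * α, 0, u - s * α * ι, 0; 0, 0, 0, 1]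
  have h44 : (2 * 2 : F) ≠ 0 := mul_ne_zero h2 h2
  have hh : adj hF Z * Z = 1 := by
    ext i j
    fin_cases i <;> fin_cases j <;>
      simp [Z, Matrix.mul_apply, Fin.sum_univ_four, adj_apply, Unitary.zero_pow_q hF, mul_pow,
        Unitary.add_pow_q hF, Unitary.sub_pow_q hF, hc] <;>
      (refine mul_left_cancel₀ h44 ?_
       first
        | linear_combination 4 * h1 - 2 * (1 + ι) * h2' + 2 * u ^ p * s * hα2 + 2 * u * s ^ p * hαp2 + 2 * s ^ p * s * haa
        | linear_combination 4 * h1 + 2 * (ι - 1) * h2' - 2 * ι * (u ^ p * s) * hα2 + 2 * ι * (u * s ^ p) * hαp2 -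
            2 * ι * ι * (s ^ p * s) * haa + (2 * u ^ p * s + 2 * u * s ^ p - 4 * s ^ p * s) * hι
        | linear_combination -2 * (ι - 1) * h2' + 2 * ι * (u ^ p * s) * hα2 + 2 * (u * s ^ p) * hαp2 - 2 * (u ^ p * s) * hι
        | linear_combination -2 * (1 + ι) * h2' + 2 * (u ^ p * s) * hα2 - 2 * ι * (u * s ^ p) * hαp2 - 2 * (u * s ^ p) * hι)
  obtain ⟨g, hg, hgz⟩ := exists_gu hF hh
  refine ⟨g, hg, ?_, ?_⟩
  · rw [hgz, Matrix.mul_smul, Matrix.smul_mul]
    congr 1
    ext i j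
    fin_cases i <;> fin_cases j <;> simp [Z, Matrix.mul_apply, Fin.sum_univ_four] <;> ring
  · rw [hgz, Matrix.det_succ_row_zero, Fin.sum_univ_four]
    simp [Z, Matrix.det_fin_three, Fin.succAbove]
    refine mul_left_cancel₀ h44 ?_
    linear_combination 2 * u * s * (1 - ι) * hα2 - 2 * ι * s * s * (2 * α - (1 + ι)) * hα2 +
      (2 * u * s - 2 * ι * s * s - 4 * s * s) * hι +
      4 * ((u + e - s * (ω * ω) - s) * hu + (-(e * s) + s * s * (ω * ω - ω + 1)) * hω + e * hsd + hde)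

end Models

end Cfsg.Agent.PrimeOrderElt.UFour
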